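import Cfsg.Agent.H9.PFa

/-! Peterfalvi section 8 (weak type I): the Dade isometries of the maximal subgroups. -/

set_option autoImplicit false
open Subgroup Cfsg CfsgH3 CfsgH2 Function
open scoped commutatorElement

namespace CfsgPF

variable {G : Type*} [Group G] {H K L M N P S T U V W₁ W₂ : Subgroup G} {A B : Set G}
  {g x y a : G} {p : ℕ}

/-- The Dade isometry of a maximal subgroup, relative to `A₀(M)`. -/
noncomputable def tau (M : Subgroup G) : (M → ℂ) →ₗ[ℂ] (G → ℂ) := dadeLin (typeA0 M) M (supportR M)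

theorem supp_tau {α : M → ℂ} (h : Supp (sub M A) α) : Supp (tildeOf M A) (tau M α) := fun g hg => by
  by_contra e
  obtain ⟨a, -, h1, x, u, hu, h2⟩ := dade_ne_zero e
  exact hg ⟨a, by_contra fun e => h1 (h a e), u, hu, x⁻¹, by rw [← h2]; group⟩
theorem typeA_subset : typeA M ⊆ typeA0 M := Set.subset_union_left
theorem mem_typeA_I (h : IsOfTypeI M) :
    a ∈ typeA M ↔ a ∈ M ∧ a ≠ 1 ∧ ∃ x ∈ MF[M], x ≠ 1 ∧ a * x = x * a := by
  rw [typeA, if_pos h]; rfl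
theorem typeA0_I (h : IsOfTypeI M) : typeA0 M = typeA M :=
  Set.union_eq_left.2 fun _ e => absurd h e.1

variable [Finite G]
theorem mem_typeA0_P (h : IsTypePWith M W₁ U W₂) : a ∈ typeA0 M ↔ a ∈ typeA M ∨
    ∃ m ∈ M, ∃ x ∈ W₁, ∃ y ∈ W₂, x ≠ 1 ∧ y ≠ 1 ∧ a = m * (x * y) * m⁻¹ := by
  refine or_congr_right ⟨?_, ?_⟩
  · rintro ⟨-, _, _, _, h', m, hm, w, h0, h1, h2, rfl⟩
    obtain ⟨k, hk, rfl, rfl⟩ := h.conj_W h'
    rw [← Subgroup.map_sup] at h0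
    rw [mem_map_cj] at h0 h1 h2
    obtain ⟨x, hx, y, hy, x1, y1, e⟩ := snc_exists h.selfNormalizing h0 h1 h2
    exact ⟨m * k, mul_mem hm hk, x, hx, y, hy, x1, y1, by rw [← e]; group⟩
  · rintro ⟨m, hm, x, hx, y, hy, x1, y1, rfl⟩
    obtain ⟨a, b, c⟩ := snc_mul h.selfNormalizing hx hy x1 y1
    exact ⟨h.not_tI, _, _, _, h, m, hm, _, a, b, c, rfl⟩

variable [hG : BGI G]
theorem typeA1_eq (hM : IsCoatom M) : typeA1 M = shp Ms[M] := by rw [typeA1, typeCore_eq hM]; rfl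
theorem mem_typeA_P (hM : IsCoatom M) (h : ¬ IsOfTypeI M) :
    a ∈ typeA M ↔ a ∈ D[M] ∧ a ≠ 1 ∧ ∃ x ∈ Ms[M], x ≠ 1 ∧ a * x = x * a := by
  rw [typeA, if_neg h, typeCore_eq hM]; rfl
theorem typeA_spec (hM : IsCoatom M) (h : a ∈ typeA M) :
    a ∈ M ∧ a ≠ 1 ∧ ∃ x ∈ Ms[M], x ≠ 1 ∧ a * x = x * a := by
  by_cases e : IsOfTypeI M
  · rw [ms_typeI hM e]; exact (mem_typeA_I e).1 h
  · exact ((mem_typeA_P hM e).1 h).imp_left fun h => der_le h
theorem shp_ms_subset (hM : IsCoatom M) : shp Ms[M] ⊆ typeA M := fun a ha => by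
  by_cases e : IsOfTypeI M
  · exact (mem_typeA_I e).2 ⟨piCoreOf_le ha.1, ha.2, a, ms_typeI hM e ▸ ha.1, ha.2, rfl⟩
  · exact (mem_typeA_P hM e).2 ⟨ms_le_der hM ha.1, ha.2, a, ha.1, ha.2, rfl⟩
theorem shp_ms_subset0 (hM : IsCoatom M) : shp Ms[M] ⊆ typeA0 M :=
  (shp_ms_subset hM).trans typeA_subset
theorem typeA_not_II (hM : IsCoatom M) (h : IsTypePWith M W₁ U W₂) (h2 : ¬ IsOfTypeII M) :
    typeA M = shp D[M] :=
  subset_antisymm (fun _ ha => ((mem_typeA_P hM h.not_tI).1 ha).imp_right And.left)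
    (ms_of_not_II hM h h2 ▸ shp_ms_subset hM)
theorem conj_mem_typeA (hM : IsCoatom M) : ∀ x ∈ M, ∀ a ∈ typeA M, x * a * x⁻¹ ∈ typeA M := by
  intro x hx a ha
  have key : ∀ {H K : Subgroup G}, M ≤ N[H] → M ≤ N[K] →
      (a ∈ H ∧ a ≠ 1 ∧ ∃ y ∈ K, y ≠ 1 ∧ a * y = y * a) → (x * a * x⁻¹ ∈ H ∧ x * a * x⁻¹ ≠ 1 ∧
        ∃ y ∈ K, y ≠ 1 ∧ x * a * x⁻¹ * y = y * (x * a * x⁻¹)) := fun h1 h2 ⟨b, c, y, d, e, f⟩ =>
    ⟨conj_mem_of_norm (h1 hx) b, by simpa using c, x * y * x⁻¹, conj_mem_of_norm (h2 hx) d,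
      by simpa using e, by rw [conj_mul, conj_mul, f]⟩
  by_cases e : IsOfTypeI M
  · exact (mem_typeA_I e).2 (key le_normalizer le_norm_mf ((mem_typeA_I e).1 ha))
  · exact (mem_typeA_P hM e).2 (key le_norm_der le_norm_piCoreOf ((mem_typeA_P hM e).1 ha))
theorem mu_of_A0 (hM : IsCoatom M) (hx : x ∈ typeA0 M) (h : ¬ C1[x] ≤ M) :
    x ∈ shp Ms[M] ∧ ∃ L, Mu C1[x] L :=
  ((hG.s1391 M hM _ (.inr rfl)).2.1 x hx h).imp (typeA1_eq hM ▸ ·) uq_iff.1
/-- (8.15) -/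
theorem dade_A0 (hM : IsCoatom M) : DadeHypothesis (typeA0 M) M (supportR M) := by
  obtain ⟨h1, -, h3⟩ := hG.s1391 M hM _ (.inr rfl)
  have h4 : ∀ a ∈ typeA0 M, C1[a] ≤ M ∧ supportR M a = ⊥ ∨ ∃ L, IsCoatom L ∧ ¬ C1[a] ≤ M ∧
      C1[a] ≤ L ∧ supportR M a = MF[L] ⊓ C1[a] := fun a ha => by
    by_cases e : C1[a] ≤ M
    · exact .inl ⟨e, supportR_of_le e⟩
    · obtain ⟨-, L, hL⟩ := mu_of_A0 hM ha e
      exact .inr ⟨L, hL.max, e, hL.le, supportR_eq e hL⟩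
  refine ⟨?_, ?_, ?_, h1, fun a ha => ?_, fun a ha => ?_, fun a ha => ?_, fun a ha => ?_,
    fun a ha b hb => ?_⟩
  · rintro (e | ⟨-, _, _, _, -, m, -, w, -, e, -, e'⟩)
    · exact (typeA_spec hM e).2.1 rfl
    · exact e ((conj_eq_one_iff.1 e'.symm) ▸ one_mem _)
  · rintro a (e | ⟨-, _, _, _, h, m, hm, w, hw, -, -, rfl⟩)
    · exact (typeA_spec hM e).1
    · exact mul_mem (mul_mem hm (h.W_le hw)) (inv_mem hm)
  · rintro x hx a (e | ⟨e, _, _, _, h, m, hm, w, hw, e1, e2, rfl⟩)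
    · exact .inl (conj_mem_typeA hM x hx a e)
    · exact .inr ⟨e, _, _, _, h, x * m, mul_mem hx hm, w, hw, e1, e2, by group⟩
  all_goals obtain ⟨e1, e⟩ | ⟨L, hL, e1, e2, e⟩ := h4 a ha <;> rw [e]
  · exact bot_le
  · exact inf_le_right
  · simp
  · exact fun c hc u hu => conj_mem_of_norm ((h3 a ha e1 L hL e2).2.1 hc) hu
  · exact bot_inf_eq _
  · exact (h3 a ha e1 L hL e2).2.2.1.disj
  · rw [bot_sup_eq, inf_eq_right.2 e1]
  · exact (h3 a ha e1 L hL e2).2.2.1.sup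
  · simp
  · exact ((h3 a ha e1 L hL e2).2.2.2.1 b hb).coprime_dvd_left (card_dvd_of_le inf_le_left)
/-- TI-property of an invariant part of `A₀(M)` needing no support. -/
theorem ti_of_cent (hM : IsCoatom M) (hx : x ∈ typeA0 M) (h : C1[x] ≤ M)
    (hg : g * x * g⁻¹ ∈ typeA0 M) : g ∈ M := by
  obtain ⟨m, hm, e⟩ := (dade_A0 hM).fusion x hx g hg
  refine (mul_mem_cancel_left (inv_mem hm)).1 (h (mem_centralizer_singleton_iff.2 ?_))
  calc m⁻¹ * g * x = m⁻¹ * (g * x * g⁻¹) * g := by group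
    _ = _ := by rw [← e]; group
/-- (8.16) -/
theorem typeII_cent (hM : IsCoatom M) (h2 : IsOfTypeII M) (hx : x ∈ typeA0 M) : C1[x] ≤ M := by
  by_contra e
  obtain ⟨_, _, _, h, hU, -⟩ := id h2
  have := (mu_of_A0 hM hx e).1
  exact e (tp_cent hM h hU (mf_le_fit (ms_typeII hM h2 ▸ this.1)) this.2)
/-- (8.13)(c) for a group of type P: the supporting subgroups have type I. -/
theorem support_typeI (hM : IsCoatom M) (h : IsTypePWith M W₁ U W₂) (hx : x ∈ typeA0 M)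
    (h1 : ¬ C1[x] ≤ M) (hL : IsCoatom L) (h2 : C1[x] ≤ L) :
    IsOfTypeI L ∧ x ∈ typeA L ∧ x ∉ MF[L] := by
  obtain ⟨-, -, -, -, ⟨a, b⟩, c, d⟩ := (hG.s1391 M hM _ (.inr rfl)).2.2 x hx h1 L hL h2
  have e : IsOfTypeI L := c.resolve_right fun e => by
    obtain ⟨E, hE⟩ := d e
    exact h.not_frob (CfsgH1.frob_top_iff.2 hE)
  exact ⟨e, a, fun f => b (typeA1_eq hL ▸ ⟨ms_typeI hL e ▸ f, (typeA_spec hL a).2.1⟩)⟩
theorem tilde_pow (hM : IsCoatom M) (hA : A ⊆ typeA0 M) (h : g ∈ tildeOf M A) :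
    ∃ a ∈ A, ∃ y : G, y * a * y⁻¹ ∈ zpowers g := by
  obtain ⟨a, ha, r, hr, y, rfl⟩ := h
  obtain ⟨k, -, hk⟩ := (dade_A0 hM).exists_pow
  refine ⟨a, ha, y, ?_⟩
  conv => enter [2]; rw [← (hk a (hA ha) _).2 ⟨r, hr, rfl⟩, ← conj_pow]
  exact npow_mem_zpowers _ k
theorem tilde_not_coprime (hM : IsCoatom M) (hH : shp H ⊆ typeA0 M) (h : g ∈ tildeOf M (shp H)) :
    ¬ (orderOf g).Coprime o[H] := fun e => by
  obtain ⟨a, ha, y, hy⟩ := tilde_pow hM hH h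
  have h1 := orderOf_dvd_of_mem_zpowers hy
  rw [show y * a * y⁻¹ = MulAut.conj y a from rfl, MulEquiv.orderOf_eq] at h1
  exact ha.2 (orderOf_eq_one_iff.1 (Nat.eq_one_of_dvd_coprimes e h1 (orderOf_dvd_of_mem ha.1)))
/-- (8.17)(c) -/
theorem tilde_disj (hM : IsCoatom M) (hN : IsCoatom N) (h : ¬ Cj M N) :
    Disjoint (tildeOf M (shp Ms[M])) (tildeOf N (shp Ms[N])) :=
  Set.disjoint_iff_inter_eq_empty.2 (hG.s1379.1 M N hM hN fun g e => h ⟨g, e⟩)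
theorem tilde_cover (h : ∀ M : Subgroup G, IsCoatom M → IsOfTypeI M) (hg : g ≠ 1) :
    ∃ M : Subgroup G, IsCoatom M ∧ g ∈ tildeOf M (shp Ms[M]) := by
  refine hG.s1379.2.1 (fun M hM => Set.eq_empty_of_forall_notMem fun p hp => ?_) g hg
  obtain ⟨K, U, e⟩ := exists_dec hM
  obtain ⟨rfl, -⟩ := (hG.s1380 M hM K U e).1 (h M hM)
  exact e.hall.2.2 p hp.1 hp (by simpa using hp.2.1)
/-- (8.12)(b) -/
theorem mu_of_typeA (hM : IsCoatom M) (h : IsOfTypeI M ∨ IsOfTypeII M) (hx : x ∈ typeA M)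
    (ho : (orderOf x).Coprime o[MF[M]]) : Mu C1[x] M := by
  obtain ⟨hxM, x1, y, hy, y1, e⟩ := typeA_spec hM hx
  rw [h.elim (ms_typeI hM) (ms_typeII hM)] at hy
  obtain ⟨U, hU, hxU⟩ : ∃ U, (IsOfTypeI M ∧ IsComplIn MF[M] U M ∨
      IsOfTypeII M ∧ IsComplIn MF[M] U D[M]) ∧ x ∈ U := by
    rcases h with h | h
    · obtain ⟨U, a, b, c, d⟩ := exists_compl mf_le le_norm_mf (mf_cop (M := M))
      have f := complIn_of b c (.inr (a.trans le_norm_mf))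
      obtain ⟨k, hk, e⟩ := f.exists_le le_norm_mf (d ▸ mf_cop.symm) mf_sol hxM ho
      have := f.map_cj k⁻¹
      rw [map_cj_of_mem (inv_mem hk), map_cj_of_mem (inv_mem (mf_le hk))] at this
      exact ⟨_, .inl ⟨h, this⟩, mem_map_cj.2 (by rwa [inv_inv])⟩
    · obtain ⟨_, U, _, f, -⟩ := id h
      obtain ⟨k, hk, e⟩ := f.U_compl.exists_le (der_le.trans le_norm_mf) f.copU mf_sol
        ((mem_typeA_P hM f.not_tI).1 hx).1 ho
      exact ⟨_, .inr ⟨h, (f.map_cj_mem (inv_mem (mf_le hk))).U_compl⟩,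
        mem_map_cj.2 (by rwa [inv_inv])⟩
  obtain ⟨a, b⟩ := (hG.s1390 M hM U hU).2.1 {x} (by simp [hxU, x1]) (Set.singleton_nonempty x)
    fun f => y1 (mem_bot.1 (f ▸ ⟨hy, mem_centralizer_singleton_iff.2 e.symm⟩))
  exact ⟨hM, a, b⟩
/-- The case of (8.18) used in (10.7). -/
theorem tilde_disj_II (hM : IsCoatom M) (h : IsTypePWith M W₁ U W₂) (hS : IsCoatom S)
    (h2 : IsOfTypeII S) (hc : ¬ Cj M S) : Disjoint (tildeOf M (shp Ms[M])) (cls (typeA S)) := by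
  rw [Set.disjoint_left]
  rintro g hg ⟨z, hz⟩
  obtain ⟨x, hx, y, k, hk⟩ := tilde_pow hM (shp_ms_subset0 hM) hg
  obtain ⟨_, _, _, hS', -⟩ := id h2
  obtain ⟨a, b, w, c, d, e⟩ := (mem_typeA_P hS hS'.not_tI).1 hz
  have h1 : z * y * x * (z * y)⁻¹ = (z * g * z⁻¹) ^ k := by
    rw [conj_zpow, show g ^ k = _ from hk]; group
  have h3 : z * y * x * (z * y)⁻¹ ∈ typeA S := (mem_typeA_P hS hS'.not_tI).2
    ⟨h1 ▸ zpow_mem a k, mt conj_eq_one_iff.1 hx.2, w, c, d, h1 ▸ (Commute.zpow_left e k).eq⟩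
  have h4 := (mu_of_typeA hS (.inr h2) h3 (by
    rw [show z * y * x * (z * y)⁻¹ = MulAut.conj (z * y) x from rfl, MulEquiv.orderOf_eq,
      ← ms_typeII hS h2]
    exact (coprime_ms hM hS hc).coprime_dvd_left (orderOf_dvd_of_mem hx.1))).map_cj (z * y)⁻¹
  rw [centralizer_conj, map_cj_inv_cj] at h4
  have h5 : ¬ C1[x] ≤ M := fun e => hc (h4.eq M hM e ▸ (cj_map_cj S _).symm)
  exact (hS'.map_cj _).not_tI (support_typeI hM h (shp_ms_subset0 hM hx) h5 h4.max h4.le).1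

end CfsgPF

namespace CfsgPF
variable {G : Type*} [Group G] [Fintype G] [hG : BGI G] {H K L M N P S T U V W₁ W₂ : Subgroup G}
  {A B : Set G} {g x y a : G} {p : ℕ} {α : M → ℂ}

theorem oddG : Odd (Nat.card G) := by simpa using ms_odd (⊤ : Subgroup G)
theorem tau_tau (hM : IsCoatom M) (hA : A ⊆ typeA0 M) : Tau (sub M A) (tau M) :=
  (tau_dade (dade_A0 hM)).mono fun _ h => hA h
theorem tau_apply (hM : IsCoatom M) (hα : IsClassFunction M α) {a : M} (ha : (a : G) ∈ typeA0 M)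
    {u z : G} (hu : u ∈ supportR M a) : tau M α (z * (a * u) * z⁻¹) = α a :=
  (dade_A0 hM).dade_apply hα ha hu (x := z⁻¹) (by group)
theorem tau_apply' (hM : IsCoatom M) (hα : IsClassFunction M α) {a : M}
    (ha : (a : G) ∈ typeA0 M) : tau M α a = α a := by
  simpa using tau_apply hM hα ha (one_mem _) (z := 1)
theorem tau_eq_ind (hM : IsCoatom M) (hα : IsClassFunction M α) (hA : A ⊆ typeA0 M)
    (h0 : Supp (sub M A) α) (h : ∀ a ∈ A, C1[a] ≤ M) : tau M α = indFun M α :=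
  (dade_A0 hM).eq_ind hα hA h0 fun a ha => supportR_of_le (h a ha)
theorem dens_tilde (hM : IsCoatom M) (hA : A ⊆ typeA0 M)
    (hn : ∀ x ∈ M, ∀ a ∈ A, x * a * x⁻¹ ∈ A) : dens (tildeOf M A) = A.ncard / o[M] := by
  have h1 : IsClassFunction M ((sub M A).indicator fun _ => 1) :=
    (isClassFunction_const 1).indicator fun x z hx => hn z z.2 x hx
  have h2 : tau M ((sub M A).indicator fun _ => 1) = (tildeOf M A).indicator fun _ => 1 := by
    ext g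
    by_cases e : g ∈ tildeOf M A
    · rw [Set.indicator_of_mem e]
      obtain ⟨a, ha, r, hr, y, rfl⟩ := e
      rw [tau_apply hM h1 (a := ⟨a, (dade_A0 hM).subset (hA ha)⟩) (hA ha) hr,
        Set.indicator_of_mem (by exact ha)]
    · rw [Set.indicator_of_notMem e, supp_tau (supp_indicator _ _) g e]
  rw [← nsq_one, nsq, ← h2, (tau_tau hM hA).iso _ _ h1 (supp_indicator _ _) h1]
  refine (nsq_one (sub M A)).trans ?_
  rw [dens, ← Set.ncard_image_of_injective _ M.subtype_injective]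
  congr 3
  exact Set.image_preimage_eq_of_subset fun a ha => ⟨⟨a, (dade_A0 hM).subset (hA ha)⟩, rfl⟩
theorem dens_tilde_shp (hM : IsCoatom M) (hA : shp H ⊆ typeA0 M) (hn : M ≤ N[H]) :
    dens (tildeOf M (shp H)) = (o[H] - 1) / o[M] := by
  rw [dens_tilde hM hA (conj_mem_shp' hn), ncard_shp]

variable (hM : IsCoatom M) (h : IsTypePWith M W₁ U W₂) {η : Ch W₁ → Ch W₂ → G → ℂ}
  (hη : Eta W₁.subtype W₂.subtype η)

/-- Hypothesis (4.2) for a maximal subgroup of type P. -/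
noncomputable def tpG : G4 M W₁ W₂ where
  K := D[M].subgroupOf M
  a := inclusion h.W₁_le
  b := inclusion h.W₂_le_M
  π := (exists_proj_compl h.W₁_compl le_norm_der).choose
  cyc := ⟨h.W₁_cyclic, h.W₂_cyc, ms_odd _, ms_odd _, mt card_eq_one.1 h.W₁_ne,
    mt card_eq_one.1 h.W₂_ne, h.copW⟩
  πa := (exists_proj_compl h.W₁_compl le_norm_der).choose_spec.1
  memK := (exists_proj_compl h.W₁_compl le_norm_der).choose_spec.2
  injb := inclusion_injective _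
  bK := fun y => h.W₂_le_der y.2
  cop := card_subgroupOf (der_le (M := M)) ▸ h.cop
  comm := fun x y => Subtype.ext (h.W₂_cent y.2 x x.2)
  cent := fun x x1 k hk e => ⟨⟨k, h.W₂_centralizer x x.2 (fun e => x1 (Subtype.ext e)) ▸
    ⟨hk, mem_centralizer_singleton_iff.2 (congrArg Subtype.val e).symm⟩⟩, rfl⟩
  odd := ms_odd _

/-- Hypothesis (4.6) for a maximal subgroup of type P, with `H = M_s`. -/
noncomputable def tpD : D46 M G W₁ W₂ where
  toD4 := (tpG h).toD4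
  aG := W₁.subtype
  bG := W₂.subtype
  η := η
  τ := tau M
  A0 := sub M (typeA0 M)
  H := Ms[M].subgroupOf M
  eta := hη
  tau := tau_tau hM subset_rfl
  Hn := (normal_subgroupOf_iff' piCoreOf_le).2 le_norm_piCoreOf
  HK := comap_mono (ms_le_der hM)
  bH := fun y => mf_le_ms hM (h.W₂_le_H y.2)
  memA := fun _ hg g1 k hk k1 e => .inl ((mem_typeA_P hM h.not_tI).2 ⟨hg, fun e => g1
    (Subtype.ext e), k, hk, fun e => k1 (Subtype.ext e), (congrArg Subtype.val e).symm⟩)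
  memV := fun z x y x1 y1 => (mem_typeA0_P h).2 (.inr ⟨z⁻¹, inv_mem z.2, x, x.2, y, y.2,
    fun e => x1 (Subtype.ext e), fun e => y1 (Subtype.ext e), by rw [inv_inv]; rfl⟩)
  τval := fun α hα x y x1 y1 => tau_apply' hM hα (a := inclusion h.W₁_le x * inclusion h.W₂_le_M y)
    ((mem_typeA0_P h).2 (.inr ⟨1, one_mem _, x, x.2, y, y.2, fun e => x1 (Subtype.ext e),
      fun e => y1 (Subtype.ext e), by simp⟩))
  oddG := oddG

/-- The same with `H = M_F`. -/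
noncomputable def tpF : D46 M G W₁ W₂ :=
  have : (fittingHall M).Normal := inferInstance
  (tpD hM h hη).shrink (fittingHall M) (mf_subgroupOf (M := M) ▸ comap_mono (mf_le_ms hM))
    fun y => mf_subgroupOf (M := M) ▸ h.W₂_le_H y.2

include h in
theorem tp_exists_eta : ∃ η, Eta W₁.subtype W₂.subtype η := exists_eta h.selfNormalizing (ms_odd _)

end CfsgPF
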