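import Mathlib
import Cfsg.Agent.H9.Resid

/-! A free cyclic action on cosets with an odd number of orbits gives an index two subgroup. -/

set_option autoImplicit false
open Subgroup

namespace CfsgH9

theorem sign_of_free {α : Type*} [Fintype α] [DecidableEq α] (σ : Equiv.Perm α) {n m : ℕ}
    (hn : Even n) (h0 : n ≠ 0) (h : ∀ x k, (σ ^ k) x = x ↔ n ∣ k) (hm : Odd m)
    (hc : Fintype.card α = n * m) : Equiv.Perm.sign σ = -1 := by
  have hx : ∀ x, σ x ≠ x := fun x e => by
    have := (h x 1).1 (by simpa using e)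
    rw [Nat.dvd_one] at this
    subst this
    exact absurd hn (by decide)
  have h1 : ∀ a ∈ σ.cycleType, a = n := by
    intro a ha
    rw [Equiv.Perm.cycleType_def, Multiset.mem_map] at ha
    obtain ⟨c, hc1, rfl⟩ := ha
    have hc2 := (Equiv.Perm.mem_cycleFactorsFinset_iff.1 hc1).1
    obtain ⟨x, hx1, -⟩ := id hc2
    have e := Equiv.Perm.cycle_is_cycleOf (Equiv.Perm.mem_support.2 hx1) hc1
    have key : ∀ k, c ^ k = 1 ↔ n ∣ k := fun k => by
      rw [hc2.pow_eq_one_iff' hx1, e, Equiv.Perm.cycleOf_pow_apply_self, h]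
    rw [Function.comp_apply, ← hc2.orderOf]
    exact Nat.dvd_antisymm (orderOf_dvd_of_pow_eq_one ((key n).2 dvd_rfl))
      ((key _).1 (pow_orderOf_eq_one c))
  have h2 := Multiset.eq_replicate_card.2 h1
  have h3 : σ.cycleType.sum = n * m := by
    rw [Equiv.Perm.sum_cycleType, ← hc, Finset.eq_univ_iff_forall.2 fun x =>
      Equiv.Perm.mem_support.2 (hx x), Finset.card_univ]
  have h4 : Multiset.card σ.cycleType = m := by
    rw [h2, Multiset.sum_replicate, smul_eq_mul, mul_comm] at h3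
    exact Nat.eq_of_mul_eq_mul_left (Nat.pos_of_ne_zero h0) h3
  rw [Equiv.Perm.sign_of_cycleType, h3, h4]
  exact Odd.neg_one_pow ((hn.mul_right m).add_odd hm)

variable {G : Type*} [Group G] [Finite G]

theorem not_free {K T : Subgroup G} (hK : Oup 2 K = K) {c : G} (hc : c ∈ K)
    (he : Even (orderOf c)) (hfree : ∀ g ∈ K, ∀ k : ℕ, g * c ^ k * g⁻¹ ∈ T → c ^ k = 1) {m : ℕ}
    (hm : Odd m) (hi : T.relIndex K = orderOf c * m) : False := by
  classical
  haveI := Fintype.ofFinite (K ⧸ T.subgroupOf K)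
  let f : K →* ℤˣ := Equiv.Perm.sign.comp (MulAction.toPermHom K (K ⧸ T.subgroupOf K))
  have h1 : Oup 2 K ≤ f.ker.map K.subtype := by
    rw [Oup, closure_le]
    rintro x ⟨hx, ho⟩
    refine ⟨⟨x, hx⟩, ?_, rfl⟩
    have a : f ⟨x, hx⟩ ^ orderOf x = 1 := by
      rw [← map_pow, ← orderOf_mk x hx, pow_orderOf_eq_one, map_one]
    rcases Int.units_eq_one_or (f ⟨x, hx⟩) with e | e
    · exact e
    · rw [e, Odd.neg_one_pow (Nat.coprime_two_right.1 ho)] at a
      exact absurd a (by decide)
  obtain ⟨c', h2, rfl⟩ := h1 (hK.ge hc)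
  have h3 := sign_of_free (MulAction.toPermHom K (K ⧸ T.subgroupOf K) c') he (orderOf_pos _).ne'
    (fun x k => by
      rw [← map_pow, orderOf_dvd_iff_pow_eq_one]
      induction x using QuotientGroup.induction_on with | H g =>
      change ((c' ^ k * g : K) : K ⧸ T.subgroupOf K) = g ↔ _
      rw [eq_comm, QuotientGroup.eq, mem_subgroupOf]
      refine ⟨fun e => hfree _ (K.inv_mem g.2) k (by simpa [mul_assoc] using e), fun e => ?_⟩
      have : (c' : G) ^ k = 1 := e
      simp [this]) hm (by rw [← Nat.card_eq_fintype_card, ← hi]; rfl)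
  have h4 : f c' = 1 := h2
  exact absurd (h4.symm.trans h3) (by decide)

end CfsgH9
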