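import Cfsg.Agent.H3.PF8b

/-! Peterfalvi section 8 relative to the weak form of type I (cyclic `O_{p'}(M_F)`). -/

set_option autoImplicit false
open Subgroup Cfsg CfsgH3 CfsgH2 Function
open scoped commutatorElement

namespace CfsgPF

/-- Type I, with `O_{p'}(M_F)` in clause (c). -/
def IsOfTypeI {G : Type*} [Group G] (M : Subgroup G) : Prop :=
  IsOfTypeF M ∧
  ( IsTISubset (fittingHallOf M : Set G) ∨
    (IsMulCommutative (fittingHallOf M) ∧ RankLE 2 (fittingHallOf M) ∧ ¬ RankLE 1 (fittingHallOf M)) ∨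
    ((∀ p : ℕ, p.Prime → p ∣ Nat.card (fittingHallOf M) →
        Monoid.exponent (M ⧸ fittingHall M) ∣ p - 1) ∧
      ∃ p : ℕ, p.Prime ∧ p ∣ Nat.card (fittingHallOf M) ∧
        IsCyclic (pPrimeCore p (fittingHallOf M))) )

open Classical in
/-- `A(M)` -/
noncomputable def typeA {G : Type*} [Group G] (M : Subgroup G) : Set G :=
  if IsOfTypeI M then
    {a | a ∈ M ∧ a ≠ 1 ∧ ∃ x ∈ fittingHallOf M, x ≠ 1 ∧ a * x = x * a}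
  else
    {a | a ∈ ⁅M, M⁆ ∧ a ≠ 1 ∧ ∃ x ∈ typeCore M, x ≠ 1 ∧ a * x = x * a}

/-- `A₀(M)` -/
noncomputable def typeA0 {G : Type*} [Group G] (M : Subgroup G) : Set G :=
  typeA M ∪ {v | ¬ IsOfTypeI M ∧ ∃ W₁ U W₂ : Subgroup G, IsTypePWith M W₁ U W₂ ∧
    ∃ m ∈ M, ∃ w ∈ W₁ ⊔ W₂, w ∉ W₁ ∧ w ∉ W₂ ∧ v = m * w * m⁻¹}

theorem _root_.CfsgH3.Cfsg.IsTypePWith.not_tI {G : Type*} [Group G] [Finite G]
    {M W₁ U W₂ : Subgroup G} (h : IsTypePWith M W₁ U W₂) : ¬ IsOfTypeI M :=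
  fun e => h.not_typeF e.1

/-- The results of Bender--Glauberman used in Peterfalvi's book. -/
class BGI (G : Type*) [Group G] : Prop extends MS G where
  s1350 : ∀ M : Subgroup G, IsCoatom M →
    Cfsg.IsPiHallOf (Cfsg.sigma M) (Cfsg.sigmaCore M) M ∧ Cfsg.IsPiHall (Cfsg.sigma M) (Cfsg.sigmaCore M) ∧
      ∀ N : Subgroup G, M ≤ Subgroup.normalizer (N : Set G) → Cfsg.IsPiHallOf (Cfsg.sigma M) N M →
        N = Cfsg.sigmaCore M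
  s1351 : ∀ M : Subgroup G, IsCoatom M →
    (∃ K : Subgroup G, Cfsg.IsPiHallOf (Cfsg.kappa M) K M) ∧
      ∀ K : Subgroup G, Cfsg.IsPiHallOf (Cfsg.kappa M) K M → IsCyclic K
  s1352 : ∀ M : Subgroup G, IsCoatom M → ∀ K : Subgroup G, IsCyclic K →
    Cfsg.IsPiHallOf (Cfsg.kappa M) K M →
    (∃ U : Subgroup G, Cfsg.IsSigmaDecomposition M K U) ∧
      ∀ U : Subgroup G, Cfsg.IsSigmaDecomposition M K U → M ≤ Subgroup.normalizer ((U ⊔ Cfsg.sigmaCore M : Subgroup G) : Set G)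
  s1355 : ∀ M : Subgroup G, IsCoatom M →
    Cfsg.fittingHallOf M ≠ ⊥ ∧ Cfsg.fittingHallOf M ≤ Cfsg.sigmaCore M ∧ Cfsg.sigmaCore M ≤ ⁅M, M⁆ ∧ ⁅M, M⁆ < M ∧
      Group.IsNilpotent ↥((commutator ↥M).map (QuotientGroup.mk' (Cfsg.fittingHall ↥M)))
  s1357 : ∀ M : Subgroup G, IsCoatom M → ∀ K U : Subgroup G, Cfsg.IsSigmaDecomposition M K U →
    Cfsg.fittingHallOf M ≠ Cfsg.sigmaCore M →
    U = ⊥ ∧ Cfsg.IsTISubset (Cfsg.fittingOf M : Set G) ∧ (Nat.card K).Prime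
  s1365 : ∀ M : Subgroup G, IsCoatom M → ∀ K U : Subgroup G, Cfsg.IsSigmaDecomposition M K U →
    K ≠ ⊥ → ⁅M, M⁆ = U ⊔ Cfsg.sigmaCore M ∧ (Cfsg.sigmaCore M ⊓ Subgroup.centralizer (K : Set G)) ≤ ⁅⁅M, M⁆, ⁅M, M⁆⁆
  s1378 : (∀ p : ℕ, p.Prime → p ∣ Nat.card G → ∃ M : Subgroup G, IsCoatom M ∧ p ∈ Cfsg.sigma M) ∧
      ∀ M N : Subgroup G, IsCoatom M → IsCoatom N → (Cfsg.sigma M ∩ Cfsg.sigma N).Nonempty → ∃ g : G, N = M.map (MulAut.conj g).toMonoidHom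
  s1379 : (∀ M N : Subgroup G, IsCoatom M → IsCoatom N → (∀ g : G, N ≠ M.map (MulAut.conj g).toMonoidHom) → Cfsg.tildeOf M ((Cfsg.sigmaCore M : Set G) \ {1}) ∩ Cfsg.tildeOf N ((Cfsg.sigmaCore N : Set G) \ {1}) = ∅) ∧
      ((∀ M : Subgroup G, IsCoatom M → Cfsg.kappa M = ∅) →
        ∀ g : G, g ≠ 1 → ∃ M : Subgroup G, IsCoatom M ∧ g ∈ Cfsg.tildeOf M ((Cfsg.sigmaCore M : Set G) \ {1})) ∧
      ∀ (M K U : Subgroup G), IsCoatom M → Cfsg.IsSigmaDecomposition M K U → K ≠ ⊥ →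
        (∀ g : G, g ≠ 1 → (∃ N : Subgroup G, IsCoatom N ∧ g ∈ Cfsg.tildeOf N ((Cfsg.sigmaCore N : Set G) \ {1})) ∨
            ∃ y : G, ∃ z ∈ ((↑(K ⊔ (Cfsg.sigmaCore M ⊓ Subgroup.centralizer (K : Set G))) : Set G) \ ((K : Set G) ∪ ↑(Cfsg.sigmaCore M ⊓ Subgroup.centralizer (K : Set G)))), g = y * z * y⁻¹) ∧
        ∀ N : Subgroup G, IsCoatom N → ∀ y : G, ∀ z ∈ ((↑(K ⊔ (Cfsg.sigmaCore M ⊓ Subgroup.centralizer (K : Set G))) : Set G) \ ((K : Set G) ∪ ↑(Cfsg.sigmaCore M ⊓ Subgroup.centralizer (K : Set G)))), y * z * y⁻¹ ∉ Cfsg.tildeOf N ((Cfsg.sigmaCore N : Set G) \ {1})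
  s1380 : ∀ M : Subgroup G, IsCoatom M → ∀ K U : Subgroup G, Cfsg.IsSigmaDecomposition M K U →
    (IsOfTypeI M ↔ (K = ⊥ ∧ U ≠ ⊥))
  s1381 : ∀ M : Subgroup G, IsCoatom M → ∀ K U : Subgroup G, Cfsg.IsSigmaDecomposition M K U →
    (Cfsg.IsOfTypeII M ↔ (K ≠ ⊥ ∧ U ≠ ⊥))
  s1382 : ∀ M : Subgroup G, IsCoatom M → ∀ K U : Subgroup G, Cfsg.IsSigmaDecomposition M K U →
    ((Cfsg.IsOfTypeIII M ∨ Cfsg.IsOfTypeIV M) ↔ (K ≠ ⊥ ∧ U = ⊥ ∧ Cfsg.fittingHallOf M ≠ Cfsg.sigmaCore M))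
  s1383 : ∀ M : Subgroup G, IsCoatom M → ∀ K U : Subgroup G, Cfsg.IsSigmaDecomposition M K U →
    (Cfsg.IsOfTypeV M ↔ (K ≠ ⊥ ∧ U = ⊥ ∧ Cfsg.fittingHallOf M = Cfsg.sigmaCore M))
  s1385 : (∀ M : Subgroup G, IsCoatom M → IsOfTypeI M) ∨
      ∃ W₁ W₂ S T : Subgroup G, Cfsg.IsSelfNormalizingCyclic W₁ W₂ ∧ IsCoatom S ∧ IsCoatom T ∧
        Cfsg.IsComplIn ⁅S, S⁆ W₁ S ∧ Cfsg.IsComplIn ⁅T, T⁆ W₂ T ∧ S ⊓ T = W₁ ⊔ W₂ ∧
        (Cfsg.IsOfTypeII S ∨ Cfsg.IsOfTypeII T) ∧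
        (Cfsg.IsOfTypeII S ∨ Cfsg.IsOfTypeIII S ∨ Cfsg.IsOfTypeIV S ∨ Cfsg.IsOfTypeV S) ∧
        (Cfsg.IsOfTypeII T ∨ Cfsg.IsOfTypeIII T ∨ Cfsg.IsOfTypeIV T ∨ Cfsg.IsOfTypeV T) ∧
        ∀ M : Subgroup G, IsCoatom M → IsOfTypeI M ∨ ∃ g : G, M = S.map (MulAut.conj g).toMonoidHom ∨ M = T.map (MulAut.conj g).toMonoidHom
  s1390 : ∀ M : Subgroup G, IsCoatom M → ∀ U : Subgroup G,
    ((IsOfTypeI M ∧ Cfsg.IsComplIn (Cfsg.fittingHallOf M) U M) ∨ (Cfsg.IsOfTypeII M ∧ Cfsg.IsComplIn (Cfsg.fittingHallOf M) U ⁅M, M⁆)) →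
    (∀ (p : ℕ), p.Prime → ∀ P : Sylow p U, IsMulCommutative (P : Subgroup U) ∧ Cfsg.PRankLE p 2 (P : Subgroup U)) ∧
      (∀ X : Set G, X ⊆ (U : Set G) \ {1} → X.Nonempty → Cfsg.fittingHallOf M ⊓ Subgroup.centralizer X ≠ ⊥ →
        Subgroup.centralizer X ≤ M ∧ ∀ L : Subgroup G, IsCoatom L → Subgroup.centralizer X ≤ L → L = M) ∧
      Cfsg.IsTISubset (typeA M \ Cfsg.typeA1 M)
  s1391 : ∀ M : Subgroup G, IsCoatom M → ∀ X : Set G, (X = typeA M ∨ X = typeA0 M) →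
    (∀ x ∈ X, ∀ g : G, g * x * g⁻¹ ∈ X → ∃ m ∈ M, m * x * m⁻¹ = g * x * g⁻¹) ∧
      (∀ x ∈ X, ¬ Subgroup.centralizer ({x} : Set G) ≤ M → x ∈ Cfsg.typeA1 M ∧ ∃! L : Subgroup G, IsCoatom L ∧ Subgroup.centralizer ({x} : Set G) ≤ L) ∧
      ∀ x ∈ X, ¬ Subgroup.centralizer ({x} : Set G) ≤ M → ∀ L : Subgroup G, IsCoatom L → Subgroup.centralizer ({x} : Set G) ≤ L →
        Cfsg.IsComplIn (Cfsg.fittingHallOf L) (M ⊓ L) L ∧
        Subgroup.centralizer ({x} : Set G) ≤ Subgroup.normalizer ((Cfsg.fittingHallOf L ⊓ Subgroup.centralizer ({x} : Set G) : Subgroup G) : Set G) ∧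
        Cfsg.IsComplIn (Cfsg.fittingHallOf L ⊓ Subgroup.centralizer ({x} : Set G)) (M ⊓ Subgroup.centralizer ({x} : Set G)) (Subgroup.centralizer ({x} : Set G)) ∧
        (∀ y ∈ X, (Nat.card (Cfsg.fittingHallOf L)).Coprime (Nat.card ↥(M ⊓ Subgroup.centralizer ({y} : Set G)))) ∧
        (x ∈ typeA L ∧ x ∉ Cfsg.typeA1 L) ∧
        (IsOfTypeI L ∨ Cfsg.IsOfTypeII L) ∧
        (Cfsg.IsOfTypeII L → ∃ E : Subgroup ↥M, Cfsg.IsFrobeniusComplement E ∧ Cfsg.frobeniusKernel E = ((Cfsg.fittingHall ↥M : Subgroup ↥M) : Set ↥M))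

variable {G : Type*} [Group G] [Finite G] {H K L M N P S T U V X W₁ W₂ : Subgroup G}
  {g x y : G} {p : ℕ}

variable [hG : BGI G]

theorem exists_dec (hM : IsCoatom M) : ∃ K U, IsSigmaDecomposition M K U := by
  obtain ⟨⟨K, hK⟩, h⟩ := BGI.s1351 M hM
  exact ⟨K, (BGI.s1352 M hM K (h K hK) hK).1⟩
theorem mf_ne (hM : IsCoatom M) : MF[M] ≠ ⊥ := (BGI.s1355 M hM).1
theorem mf_le_ms (hM : IsCoatom M) : MF[M] ≤ Ms[M] := (BGI.s1355 M hM).2.1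
theorem ms_le_der (hM : IsCoatom M) : Ms[M] ≤ D[M] := (BGI.s1355 M hM).2.2.1
theorem der_lt (hM : IsCoatom M) : D[M] < M := (BGI.s1355 M hM).2.2.2.1
theorem ms_hall (hM : IsCoatom M) : Hall σ[M] Ms[M] ⊤ := hall_top_iff.1 (BGI.s1350 M hM).2.1
theorem ms_ne (hM : IsCoatom M) : Ms[M] ≠ ⊥ := fun e => mf_ne hM (le_bot_iff.1 (e ▸ mf_le_ms hM))
theorem norm_ms (hM : IsCoatom M) : N[Ms[M]] = M :=
  mx_norm hM (ms_ne hM) piCoreOf_le le_norm_piCoreOf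
theorem norm_mf (hM : IsCoatom M) : N[MF[M]] = M := mx_norm hM (mf_ne hM) mf_le le_norm_mf
theorem norm_fit (hM : IsCoatom M) : N[F[M]] = M :=
  mx_norm hM (mx_fit_ne_bot hM) fit_le le_norm_fit
theorem mf_hall_top (hM : IsCoatom M) : Hall pr[MF[M]] MF[M] ⊤ :=
  (mf_hall.mono (mf_le_ms hM) piCoreOf_le).trans_hall (ms_hall hM) fun p hp h =>
    piN_of_le piN_piCoreOf (mf_le_ms hM) p hp h
theorem typeCore_eq (hM : IsCoatom M) : typeCore M = Ms[M] := by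
  obtain ⟨K, U, h⟩ := exists_dec hM
  have h1 := BGI.s1382 M hM K U h
  unfold typeCore
  split_ifs with e
  · obtain ⟨a, rfl, -⟩ := h1.1 e
    exact (BGI.s1365 M hM K ⊥ h a).1.trans (bot_sup_eq _)
  · by_contra e'
    obtain ⟨a, -, b⟩ := BGI.s1357 M hM K U h e'
    exact e (h1.2 ⟨by rintro rfl; simp [Nat.not_prime_one] at b, a, e'⟩)
theorem exists_type (hM : IsCoatom M) :
    IsOfTypeI M ∨ IsOfTypeII M ∨ IsOfTypeIII M ∨ IsOfTypeIV M ∨ IsOfTypeV M := by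
  obtain ⟨K, U, h⟩ := exists_dec hM
  rw [← or_assoc (a := IsOfTypeIII M), BGI.s1380 M hM K U h, BGI.s1381 M hM K U h,
    BGI.s1382 M hM K U h, BGI.s1383 M hM K U h]
  have : K = ⊥ → U ≠ ⊥ := by
    rintro rfl rfl
    have := h.compl.sup
    rw [bot_sup_eq, bot_sup_eq] at this
    exact (der_lt hM).not_ge (this.ge.trans (ms_le_der hM))
  tauto
theorem exists_typeP (hM : IsCoatom M) (h : ¬ IsOfTypeI M) : ∃ W₁ U W₂, IsTypePWith M W₁ U W₂ :=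
  typeP_of ((exists_type hM).resolve_left h)
theorem ms_typeI (hM : IsCoatom M) (h : IsOfTypeI M) : Ms[M] = MF[M] := by
  rw [← typeCore_eq hM, typeCore, if_neg]
  rintro (⟨_, _, _, e, -⟩ | ⟨_, _, _, e, -⟩) <;> exact e.not_tI h
theorem exists_sigma (hp : p.Prime) (h : p ∣ Nat.card G) :
    ∃ M : Subgroup G, IsCoatom M ∧ p ∈ σ[M] := BGI.s1378.1 p hp h
theorem cj_of_sigma (hM : IsCoatom M) (hN : IsCoatom N) (h1 : p ∈ σ[M]) (h2 : p ∈ σ[N]) :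
    Cj M N := BGI.s1378.2 M N hM hN ⟨p, h1, h2⟩
theorem coprime_ms (hM : IsCoatom M) (hN : IsCoatom N) (h : ¬ Cj M N) :
    o[Ms[M]].Coprime o[Ms[N]] :=
  (piN_piCoreOf (π := σ[M])).coprime fun p hp hd e =>
    h (cj_of_sigma hM hN e (piN_piCoreOf p hp hd))
theorem coprime_mf (hM : IsCoatom M) (hN : IsCoatom N) (h : ¬ Cj M N) :
    o[MF[M]].Coprime o[MF[N]] :=
  ((coprime_ms hM hN h).coprime_dvd_left (card_dvd_of_le (mf_le_ms hM))).coprime_dvd_right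
    (card_dvd_of_le (mf_le_ms hN))
/-- (8.11) -/
theorem norm_syl_le [Fact p.Prime] (hM : IsCoatom M) (hP : Syl p P Ms[M]) (h0 : P ≠ ⊥) :
    N[P] ≤ M := by
  have h1 : p ∈ σ[M] := piN_piCoreOf p Fact.out
    ((hP.pg.card_eq_or_dvd.resolve_left (mt card_eq_one.1 h0)).trans (card_dvd_of_le hP.le))
  exact (((ms_hall hM).mono piCoreOf_le le_top).syl h1 hP).norm_le_of_sigma h1

section typeP
variable (hM : IsCoatom M) (h : IsTypePWith M W₁ U W₂)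
include hM h
theorem tp_cases : (U ≠ ⊥ ∧ ¬ N[U] ≤ M ∧ IsOfTypeII M) ∨
    (U ≠ ⊥ ∧ N[U] ≤ M ∧ (IsOfTypeIII M ∨ IsOfTypeIV M)) ∨ (U = ⊥ ∧ IsOfTypeV M) := by
  rcases (exists_type hM).resolve_left h.not_tI with e | e | e | e
  · obtain ⟨_, _, _, h', a, -, -, -, b, -⟩ := id e
    exact .inl ⟨mt (h.transfer h').1.1 a, mt (h.transfer h').2.1.1 b, e⟩
  · obtain ⟨_, _, _, h', a, -, -, -, b⟩ := id e
    exact .inr (.inl ⟨mt (h.transfer h').1.1 a, (h.transfer h').2.1.2 b, .inl e⟩)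
  · obtain ⟨_, _, _, h', a, -, -, -, b⟩ := id e
    exact .inr (.inl ⟨mt (h.transfer h').1.1 a, (h.transfer h').2.1.2 b, .inr e⟩)
  · obtain ⟨_, _, _, h', a, -⟩ := id e
    exact .inr (.inr ⟨(h.transfer h').1.2 a, e⟩)
theorem typeII_iff : IsOfTypeII M ↔ U ≠ ⊥ ∧ ¬ N[U] ≤ M :=
  ⟨fun ⟨_, _, _, h', a, _, _, _, b, _⟩ => ⟨mt (h.transfer h').1.1 a, mt (h.transfer h').2.1.1 b⟩,
    fun e => by have := tp_cases hM h; tauto⟩
theorem typeV_iff : IsOfTypeV M ↔ U = ⊥ :=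
  ⟨fun ⟨_, _, _, h', a, _⟩ => (h.transfer h').1.2 a, fun e => by have := tp_cases hM h; tauto⟩
theorem type34_iff : IsOfTypeIII M ∨ IsOfTypeIV M ↔ U ≠ ⊥ ∧ N[U] ≤ M := by
  refine ⟨?_, fun e => by have := tp_cases hM h; tauto⟩
  rintro (⟨_, _, _, h', a, -, -, -, b⟩ | ⟨_, _, _, h', a, -, -, -, b⟩) <;>
    exact ⟨mt (h.transfer h').1.1 a, (h.transfer h').2.1.2 b⟩
theorem tp_prime (hU : U ≠ ⊥) : o[W₁].Prime ∧ IsTISubset (F[M] : Set G) := by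
  rcases tp_cases hM h with ⟨-, -, _, _, _, h', -, a, b, -⟩ |
    ⟨-, -, ⟨_, _, _, h', -, a, b, -⟩ | ⟨_, _, _, h', -, a, b, -⟩⟩ | e
  exacts [⟨(h.transfer h').2.2.2 ▸ a, b⟩, ⟨(h.transfer h').2.2.2 ▸ a, b⟩,
    ⟨(h.transfer h').2.2.2 ▸ a, b⟩, absurd e.1 hU]
/-- (8.6)(a) -/
theorem tp_ti (hU : U ≠ ⊥) (hx : x ∈ F[M]) (x1 : x ≠ 1) (hg : g * x * g⁻¹ ∈ F[M]) : g ∈ M :=
  ti_cent (tp_prime hM h hU).2 (norm_fit hM) hx x1 hg
theorem tp_cent (hU : U ≠ ⊥) (hx : x ∈ F[M]) (x1 : x ≠ 1) : C1[x] ≤ M := fun g hg =>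
  tp_ti hM h hU hx x1 (by rwa [mem_centralizer_singleton_iff.1 hg, mul_inv_cancel_right])
theorem ms_of_not_II (h2 : ¬ IsOfTypeII M) : Ms[M] = D[M] := by
  rcases tp_cases hM h with e | e | ⟨rfl, -⟩
  · exact absurd e.2.2 h2
  · rw [← typeCore_eq hM, typeCore, if_pos e.2.2]
  · exact le_antisymm (ms_le_der hM) (by rw [← h.der_eq, sup_bot_eq]; exact mf_le_ms hM)
theorem ms_inf_cent : Ms[M] ⊓ C[W₁] = W₂ :=
  le_antisymm (h.der_inf_cent ▸ inf_le_inf_right _ (ms_le_der hM))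
    (h.H_inf_cent ▸ inf_le_inf_right _ (mf_le_ms hM))
end typeP

theorem typeII_ab (h : IsTypePWith M W₁ U W₂) (h2 : IsOfTypeII M) : Ab[U] := by
  obtain ⟨_, _, _, h', -, -, -, a, -⟩ := h2
  exact (h.transfer h').2.2.1.2 a
theorem ms_typeII (hM : IsCoatom M) (h2 : IsOfTypeII M) : Ms[M] = MF[M] := by
  obtain ⟨_, _, _, h, -⟩ := id h2
  rw [← typeCore_eq hM, typeCore, if_neg fun e =>
    ((typeII_iff hM h).1 h2).2 ((type34_iff hM h).1 e).2]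
theorem typeII_map_cj (hM : IsCoatom M) (h2 : IsOfTypeII M) (g : G) : IsOfTypeII M:^g := by
  obtain ⟨_, _, _, h, -⟩ := id h2
  rw [typeII_iff (mx_map_cj hM g) (h.map_cj g), normalizer_map_cj, map_cj_le_map_cj, Ne,
    map_cj_eq_bot]
  exact (typeII_iff hM h).1 h2
theorem typeI_map_cj (hM : IsCoatom M) (h1 : IsOfTypeI M) (g : G) : IsOfTypeI M:^g := by
  by_contra e
  obtain ⟨_, _, _, h⟩ := exists_typeP (mx_map_cj hM g) e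
  exact (h.map_cj g⁻¹).not_tI (by rwa [map_cj_inv_cj])

/-- The configuration of (8.8)(b). -/
structure Pair (S T W₁ W₂ U V : Subgroup G) : Prop where
  mS : IsCoatom S
  mT : IsCoatom T
  tS : IsTypePWith S W₁ U W₂
  tT : IsTypePWith T W₂ V W₁
  inf : S ⊓ T = W₁ ⊔ W₂
  two : IsOfTypeII S ∨ IsOfTypeII T
  all : ∀ M, IsCoatom M → IsOfTypeI M ∨ Cj S M ∨ Cj T M

omit [Finite G] hG in
theorem Pair.symm (h : Pair S T W₁ W₂ U V) : Pair T S W₂ W₁ V U :=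
  ⟨h.mT, h.mS, h.tT, h.tS, by rw [inf_comm, sup_comm, h.inf], h.two.symm, fun M hM =>
    (h.all M hM).imp_right Or.symm⟩
omit hG in
theorem Pair.ncj (h : Pair S T W₁ W₂ U V) : ¬ Cj S T := by
  rintro ⟨g, rfl⟩
  have := h.tT.relIndex_der
  rw [der_map_cj, relIndex_map_cj, h.tS.relIndex_der] at this
  have e := h.tS.copW
  rw [← this, Nat.coprime_self] at e
  exact h.tS.W₁_ne (card_eq_one.1 e)
theorem Pair.map_cj (h : Pair S T W₁ W₂ U V) (g : G) :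
    Pair S:^g T:^g W₁:^g W₂:^g U:^g V:^g :=
  ⟨mx_map_cj h.mS g, mx_map_cj h.mT g, h.tS.map_cj g, h.tT.map_cj g,
    by rw [← map_cj_inf, h.inf, Subgroup.map_sup],
    h.two.imp (typeII_map_cj h.mS · g) (typeII_map_cj h.mT · g), fun M hM =>
    (h.all M hM).imp_right (Or.imp (cj_map_cj S g).symm.trans (cj_map_cj T g).symm.trans)⟩
omit hG in
theorem exists_tp (h : IsOfTypeP M) (hW : IsSelfNormalizingCyclic W₁ W₂)
    (h1 : IsComplIn D[M] W₁ M) (h2 : W₂ ≤ M) : ∃ U, IsTypePWith M W₁ U W₂ := by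
  obtain ⟨_, _, _, h⟩ := h
  obtain ⟨k, hk, rfl⟩ := h.conj_W₁ h1
  have := h.map_cj_mem (der_le hk)
  exact ⟨_, this.eq_of_snc hW h2 ▸ this⟩
theorem exists_pair (hM : IsCoatom M) (h : IsTypePWith M W₁ U W₂) :
    ∃ T V, Pair M T W₁ W₂ U V := by
  obtain e | ⟨A, B, S, T, a1, a2, a3, a4, a5, a6, a7, a8, a9, a10⟩ := hG.s1385
  · exact absurd (e M hM) h.not_tI
  obtain ⟨U₁, b1⟩ := exists_tp (typeP_of a8) a1 a4 ((le_sup_right.trans a6.ge).trans inf_le_left)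
  obtain ⟨U₂, b2⟩ := exists_tp (typeP_of a9) (snc_symm a1) a5
    ((le_sup_left.trans a6.ge).trans inf_le_right)
  have b : Pair S T A B U₁ U₂ := ⟨a2, a3, b1, b2, a6, a7, fun M hM => (a10 M hM).imp_right
    fun ⟨g, e⟩ => e.imp (⟨g, ·⟩) (⟨g, ·⟩)⟩
  obtain ⟨T, A, B, U₁, V, b⟩ : ∃ T A B U₁ V, Pair M T A B U₁ V := by
    obtain ⟨g, rfl⟩ | ⟨g, rfl⟩ := (b.all M hM).resolve_left h.not_tI
    exacts [⟨_, _, _, _, _, b.map_cj g⟩, ⟨_, _, _, _, _, b.symm.map_cj g⟩]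
  obtain ⟨k, hk, rfl, rfl⟩ := b.tS.conj_W h
  have := b.map_cj k
  rw [map_cj_of_mem hk] at this
  exact ⟨_, _, { this with tS := h }⟩

end CfsgPF
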