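import Cfsg.Agent.H1.BG3b
import Cfsg.Agent.H4.Ext2

/-! Character estimates for coprime action on groups of class two. -/

set_option autoImplicit false
open Subgroup Cfsg CfsgH3 CfsgH2 Function
open CfsgH1 (fs mem_fs card_fs sum_fs sum_irr_nat)
open scoped commutatorElement IsMulCommutative ComplexConjugate

namespace CfsgCP

universe u
variable {G : Type u} [Group G] [Finite G] {Q K R D C A T X : Subgroup G} {ψ θ t : G → ℂ} {u : G}

theorem norm_sum_coset_le [Q.Normal] [Fintype Q] (h : IsCharacter G ψ) (u : G) :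
    ‖∑ x : Q, ψ (x * u)‖ ≤ (∑ x : Q, ψ x).re := by
  haveI := Fintype.ofFinite G
  refine h.induction_on (P := fun ψ => ‖∑ x : Q, ψ (x * u)‖ ≤ (∑ x : Q, ψ x).re) (by simp) ?_ ?_
  · intro ψ h
    by_cases hk : ∃ n ∈ Q, ψ n ≠ ψ 1
    · obtain ⟨n, hn⟩ := sum_irr_nat Q.subtype h.isCharacter
      rw [sum_eq_zero_of_not_le_ker h hk, show ∑ x : Q, ψ x = _ from hn]
      simp only [norm_zero, ← Nat.cast_mul, Complex.natCast_re]
      positivity
    push Not at hk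
    obtain ⟨n, hn⟩ := h.isCharacter.exists_nat_apply_one
    rw [Finset.sum_congr rfl fun (x : Q) _ => h.isCharacter.apply_mul_of_eq' (hk x x.2) u,
      Finset.sum_congr rfl fun (x : Q) _ => (hk x x.2).trans hn]
    have := h.isCharacter.norm_le u
    simp only [hn, Complex.norm_natCast, Finset.sum_const, nsmul_eq_mul, norm_mul, ← Nat.cast_mul,
      Complex.natCast_re] at this ⊢
    rw [Nat.cast_mul]
    exact mul_le_mul_of_nonneg_left this (by positivity)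
  · intro a b ha hb
    simp only [Pi.add_apply, Finset.sum_add_distrib, Complex.add_re]
    exact (norm_add_le _ _).trans (add_le_add ha hb)

/-- the commutator-count bound: `|C_{Q/R}(u)| ≤ m`. -/
def Bd (Q R : Subgroup G) (u : G) (m : ℝ) : Prop :=
  ∃ D : Subgroup G, (∀ c ∈ Q, c * u * c⁻¹ * u⁻¹ ∈ R → c ∈ D) ∧ (o[D] : ℝ) ≤ m * o[R]

theorem trace_bound [hQ : Q.Normal] (h : IsCharacter G ψ) {θ : Q → ℂ} (hθ : IsIrrCharacter Q θ)
    {e : ℕ} (he : ∀ x : Q, ψ x = e * θ x) (hR : R ≤ Q) (nR : Q ≤ N[R]) (hu : u ∈ N[R])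
    (hc : ∀ z ∈ R, ‖ψ z‖ = ‖ψ 1‖) {m : ℝ} (hm : Bd Q R u m) : ‖ψ u‖ ^ 2 ≤ e ^ 2 * m := by
  classical
  haveI := Fintype.ofFinite Q
  haveI := Fintype.ofFinite R
  obtain ⟨D, d1, d2⟩ := hm
  haveI := Fintype.ofFinite D
  by_cases h0 : ψ 1 = 0
  · obtain rfl := h.eq_zero_of_apply_one h0
    have : (0 : ℝ) < o[R] := by exact_mod_cast Nat.card_pos
    have : 0 ≤ m := nonneg_of_mul_nonneg_left ((Nat.cast_nonneg _).trans d2) this
    simp only [Pi.zero_apply, norm_zero, ne_eq, OfNat.ofNat_ne_zero, not_false_eq_true, zero_pow]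
    positivity
  have k1 := norm_sum_coset_le (Q := Q) (h.mul h.conj) u
  have k2 : ∀ g, (ψ * fun g => conj (ψ g)) g = ((‖ψ g‖ ^ 2 : ℝ) : ℂ) := fun g => by
    simp [Complex.mul_conj']
  simp only [k2, ← Complex.ofReal_sum, Complex.norm_real, Complex.ofReal_re] at k1
  simp only [he, norm_mul, mul_pow, Complex.norm_natCast, ← Finset.mul_sum,
    sum_norm_sq_of_irr hθ] at k1
  replace k1 := (le_abs_self _).trans k1
  let F : Q × R → Q := fun y => ⟨y.1 * (y.2 * u) * (y.1 : G)⁻¹ * u⁻¹, by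
    have := mul_mem (mul_mem y.1.2 (hR y.2.2)) (hQ.conj_mem _ (inv_mem y.1.2) u)
    convert this using 1; group⟩
  have f1 : ∀ y, ‖ψ (F y * u)‖ = ‖ψ u‖ := fun y => by
    have a := congrArg norm (h.apply_mul_of_norm_eq (hc _ y.2.2) u)
    rw [norm_mul, norm_mul, hc _ y.2.2, mul_comm, mul_left_inj' (norm_ne_zero_iff.2 h0)] at a
    rw [← a, ← h.isClassFunction.mul_comm y.2 u, ← h.isClassFunction (y.2 * u) y.1]
    simp [F]
  have f2 : ∀ g, (Finset.univ.filter fun y => F y = g).card ≤ o[D] := fun g => by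
    rcases (Finset.univ.filter fun y => F y = g).eq_empty_or_nonempty with e | ⟨y, hy⟩
    · simp [e]
    have k : ∀ x ∈ Finset.univ.filter fun y => F y = g, (y.1 : G)⁻¹ * x.1 * (x.2 * u) *
        ((y.1 : G)⁻¹ * x.1)⁻¹ = y.2 * u := fun x hx => by
      have := congrArg Subtype.val ((Finset.mem_filter.1 hx).2.trans (Finset.mem_filter.1 hy).2.symm)
      simp only [F, mul_left_inj] at this
      calc _ = (y.1 : G)⁻¹ * (x.1 * (x.2 * u) * (x.1 : G)⁻¹) * y.1 := by group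
        _ = _ := by rw [this]; group
    rw [← card_fs]
    refine Finset.card_le_card_of_injOn (fun x => (y.1 : G)⁻¹ * x.1) (fun x hx => ?_) fun x hx z hz e => ?_
    · have m := mul_mem (inv_mem y.1.2) x.1.2
      refine mem_fs.2 (d1 _ m ?_)
      have := mul_mem (inv_mem (conj_mem_of_norm (nR m) x.2.2)) y.2.2
      convert this using 1
      rw [eq_inv_mul_iff_mul_eq, ← mul_left_inj u, ← k x hx]
      group
    · have a := (k x hx).trans (k z hz).symm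
      simp only [] at e
      rw [e, mul_left_inj, mul_right_inj, mul_left_inj] at a
      exact Prod.ext (Subtype.ext (mul_left_cancel e)) (Subtype.ext a)
  have f3 : ∑ y, ‖ψ (F y * u)‖ ^ 2 ≤ o[D] * ∑ x : Q, ‖ψ (x * u)‖ ^ 2 := by
    rw [← Finset.sum_fiberwise (g := F), Finset.mul_sum]
    refine Finset.sum_le_sum fun g _ => ?_
    rw [Finset.sum_congr rfl (g := fun _ => ‖ψ (g * u)‖ ^ 2) fun y hy => by
      rw [(Finset.mem_filter.1 hy).2], Finset.sum_const, nsmul_eq_mul]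
    exact mul_le_mul_of_nonneg_right (by exact_mod_cast f2 g) (by positivity)
  simp only [f1, Finset.sum_const, Finset.card_univ, Nat.card_prod, ← Nat.card_eq_fintype_card,
    nsmul_eq_mul, Nat.cast_mul] at f3
  have p1 : (0 : ℝ) < o[R] := by exact_mod_cast Nat.card_pos
  have p2 : (0 : ℝ) < o[Q] := by exact_mod_cast Nat.card_pos
  refine le_of_mul_le_mul_left (f3.trans ((mul_le_mul d2 k1 (by positivity)
    ((Nat.cast_nonneg _).trans d2)).trans (le_of_eq ?_))) (mul_pos p2 p1)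
  ring

/-- multiplicities of a character of an abelian group. -/
theorem exists_mult [Fintype G] (hG : ∀ a b : G, a * b = b * a) (h : IsCharacter G ψ) {d : ℕ}
    (hd : ψ 1 = d) : ∃ n : IrrCharacter G → ℕ, ∑ i, n i = d ∧
      ∑ g, ‖ψ g‖ ^ 2 = Nat.card G * ∑ i, (n i : ℝ) ^ 2 := by
  obtain ⟨n, h1, h2⟩ := h.exists_eq_sum_irr
  refine ⟨n, ?_, ?_⟩
  · have := h.isClassFunction.apply_eq_sum_irr 1
    simp only [h1, hd, fun i : IrrCharacter G => i.2.apply_one_of_comm hG, mul_one] at this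
    exact_mod_cast this.symm
  · have := h.isClassFunction.classInner_self_re
    simp only [h1, classInner_self_re, Complex.norm_natCast] at this
    rw [← this, mul_inv_cancel_left₀ (by exact_mod_cast Nat.card_pos.ne')]

/-- reduction to the inertia group. -/
theorem inertia_red [Q.Normal] [Fintype Q] (hA : Q ⊔ A = ⊤) (h : IsCharacter G t)
    (h0 : ∑ a ∈ fs A, t a = 0) {θ : Q → ℂ} (hθ : IsIrrCharacter Q θ)
    (hi : classInner (fun x : Q => t x) θ ≠ 0) : ∃ (ψ : G → ℂ) (e : ℕ), 0 < e ∧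
      IsCharacter (inertia θ) (fun x => ψ x) ∧ (∀ x : Q, ψ x = e * θ x) ∧
      ∑ a ∈ fs (A ⊓ inertia θ), ψ a = 0 := by
  classical
  haveI := Fintype.ofFinite G
  haveI := Fintype.ofFinite A
  haveI := Fintype.ofFinite (inertia θ)
  obtain ⟨χ, c1, c2, c3⟩ := h.isClassFunction.exists_common_constituent (indFun Q θ)
    (by rwa [classInner_indFun_right _ h.isClassFunction])
  rw [classInner_indFun_left _ c1.isClassFunction, ne_eq, classInner_eq_zero_comm] at c3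
  have l := le_inertia hθ.isClassFunction
  obtain ⟨φ, p1, p2, p3⟩ := exists_over_inertia hθ rfl l c1 c3
  obtain ⟨e, he⟩ := (p1.isCharacter.resLE l).exists_nat_classInner hθ.isCharacter
  have p4 := resLE_eq_smul l p1 hθ le_rfl (p3 ▸ c3)
  obtain ⟨m, m1, m2⟩ := CfsgH1.sum_le_of_constituent A.subtype h c1 c2 (n := 0)
    (by simpa [sum_fs] using h0)
  refine ⟨extendByZero _ φ, e, Nat.pos_of_ne_zero fun z => c3 (by rw [← p3, he, z, Nat.cast_zero]),
    by simpa only [extendByZero_coe] using p1.isCharacter, fun x => ?_, ?_⟩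
  · rw [extendByZero_of_mem _ (l x.2), ← he]
    exact congrFun p4 x
  rw [Nat.le_zero.1 m1, Nat.cast_zero, mul_zero, ← p2] at m2
  simp only [indFun_apply', ← Finset.mul_sum, coe_subtype] at m2
  rw [Finset.sum_comm, Finset.sum_congr rfl (g := fun _ => ∑ a ∈ fs (A ⊓ inertia θ),
    extendByZero _ φ a) fun x _ => ?_] at m2
  · simpa using m2
  obtain ⟨n, n1, y, y1, rfl⟩ := CfsgH1.mem_sup_normal_left.1 (hA ▸ mem_top x)
  rw [Finset.sum_congr rfl (g := fun a : A => extendByZero _ φ ((MulAut.conj ⟨y, y1⟩ a : A) : G))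
    fun a _ => by
      rw [← extendByZero_conj_mem p1.isClassFunction (l n1)]
      simp [mul_assoc]]
  refine ((MulAut.conj (⟨y, y1⟩ : A)).toEquiv.sum_comp fun a : A => extendByZero _ φ a).trans ?_
  rw [← sum_fs]
  symm
  refine Finset.sum_subset (fun a ha => mem_fs.2 (mem_fs.1 ha).1) fun a h1 h2 =>
    extendByZero_of_not_mem _ fun h3 => h2 (mem_fs.2 ⟨mem_fs.1 h1, h3⟩)

/-- a character of the subgroup `H`, as a function on the ambient group. -/
abbrev Ch (H : Subgroup G) (t : G → ℂ) : Prop := IsCharacter H fun x => t x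
/-- an irreducible character of the subgroup `H`, as a function on the ambient group. -/
abbrev ICh (H : Subgroup G) (t : G → ℂ) : Prop := IsIrrCharacter H fun x => t x

omit [Finite G] in
theorem Ch.mono (h : Ch X t) (hl : T ≤ X) : Ch T t := h.comp (inclusion hl)

omit [Finite G] in
theorem ICh.sub (h : ICh Q θ) (hl : Q ≤ T) : IsIrrCharacter (Q.subgroupOf T) fun x => θ (x : T) :=
  h.comp_equiv (subgroupOfEquivOfLe hl)

/-- the inertia group of `θ` in the normalizer of `Q`. -/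
def Inv (Q : Subgroup G) (θ : G → ℂ) : Subgroup G where
  carrier := {u | u ∈ N[Q] ∧ ∀ x ∈ Q, θ (u * x * u⁻¹) = θ x}
  one_mem' := ⟨one_mem _, by simp⟩
  mul_mem' {a b} ha hb := ⟨mul_mem ha.1 hb.1, fun x hx => by
    rw [← hb.2 x hx, ← ha.2 _ (conj_mem_of_norm hb.1 hx)]; congr 1; group⟩
  inv_mem' {a} ha := ⟨inv_mem ha.1, fun x hx => by
    rw [inv_inv, ← ha.2 _ (conj_mem_of_norm' ha.1 hx)]; congr 1; group⟩

omit [Finite G] in
theorem Inv_le : Inv Q θ ≤ N[Q] := fun _ h => h.1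

omit [Finite G] in
theorem le_Inv (h : Ch Q θ) : Q ≤ Inv Q θ := fun u hu =>
  ⟨le_normalizer hu, fun x hx => h.isClassFunction ⟨x, hx⟩ ⟨u, hu⟩⟩

theorem sum_fs_sub {M : Type*} [AddCommMonoid M] (hl : A ≤ T) (f : G → M) :
    ∑ a ∈ fs (A.subgroupOf T), f a = ∑ a ∈ fs A, f a :=
  Finset.sum_bij (fun a _ => (a : G)) (fun _ h => mem_fs.2 (mem_subgroupOf.1 (mem_fs.1 h)))
    (fun _ _ _ _ => Subtype.ext) (fun b h => ⟨⟨b, hl (mem_fs.1 h)⟩,
      mem_fs.2 (mem_subgroupOf.2 (mem_fs.1 h)), rfl⟩) fun _ _ => rfl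

theorem trace_bound' (hQ : Q ≤ T) (nQ : T ≤ N[Q]) (h : Ch T ψ) (hθ : ICh Q θ)
    {e : ℕ} (he : ∀ x ∈ Q, ψ x = e * θ x) (hR : R ≤ Q) (nR : T ≤ N[R]) (hu : u ∈ T)
    (hc : ∀ z ∈ R, ‖ψ z‖ = ‖ψ 1‖) {m : ℝ} (hm : Bd Q R u m) : ‖ψ u‖ ^ 2 ≤ e ^ 2 * m := by
  haveI := (normal_subgroupOf_iff' hQ).2 nQ
  haveI := (normal_subgroupOf_iff' (hR.trans hQ)).2 nR
  obtain ⟨D, d1, d2⟩ := hm
  refine trace_bound (Q := Q.subgroupOf T) (R := R.subgroupOf T) (u := ⟨u, hu⟩) h (hθ.sub hQ)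
    (fun x => he _ x.2) (fun _ h => hR h) le_normalizer_of_normal (le_normalizer_of_normal (mem_top _))
    (fun z hz => hc _ hz) ⟨D.subgroupOf T, fun c h1 h2 => d1 _ h1 h2, ?_⟩
  rw [card_subgroupOf (hR.trans hQ), CfsgH1.card_subgroupOf]
  exact le_trans (by exact_mod_cast card_le_of_le inf_le_left) d2

theorem inertia_red' [Fintype Q] (nA : A ≤ N[Q]) (h : Ch (Q ⊔ A) t) (h0 : ∑ a ∈ fs A, t a = 0)
    (hθ : ICh Q θ) (hi : classInner (fun x : Q => t x) (fun x => θ x) ≠ 0) :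
    ∃ (ψ : G → ℂ) (e : ℕ), 0 < e ∧ Ch (Q ⊔ A ⊓ Inv Q θ) ψ ∧ (∀ x ∈ Q, ψ x = e * θ x) ∧
      ∑ a ∈ fs (A ⊓ Inv Q θ), ψ a = 0 := by
  have l : Q ≤ Q ⊔ A := le_sup_left
  haveI := (normal_subgroupOf_iff' l).2 (sup_le le_normalizer nA)
  haveI := Fintype.ofFinite (Q.subgroupOf (Q ⊔ A))
  obtain ⟨ψ, e, e0, h1, h2, h3⟩ := inertia_red (Q := Q.subgroupOf (Q ⊔ A)) (A := A.subgroupOf (Q ⊔ A))
    (by rw [← subgroupOf_sup le_sup_left le_sup_right, subgroupOf_self]) h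
    (by rwa [sum_fs_sub le_sup_right]) (hθ.sub l)
    (by rwa [← classInner_comp_equiv (subgroupOfEquivOfLe l).toEquiv] at hi)
  have k : ∀ x : (Q ⊔ A : Subgroup G), x ∈ inertia (N := Q.subgroupOf (Q ⊔ A))
      (fun x => θ (x : (Q ⊔ A : Subgroup G))) ↔ (x : G) ∈ Inv Q θ := fun x => by
    rw [mem_inertia']
    exact ⟨fun a => ⟨sup_le le_normalizer nA x.2, fun y hy => a ⟨⟨y, l hy⟩, hy⟩⟩, fun a y => a.2 _ y.2⟩
  have l2 : Q ⊔ A ⊓ Inv Q θ ≤ Q ⊔ A := sup_le_sup_left inf_le_left _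
  refine ⟨extendByZero _ ψ, e, e0, ?_, fun x hx => ?_, ?_⟩
  · have := h1.comp ((inclusion l2).codRestrict _ fun x => (k _).2
      (sup_le (le_Inv hθ.isCharacter) inf_le_right x.2))
    convert this using 2 with x
    exact extendByZero_of_mem _ (l2 x.2)
  · exact (extendByZero_of_mem _ (l hx)).trans (h2 ⟨⟨x, l hx⟩, hx⟩)
  · rw [← sum_fs_sub (inf_le_left.trans (le_sup_right (a := Q))), ← h3]
    refine Finset.sum_congr (congrArg _ (Subgroup.ext fun x => and_congr_right fun _ => (k x).symm))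
      fun x _ => extendByZero_coe _ _

theorem exists_ext' (nC : C ≤ Inv Q θ) (hC : Cyc[C]) (hθ : ICh Q θ) :
    ∃ χ, Ch (Q ⊔ C) χ ∧ ∀ x ∈ Q, χ x = θ x := by
  have l : Q ≤ Q ⊔ C := le_sup_left
  have n := sup_le (le_Inv hθ.isCharacter) nC
  haveI := (normal_subgroupOf_iff' l).2 (n.trans Inv_le)
  obtain ⟨χ, h1, h2⟩ := CfsgH4.exists_ext_of_cyclic (hθ.sub l)
    (fun g => funext fun x => (n g.2).2 _ x.2) (isCyclic_of_surjective ((QuotientGroup.mk' _).comp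
      (inclusion (le_sup_right : C ≤ Q ⊔ C))) fun x => by
        obtain ⟨⟨x, hx⟩, rfl⟩ := QuotientGroup.mk_surjective x
        obtain ⟨c, c1, y, y1, rfl⟩ := (mem_sup_of_norm (nC.trans Inv_le)).1 (sup_comm Q C ▸ hx)
        exact ⟨⟨c, c1⟩, QuotientGroup.eq.2 (by simpa [mem_subgroupOf] using y1)⟩)
  exact ⟨extendByZero _ χ, by simpa only [Ch, extendByZero_coe] using h1.isCharacter, fun x hx =>
    (extendByZero_of_mem _ (l hx)).trans (h2 ⟨⟨x, l hx⟩, hx⟩)⟩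

/-- an irreducible character `θ` of degree `d` with kernel `K` and centre `R ≥ Q'`. -/
structure KD (Q K R : Subgroup G) (d : ℕ) (θ : G → ℂ) : Prop where
  irr : ICh Q θ
  deg : θ 1 = d
  ker : ∀ x, x ∈ K ↔ x ∈ Q ∧ θ x = θ 1
  cen : ∀ x, x ∈ R ↔ x ∈ Q ∧ ‖θ x‖ = ‖θ 1‖
  cl : ⁅Q, Q⁆ ≤ R

theorem exists_KD (h : ICh Q θ) (h2 : ⁅Q, Q⁆ ≤ C[Q]) : ∃ K R d, KD Q K R d θ := by
  obtain ⟨d, hd⟩ := h.isCharacter.exists_nat_apply_one
  have k : ∀ x, x ∈ (charCenter fun x : Q => θ x).map Q.subtype ↔ x ∈ Q ∧ ‖θ x‖ = ‖θ 1‖ := fun x =>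
    ⟨by rintro ⟨y, hy, rfl⟩; exact ⟨y.2, h.isCharacter.mem_charCenter.1 hy⟩,
      fun a => ⟨⟨x, a.1⟩, h.isCharacter.mem_charCenter.2 a.2, rfl⟩⟩
  refine ⟨(charKer fun x : Q => θ x).map Q.subtype, _, d, h, hd, fun x =>
    ⟨by rintro ⟨y, hy, rfl⟩; exact ⟨y.2, h.isCharacter.mem_charKer.1 hy⟩,
      fun a => ⟨⟨x, a.1⟩, h.isCharacter.mem_charKer.2 a.2, rfl⟩⟩, k, fun x hx => (k x).2
    ⟨commutator_self_le hx, h.norm_apply_of_mem_center (z := ⟨x, commutator_self_le hx⟩)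
      (mem_center_iff.2 fun g => Subtype.ext (h2 hx g g.2))⟩⟩

theorem bd_cent (nQ : u ∈ N[Q]) (nR : u ∈ N[R]) (hR : R ≤ Q) (n : Q ≤ N[R])
    (hc : (orderOf u).Coprime o[Q]) : Bd Q R u (R.relIndex (Q ⊓ C1[u])) := by
  refine ⟨Q ⊓ C1[u] ⊔ R, fun c h1 h2 => ?_, ?_⟩
  · obtain ⟨r, r1, r2⟩ := CfsgH1.coprime_fixed_coset (A := zpowers u) (N := R) (k := c⁻¹)
      (zpowers_le.2 nR) (by rw [Nat.card_zpowers]; exact hc.coprime_dvd_right (card_dvd_of_le hR))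
      (Or.inl (isSolvable_of_comm inferInstance)) fun a ha => by
        have : ⁅zpowers c, zpowers u⁆ ≤ R := by
          rw [← qt_le_cent_iff (zpowers_le.2 (n h1)) (zpowers_le.2 nR), qt_zpowers (n h1),
            qt_zpowers nR, cent_zpowers, zpowers_le, mem_centralizer_singleton_iff, ← map_mul,
            ← map_mul, qmk_eq_iff']
          simpa [mul_assoc] using h2
        simpa [commutatorElement_def, mul_assoc] using
          this (commutator_mem_commutator (mem_zpowers c) ha)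
    rw [cent_zpowers] at r2
    rw [← inv_mem_iff, ← mul_inv_cancel_right c⁻¹ r]
    exact mul_mem_sup (mem_inf.2 ⟨mul_mem (inv_mem h1) (hR r1), r2⟩) (inv_mem r1)
  · rw [← CfsgH2.card_mul_relIndex (le_sup_right : R ≤ _), relIndex_sup_of_norm (inf_le_left.trans n),
      Nat.cast_mul, mul_comm]

omit [Finite G] in
theorem Bd.mono {m m' : ℝ} (h : Bd Q R u m) (hm : m ≤ m') : Bd Q R u m' :=
  let ⟨D, h1, h2⟩ := h
  ⟨D, h1, h2.trans (mul_le_mul_of_nonneg_right hm (Nat.cast_nonneg _))⟩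

theorem bd_one (nQ : u ∈ N[Q]) (nR : u ∈ N[R]) (hR : R ≤ Q) (n : Q ≤ N[R])
    (hc : (orderOf u).Coprime o[Q]) (h : Q ⊓ C1[u] ≤ R) : Bd Q R u 1 := by
  simpa [relIndex_eq_one.2 h] using bd_cent nQ nR hR n hc

namespace KD
variable {d : ℕ} (h : KD Q K R d θ) {x : G}
include h

omit [Finite G] in
theorem pos : 0 < d := Nat.pos_of_ne_zero fun e => h.irr.apply_one_ne_zero (by simp [h.deg, e])
omit [Finite G] in
theorem R_le : R ≤ Q := fun x hx => ((h.cen x).1 hx).1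
omit [Finite G] in
theorem K_le : K ≤ R := fun x hx => (h.cen x).2 ⟨((h.ker x).1 hx).1, by rw [((h.ker x).1 hx).2]⟩

theorem mem_R : x ∈ R ↔ x ∈ Q ∧ ∀ y ∈ Q, y * x * y⁻¹ * x⁻¹ ∈ K := by
  refine (h.cen x).trans (and_congr_right fun hx => ⟨fun a y hy => (h.ker _).2 ⟨?_, ?_⟩, fun a => ?_⟩)
  · exact mul_mem (mul_mem (mul_mem hy hx) (inv_mem hy)) (inv_mem hx)
  · exact h.irr.isCharacter.mem_charKer.1 (h.irr.isCharacter.commutator_mem_charKer (z := ⟨x, hx⟩)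
      (h.irr.isCharacter.mem_charCenter.2 a) ⟨y, hy⟩)
  · exact h.irr.isCharacter.mem_charCenter.1 (h.irr.mem_charCenter_of_commutator (z := ⟨x, hx⟩)
      fun g => h.irr.isCharacter.mem_charKer.2 ((h.ker _).1 (a g g.2)).2)

theorem zero (hx : x ∈ Q) (h1 : x ∉ R) : θ x = 0 := by
  rw [h.mem_R, and_iff_right hx] at h1
  push Not at h1
  obtain ⟨y, y1, y2⟩ := h1
  have := (h.cen _).1 (h.cl (commutator_mem_commutator y1 hx))
  exact h.irr.isCharacter.apply_eq_zero_of_commutator (g := ⟨x, hx⟩) (y := ⟨y, y1⟩)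
    (h.irr.isCharacter.mem_charCenter.2 this.2) fun e => y2 ((h.ker _).2 ⟨this.1, e⟩)

theorem card : d ^ 2 * o[R] = o[Q] := by
  rw [← card_subgroupOf h.R_le]
  exact h.irr.degree_sq_mul_card_eq (fun x hx => h.irr.isCharacter.mem_charCenter.2
    ((h.cen _).1 hx).2) (fun x hx => h.zero x.2 hx) h.deg

theorem relIndex : R.relIndex Q = d ^ 2 :=
  Nat.eq_of_mul_eq_mul_left Nat.card_pos ((CfsgH2.card_mul_relIndex h.R_le).trans
    (h.card.symm.trans (mul_comm _ _)))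

theorem inv_R : Inv Q θ ≤ N[R] := fun u hu => mem_norm_of_conj fun x hx => (h.cen _).2
  ⟨conj_mem_of_norm hu.1 (h.R_le hx), by rw [hu.2 _ (h.R_le hx), ((h.cen _).1 hx).2]⟩

theorem n_R : Q ≤ N[R] := (le_Inv h.irr.isCharacter).trans h.inv_R

theorem comm_le : ⁅R, Inv Q θ⁆ ≤ K := by
  rw [commutator_comm, commutator_le]
  intro u hu x hx
  have m := conj_mem_of_norm hu.1 (h.R_le hx)
  have k := fun g => h.irr.isCharacter.apply_mul_of_norm_eq (z := ⟨x⁻¹, h.R_le (inv_mem hx)⟩)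
    ((h.cen _).1 (inv_mem hx)).2 g
  have k1 := k ⟨_, m⟩
  have k2 := k ⟨_, h.R_le hx⟩
  simp only [coe_mul, hu.2 _ (h.R_le hx), mul_inv_cancel] at k1 k2
  exact (h.ker _).2 ⟨mul_mem m (h.R_le (inv_mem hx)),
    mul_left_cancel₀ h.irr.apply_one_ne_zero (k1.trans k2.symm)⟩

theorem inv_K : Inv Q θ ≤ N[K] := le_norm_of_between h.comm_le h.K_le

theorem le_inv (nQ : A ≤ N[Q]) (nR : A ≤ N[R]) (hc : ⁅R, A⁆ ≤ K) : A ≤ Inv Q θ := fun u hu => by
  refine ⟨nQ hu, fun x hx => ?_⟩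
  by_cases a : x ∈ R
  · have := (h.ker _).1 (hc (commutator_comm A R ▸ commutator_mem_commutator hu a))
    have b := h.irr.isCharacter.apply_mul_of_eq' (k := ⟨_, this.1⟩) this.2 ⟨x, hx⟩
    simpa [commutatorElement_def] using b
  · rw [h.zero hx a, h.zero (conj_mem_of_norm (nQ hu) hx) fun b => a ?_]
    simpa [mul_assoc] using conj_mem_of_norm' (nR hu) b

theorem bd_all : Bd Q R u (d ^ 2) := ⟨Q, fun _ h _ => h, by rw [← h.card]; simp⟩

theorem bound (hT : T ≤ Inv Q θ) (hψ : Ch (Q ⊔ T) ψ) {e : ℕ} (he : ∀ x ∈ Q, ψ x = e * θ x)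
    (hu : u ∈ T) {m : ℝ} (hm : Bd Q R u m) : ‖ψ u‖ ^ 2 ≤ e ^ 2 * m :=
  have := sup_le (le_Inv h.irr.isCharacter) hT
  trace_bound' le_sup_left (this.trans Inv_le) hψ h.irr he h.R_le (this.trans h.inv_R)
    (mem_sup_right hu) (fun z hz => by
      rw [he _ (h.R_le hz), he _ (one_mem _), norm_mul, norm_mul, ((h.cen _).1 hz).2]) hm

theorem mult (nC : C ≤ Inv Q θ) (hC : Cyc[C]) (m : G → ℝ) (hm : ∀ u ∈ C, Bd Q R u (m u)) :
    ∃ n : IrrCharacter C → ℕ, ∑ i, n i = d ∧ o[C] * ∑ i, (n i : ℝ) ^ 2 ≤ ∑ u ∈ fs C, m u := by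
  haveI := Fintype.ofFinite C
  obtain ⟨χ, h1, h2⟩ := exists_ext' nC hC h.irr
  obtain ⟨n, n1, n2⟩ := exists_mult (fun a b => mul_comm' a b) (h1.mono le_sup_right)
    ((h2 1 (one_mem _)).trans h.deg)
  refine ⟨n, n1, ?_⟩
  rw [← n2, sum_fs]
  exact Finset.sum_le_sum fun u _ => by
    simpa using h.bound nC h1 (e := 1) (by simpa using h2) u.2 (hm u u.2)

theorem N2 (nC : C ≤ Inv Q θ) (hC : Cyc[C]) (m : G → ℝ) (hm : ∀ u ∈ C, Bd Q R u (m u)) :
    (o[C] * d : ℝ) ≤ ∑ u ∈ fs C, m u := by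
  obtain ⟨n, n1, n2⟩ := h.mult nC hC m hm
  refine le_trans (mul_le_mul_of_nonneg_left ?_ (Nat.cast_nonneg _)) n2
  rw [← n1, Nat.cast_sum]
  exact Finset.sum_le_sum fun i _ => by exact_mod_cast Nat.le_self_pow two_ne_zero _

theorem N1 [DecidableEq G] [Fintype Q] (nA : A ≤ N[Q]) (ht : Ch (Q ⊔ A) t) (h0 : ∑ a ∈ fs A, t a = 0)
    (hi : classInner (fun x : Q => t x) (fun x => θ x) ≠ 0) (b : G → ℝ)
    (hb : ∀ u ∈ A ⊓ Inv Q θ, u ≠ 1 → 0 ≤ b u ∧ Bd Q R u (b u ^ 2)) :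
    (d : ℝ) ≤ ∑ u ∈ (fs (A ⊓ Inv Q θ)).erase 1, b u := by
  obtain ⟨ψ, e, e0, h1, h2, h3⟩ := inertia_red' nA ht h0 h.irr hi
  rw [← Finset.add_sum_erase _ _ (mem_fs.2 (one_mem _)), h2 1 (one_mem _), h.deg] at h3
  have := norm_sum_le ((fs (A ⊓ Inv Q θ)).erase 1) ψ
  rw [← neg_eq_of_add_eq_zero_right h3, norm_neg, norm_mul, Complex.norm_natCast,
    Complex.norm_natCast] at this
  refine le_of_mul_le_mul_left (this.trans ?_) (Nat.cast_pos.2 e0)
  rw [Finset.mul_sum]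
  refine Finset.sum_le_sum fun u hu => ?_
  obtain ⟨a, c⟩ := Finset.mem_erase.1 hu
  obtain ⟨b1, b2⟩ := hb u (mem_fs.1 c) a
  exact (pow_le_pow_iff_left₀ (norm_nonneg _) (by positivity) two_ne_zero).1
    ((h.bound inf_le_right h1 h2 (mem_fs.1 c) b2).trans_eq (mul_pow _ _ _).symm)

end KD

end CfsgCP
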