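import Cfsg.Agent.H9.Cp1
import Cfsg.Agent.H9.FitL
import Cfsg.Agent.H1.HH

/-! Coprime action: constituents of modules, and reduction to primitive configurations. -/

set_option autoImplicit false
open Subgroup Cfsg CfsgH3 CfsgH2 Function
open CfsgH1 (fs mem_fs card_fs sum_fs sum_irr_nat Frob)
open CfsgH9 (LF nres)
open scoped commutatorElement IsMulCommutative ComplexConjugate

namespace CfsgCP

universe u v
variable {G : Type u} [Group G] [Finite G] {Q K R D C A S T V X Y N L : Subgroup G} {θ : G → ℂ}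
  {p q r t d : ℕ}

/-- `K` is maximal among the normal subgroups of `Q` with fixed points on `V`. -/
structure MK (V Q K : Subgroup G) : Prop where
  le : K ≤ Q
  n : Q ≤ N[K]
  ne : V ⊓ C[K] ≠ ⊥
  max : ∀ L, K ≤ L → L ≤ Q → Q ≤ N[L] → V ⊓ C[L] ≠ ⊥ → L = K

theorem exists_MK (h : V ≠ ⊥) (Q : Subgroup G) : ∃ K, MK V Q K := by
  obtain ⟨K, -, ⟨a, b, c⟩, h2⟩ := exists_maximal_ge (fun L => L ≤ Q ∧ Q ≤ N[L] ∧ V ⊓ C[L] ≠ ⊥)
    (H := ⊥) ⟨bot_le, by rw [norm_bot]; exact le_top, by rwa [cent_bot, inf_top_eq]⟩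
  exact ⟨K, a, b, c, fun L h1 h3 h4 h5 => h2 L ⟨h3, h4, h5⟩ h1⟩

omit [Finite G] in
theorem MK.map (h : MK V Q K) {g : G} (h1 : g ∈ N[V]) (h2 : g ∈ N[Q]) : MK V Q (K.map (cj g)) := by
  have k : ∀ {g : G} {K : Subgroup G}, g ∈ N[V] → V ⊓ C[K] ≠ ⊥ → V ⊓ C[K.map (cj g)] ≠ ⊥ :=
    fun h1 h2 => by
    rwa [centralizer_map_cj, ← map_cj_eq h1, ← map_cj_inf, ne_eq, map_cj_eq_bot]
  have k2 : ∀ {g : G} {K : Subgroup G}, g ∈ N[Q] → Q ≤ N[K] → Q ≤ N[K.map (cj g)] :=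
    fun h1 h2 => by
    rwa [normalizer_map_cj, ← map_cj_eq h1, map_cj_le_map_cj]
  refine ⟨map_cj_le_of_norm h.le h2, k2 h2 h.n, k h1 h.ne, fun L a b c d => ?_⟩
  rw [← h.max _ (le_map_cj_iff.2 (by rwa [inv_inv])) (map_cj_le_of_norm b (inv_mem h2))
    (k2 (inv_mem h2) c) (k (inv_mem h1) d), map_cj_cj_inv]

/-- the degree bound from the absence of fixed points. -/
def N1S (Q R I : Subgroup G) (d : ℕ) : Prop :=
  ∀ [DecidableEq G] (b : G → ℝ), (∀ u ∈ I, u ≠ 1 → 0 ≤ b u ∧ Bd Q R u (b u ^ 2)) →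
    (d : ℝ) ≤ ∑ u ∈ (fs I).erase 1, b u

theorem N1S.le {I : Subgroup G} (h : N1S Q R I d) {c : ℝ} (hc : 0 ≤ c)
    (hb : ∀ u ∈ I, u ≠ 1 → Bd Q R u (c ^ 2)) : (d : ℝ) ≤ (o[I] - 1) * c := by
  classical
  have := h (fun _ => c) fun u a b => ⟨hc, hb u a b⟩
  rwa [Finset.sum_const, Finset.card_erase_of_mem (mem_fs.2 (one_mem _)), card_fs, nsmul_eq_mul,
    Nat.cast_pred Nat.card_pos] at this

theorem N1S.ne_bot {I : Subgroup G} (h : N1S Q R I d) (hd : 0 < d) : I ≠ ⊥ := by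
  rintro rfl
  have := h.le le_rfl fun u a b => (b (mem_bot.1 a)).elim
  rw [mul_zero, Nat.cast_nonpos] at this
  omega

theorem MK.exists_KD [hp : Fact t.Prime] (hK : MK V Q K) (hV : IsElementaryAbelian t V)
    (nV : Q ⊔ A ≤ N[V]) (nA : A ≤ N[Q]) (hc : ¬ t ∣ o[Q ⊔ A]) (h0 : V ⊓ C[A] = ⊥)
    (h2 : ⁅Q, Q⁆ ≤ C[Q]) : ∃ R d θ, KD Q K R d θ ∧ N1S Q R (A ⊓ Inv Q θ) d := by
  classical
  haveI := Fintype.ofFinite Q
  obtain ⟨τ, h1, h3⟩ := exists_char_bridge' hV nV hc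
  have k : ∀ L ≤ Q ⊔ A, ∑ a ∈ fs L, τ a = 0 ↔ V ⊓ C[L] = ⊥ := fun L hL => by
    obtain ⟨e, a, b⟩ := h3 L hL
    rw [b, ← card_eq_one, a]
    simp [hp.out.ne_one, Nat.card_pos.ne']
  have c := Ch.mono h1 (le_sup_left (b := A))
  haveI := Fintype.ofFinite (K.subgroupOf Q)
  haveI := (normal_subgroupOf_iff' hK.le).2 hK.n
  obtain ⟨φ, p1, p2⟩ : ∃ φ : IrrCharacter Q, classInner (fun x : Q => τ x) φ ≠ 0 ∧
      ∑ x : K.subgroupOf Q, φ.1 x ≠ 0 := by
    by_contra hn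
    push Not at hn
    refine hK.ne ((k K (hK.le.trans le_sup_left)).1 ?_)
    rw [← sum_fs_sub hK.le, sum_fs (t := fun x : Q => τ x), Finset.sum_congr rfl fun x _ =>
      c.isClassFunction.apply_eq_sum_irr _, Finset.sum_comm]
    refine Finset.sum_eq_zero fun φ _ => ?_
    rw [← Finset.mul_sum, mul_eq_zero, or_iff_not_imp_left]
    exact hn φ
  have e : (fun x : Q => extendByZero Q φ.1 x) = φ.1 := funext fun x => extendByZero_coe _ _
  obtain ⟨K', R, d, h⟩ := CfsgCP.exists_KD (θ := extendByZero Q φ.1) (by rw [ICh, e]; exact φ.2) h2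
  have l := h.K_le.trans h.R_le
  obtain rfl : K' = K := hK.max _ (fun x hx => (h.ker x).2 ⟨hK.le hx, by
      by_contra hn
      exact p2 (by
        simpa using sum_eq_zero_of_not_le_ker (N := K.subgroupOf Q) φ.2 ⟨⟨x, hK.le hx⟩, hx, fun a => hn
          ((congrFun e ⟨x, hK.le hx⟩).trans (a.trans (congrFun e 1).symm))⟩ 1)⟩) l
    ((le_Inv h.irr.isCharacter).trans h.inv_K) fun a => by
      haveI := Fintype.ofFinite K'
      obtain ⟨m, m1, m2⟩ := CfsgH1.sum_le_of_constituent (inclusion l) c φ.2 p1 (n := 0)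
        (by simpa [sum_fs] using (k K' (l.trans le_sup_left)).2 a)
      rw [Finset.sum_congr rfl (g := fun _ => (d : ℂ)) fun x _ => (congrFun e _).symm.trans
        (((h.ker _).1 x.2).2.trans h.deg), Nat.le_zero.1 m1] at m2
      simpa [h.pos.ne'] using m2
  exact ⟨R, d, _, h, fun b hb => h.N1 nA h1 ((k A le_sup_right).2 h0) (by rwa [e]) b hb⟩

theorem KD.map_inv (h : KD Q K R d θ) {s : G} (hs : s ∈ N[Q]) {R' : Subgroup G} {d' : ℕ} {θ' : G → ℂ}
    (h' : KD Q (K.map (cj s)) R' d' θ') : (Inv Q θ').map (cj s⁻¹) ≤ Inv Q θ := by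
  have e : R'.map (cj s⁻¹) = R := Subgroup.ext fun x => by
    rw [mem_map_cj, inv_inv, h'.mem_R, h.mem_R]
    refine ⟨fun a => ⟨by simpa [mul_assoc] using conj_mem_of_norm' hs a.1, fun y hy => ?_⟩,
      fun a => ⟨conj_mem_of_norm hs a.1, fun y hy => ?_⟩⟩
    · simpa [mul_assoc] using mem_map_cj.1 (a.2 _ (conj_mem_of_norm hs hy))
    · rw [mem_map_cj]
      simpa [mul_assoc] using a.2 _ (conj_mem_of_norm' hs hy)
  refine h.le_inv (map_cj_le_of_norm Inv_le (norm_le_norm_norm _ (inv_mem hs))) ?_ ?_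
  · rw [← e, normalizer_map_cj, map_cj_le_map_cj]; exact h'.inv_R
  · rw [← e, ← map_commutator, map_cj_le_iff, inv_inv]; exact h'.comm_le

/-- every conjugate of `A` meets the inertia group. -/
theorem MK.conj_meet [hp : Fact t.Prime] (hK : MK V Q K) (hV : IsElementaryAbelian t V)
    (nV : Q ⊔ A ≤ N[V]) (nA : A ≤ N[Q]) (hc : ¬ t ∣ o[Q ⊔ A]) (h0 : V ⊓ C[A] = ⊥)
    (h2 : ⁅Q, Q⁆ ≤ C[Q]) (h : KD Q K R d θ) {s : G} (s1 : s ∈ N[V]) (s2 : s ∈ N[Q]) :
    ∃ b ∈ A, b ≠ 1 ∧ s⁻¹ * b * s ∈ Inv Q θ := by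
  obtain ⟨R', d', θ', h', n⟩ := (hK.map s1 s2).exists_KD hV nV nA hc h0 h2
  obtain ⟨b, b1, b2⟩ := exists_ne_one (n.ne_bot h'.pos)
  exact ⟨b, b1.1, b2, h.map_inv s2 h' (by simpa using conj_mem_map_cj (g := s⁻¹) b1.2)⟩

theorem nres_le_ker {G' : Type*} [Group G'] [Finite G'] (f : G →* G') (h : Nil[L.map f]) :
    nres L ≤ f.ker :=
  (Subgroup.map_eq_bot_iff _).1 ((CfsgH9.map_LF f L 1).trans (CfsgH9.nres_eq_bot.2 h))

theorem nil_of_map {G' : Type*} [Group G'] [Finite G'] (f : G →* G') (h : Nil[L.map f])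
    (h0 : L ⊓ f.ker = ⊥) : Nil[L] :=
  CfsgH9.nres_eq_bot.1 (le_bot_iff.1 (h0 ▸ le_inf (CfsgH9.nres_le _) (nres_le_ker f h)))

/-- a primitive configuration. -/
structure PC (t n : ℕ) (V N A : Subgroup G) : Prop where
  el : IsElementaryAbelian t V
  ne : V ≠ ⊥
  nN : N ≤ N[V]
  nA : A ≤ N[V]
  nAN : A ≤ N[N]
  sol : Sol[N]
  cop : o[A].Coprime o[V ⊔ N]
  cen : N ⊓ C[V] = ⊥
  core : O[{t}, N] = ⊥
  fix : LF n ((V ⊔ N) ⊓ C[A]) = ⊥
  ind : ∀ U W, U ≤ V → W ≤ V → N ⊔ A ≤ N[U] → N ⊔ A ≤ N[W] → U ⊓ W = ⊥ → U = ⊥ ∨ W = ⊥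

section red
variable {A₀ : Type v} [Group A₀] {n : ℕ}
  {ρ : ∀ (G : Type u) [Group G], Subgroup G → (A₀ →* G) → Subgroup G}
  (hle : ∀ (G : Type u) [Group G] [Finite G] (X : Subgroup G) (f : A₀ →* G), f.range ≤ N[X] →
    ρ G X f ≤ X ∧ X ≤ N[ρ G X f])
  (hmap : ∀ (G G' : Type u) [Group G] [Group G'] [Finite G] [Finite G'] (π : G →* G')
    (X : Subgroup G) (f : A₀ →* G), (ρ G X f).map π = ρ G' (X.map π) (π.comp f))
  (H : ∀ (G : Type u) [Group G] [Finite G] (V N : Subgroup G) (f : A₀ →* G) (t : ℕ) [Fact t.Prime],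
    Injective f → PC t n V N f.range → Nil[ρ G N f] → ρ G N f = ⊥)
include hle hmap H

theorem prim_aux (m : ℕ) : ∀ (G : Type u) [Group G] [Finite G] (X : Subgroup G) (f : A₀ →* G),
    o[X] = m → Injective f → X.Normal → X ⊔ f.range = ⊤ → Sol[X] → o[f.range].Coprime o[X] →
    LF n (X ⊓ C[f.range]) = ⊥ → Nil[ρ G X f] := by
  induction m using Nat.strong_induction_on with
  | _ m ih =>
  intro G _ _ X f hm hf hX ht hs hc h0
  have nA : f.range ≤ N[X] := le_normalizer_of_normal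
  obtain ⟨l1, l2⟩ := hle G X f nA
  have IH : ∀ (W : Subgroup G) [W.Normal], W ≤ X → W ≠ ⊥ →
      Nil[(ρ G X f).map (QuotientGroup.mk' W)] := fun W _ h1 h2 => by
    have c := hc.coprime_dvd_right (card_dvd_of_le h1)
    rw [hmap]
    refine ih _ ?_ _ _ _ rfl ((injective_iff_map_eq_one _).2 fun a ha => hf ?_)
      (CfsgH1.normal_map_mk' _ _) (by rw [← MonoidHom.map_range, ← Subgroup.map_sup, ht, map_mk_top])
      (isSolvable_map _ hs) ?_ ?_
    · rw [← hm, ← CfsgH2.card_map_mul_card_inf_ker (QuotientGroup.mk' W) X, QuotientGroup.ker_mk',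
        inf_of_le_right h1]
      exact lt_mul_of_one_lt_right Nat.card_pos (one_lt_card_iff_ne_bot _ |>.2 h2)
    · rw [map_one]
      exact CfsgH1.eq_one_of_mem_of_coprime c ⟨a, rfl⟩ ((QuotientGroup.eq_one_iff _).1 ha)
    · rw [← MonoidHom.map_range]
      exact (hc.coprime_dvd_left (card_map_dvd _ _)).coprime_dvd_right (card_map_dvd _ _)
    · rw [← MonoidHom.map_range, CfsgH1.coprime_centralizer_map_mk' h1 c
        (Or.inr (isSolvable_of_le hs h1)), ← CfsgH9.map_LF, h0, Subgroup.map_bot]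
  by_contra hn
  have U : ∀ (U W : Subgroup G), U.Normal → W.Normal → U ≤ X → W ≤ X → U ⊓ W = ⊥ → U = ⊥ ∨ W = ⊥ :=
    fun U W _ _ h1 h2 h3 => by
      by_contra h
      rw [not_or] at h
      have a := nres_le_ker _ (IH U h1 h.1)
      have b := nres_le_ker _ (IH W h2 h.2)
      rw [QuotientGroup.ker_mk'] at a b
      exact hn (CfsgH9.nres_eq_bot.1 (le_bot_iff.1 ((le_inf a b).trans h3.le)))
  have x0 : X ≠ ⊥ := fun e => hn (by rw [le_bot_iff.1 (l1.trans e.le)]; exact nil_bot)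
  obtain ⟨t, _, V₀, v1, v2, v3, v4, -⟩ := exists_min_norm hs x0 le_normalizer
  obtain ⟨P, hP⟩ : ∃ P, P = O[{t}, X] := ⟨_, rfl⟩
  have pP : PG[t, P] := hP ▸ isPGroup_piCoreOf
  have pX : P ≤ X := hP ▸ piCoreOf_le
  have nP : P.Normal := hP ▸ inferInstance
  have P0 : P ≠ ⊥ := fun e => v2 (le_bot_iff.1 (e ▸ hP ▸ le_pCoreOf v1 v3 (elem_pgroup v4)))
  have o1 : O[{t}ᶜ, X] = ⊥ := (U _ _ nP inferInstance pX piCoreOf_le
    (hP ▸ piCoreOf_inf_compl)).resolve_left P0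
  have cP : X ⊓ C[P] ≤ P := hP ▸ cent_core_le hs o1
  have nΦ : (Φ[P]).Normal := normal_of_top_le_norm (le_normalizer_of_normal.trans norm_le_norm_phi)
  by_cases e1 : Φ[P] = ⊥
  swap
  · refine hn (nil_of_pg (p := t) (isPGroup_of_piRes ?_))
    rw [le_bot_iff.1 (piRes_le_iff.2 fun x x1 x2 => mem_bot.2 ?_ : _ ≤ ⊥)]
    · exact IsPGroup.of_bot
    have c : o[zpowers x].Coprime o[P] :=
      coprime_of_not_dvd (Nat.card_zpowers x ▸ (Nat.Prime.coprime_iff_not_dvd Fact.out).1 x2.symm) pP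
    have := nil_le_cent (nil_sup (IH _ (phi_le.trans pX) e1) (isNilpotent_map _ (nil_of_pg pP))
      (map_le_norm_map _ le_normalizer_of_normal) (map_le_norm_map _ (pX.trans l2)))
      (le_sup_right (b := P.map _)) ((map_mono (zpowers_le.2 x1)).trans le_sup_left)
      ((c.symm.coprime_dvd_left (card_map_dvd _ _)).coprime_dvd_right (card_map_dvd _ _))
    rw [map_le_cent_map_iff_comm, QuotientGroup.ker_mk'] at this
    exact CfsgH1.eq_one_of_mem_of_coprime c (mem_zpowers x) (cP ⟨l1 x1,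
      coprime_le_cent_of_phi le_normalizer_of_normal c this (mem_zpowers x)⟩)
  have eP := elem_of_phi_eq_bot pP e1
  let π := QuotientGroup.mk' P
  have kπ : π.ker = P := QuotientGroup.ker_mk' _
  haveI := CfsgH1.normal_map_mk' P X
  obtain ⟨T, hT⟩ : ∃ T, T = F[X.map π].comap π := ⟨_, rfl⟩
  haveI nT : T.Normal := hT ▸ (normal_of_top_le_norm
    (le_norm_fit' le_normalizer_of_normal)).comap π
  have pT : P ≤ T := hT ▸ le_comap_mk _ _
  have tX : T ≤ X := hT.le.trans ((comap_mono fit_le).trans (by rw [comap_map_mk, sup_of_le_left pX]))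
  have eT : T.map π = F[X.map π] := by rw [hT, map_comap_mk]
  obtain ⟨B, b1, b2⟩ := exists_inv_hall {t}ᶜ (le_normalizer_of_normal (H := T))
    (hc.coprime_dvd_right (card_dvd_of_le tX)) (isSolvable_of_le hs tX)
  have o2 : O[{t}, X.map π] = ⊥ := by
    rw [← map_piCoreOf π (by rw [kπ]; exact isPGroup_iff_piN.1 (pP.to_le inf_le_right)), ← hP,
      map_mk_eq_bot]
  have tB : P ⊔ B = T := Hall.sup_eq (π := {t}) ⟨pT, isPGroup_iff_piN.1 pP, by
    rw [← card_map_mk, eT]; exact fit_piN (by rwa [compl_compl])⟩ b1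
  obtain ⟨N, hN⟩ : ∃ N, N = X ⊓ N[B] := ⟨_, rfl⟩
  have nX : N ≤ X := hN ▸ inf_le_left
  have eX : P ⊔ N = X := by
    rw [← b1.frattini_sup (isSolvable_of_le hs tX) tX le_normalizer_of_normal, ← hN, ← tB, sup_assoc,
      sup_of_le_right (hN ▸ le_inf (b1.le.trans tX) le_normalizer : B ≤ N)]
  have aN : f.range ≤ N[N] := hN ▸ le_norm_inf nA (le_norm_norm b2)
  have nB : N ⊔ f.range ≤ N[B] := sup_le (hN ▸ inf_le_right) b2
  have nm : ∀ W ≤ P, N ⊔ f.range ≤ N[W] → W.Normal := fun W h1 h2 => normal_of_top_le_norm (by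
    rw [← ht, ← eX, sup_assoc]
    exact sup_le ((le_cent_of_comm eP.1 h1).trans (cent_le_norm _)) h2)
  have cB : o[B].Coprime o[P] := coprime_of_not_dvd ((piN_compl_singleton Fact.out).1 b1.pi) pP
  have l3 : ⁅P, B⁆ ≤ P := comm_le_left le_normalizer_of_normal
  rcases U (P ⊓ C[B]) ⁅P, B⁆ (nm _ inf_le_left (le_norm_inf le_normalizer_of_normal (le_norm_cent nB)))
    (nm _ l3 (le_norm_commutator le_normalizer_of_normal nB)) (inf_le_left.trans pX) (l3.trans pX)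
    (haveI := eP.1; CfsgH1.coprime_inf_commutator (V := P) (A := B) le_normalizer_of_normal cB)
    with e2 | e2
  swap
  · have : B ≤ P := (le_inf (b1.le.trans tX) (le_centralizer_iff.1 (comm_eq_bot_iff.1 e2))).trans cP
    rw [sup_of_le_left this] at tB
    rw [← tB, (map_mk_eq_bot _).2 le_rfl] at eT
    by_cases e3 : X.map π = ⊥
    · exact hn (isNilpotent_of_le (nil_of_pg pP) (l1.trans ((map_mk_eq_bot _).1 e3)))
    · exact fit_ne_bot (isSolvable_map _ hs) e3 eT.symm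
  have d1 : N ⊓ P = ⊥ := le_bot_iff.1 (e2 ▸ le_inf inf_le_right (coprime_norm_le_cent
    (inf_le_left.trans (le_sup_left.trans nB)) (le_norm_inf (le_norm_of_le (hN ▸ le_inf
      (b1.le.trans tX) le_normalizer)) le_normalizer_of_normal)
      (cB.coprime_dvd_right (card_dvd_of_le inf_le_right))))
  have e4 : (ρ G N f).map π = (ρ G X f).map π := by
    rw [hmap, hmap, ← eX, Subgroup.map_sup, (map_mk_eq_bot _).2 le_rfl, bot_sup_eq]
  have := H G P N f t hf ⟨eP, P0, le_normalizer_of_normal, le_normalizer_of_normal, aN,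
    isSolvable_of_le hs nX, eX ▸ hc, le_bot_iff.1 (d1 ▸ le_inf inf_le_left
      ((inf_le_inf_right _ nX).trans cP)), le_bot_iff.1 (d1 ▸ le_inf piCoreOf_le ?_), eX ▸ h0,
    fun _ _ u w a b => U _ _ (nm _ u a) (nm _ w b) (u.trans pX) (w.trans pX)⟩
    (nil_of_map π (e4 ▸ IH P pX P0) (le_bot_iff.1 (d1 ▸ inf_le_inf (hle G N f aN).1 kπ.le)))
  · rw [this, Subgroup.map_bot, eq_comm, map_mk_eq_bot] at e4
    exact hn (isNilpotent_of_le (nil_of_pg pP) e4)
  · refine le_sup_right.trans ((le_pCoreOf (K := P ⊔ O[{t}, N]) (sup_le pX (piCoreOf_le.trans nX))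
      ?_ (isPGroup_sup pP isPGroup_piCoreOf (Or.inr le_normalizer_of_normal))).trans hP.ge)
    rw [← eX]
    exact sup_le (le_norm_of_le le_sup_left) (le_norm_sup le_normalizer_of_normal le_norm_piCoreOf)

theorem prim_red (X : Subgroup G) (f : A₀ →* G) (hf : Injective f) (nA : f.range ≤ N[X])
    (hs : Sol[X]) (hc : o[f.range].Coprime o[X]) (h0 : LF n (X ⊓ C[f.range]) = ⊥) :
    Nil[ρ G X f] := by
  let L := X ⊔ f.range
  let g : A₀ →* L := f.codRestrict L fun x => mem_sup_right ⟨x, rfl⟩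
  have i := L.subtype_injective
  have e1 : (X.subgroupOf L).map L.subtype = X := map_subgroupOf_eq_of_le le_sup_left
  have e2 : g.range.map L.subtype = f.range := by rw [MonoidHom.map_range]; rfl
  have := prim_aux hle hmap H _ L (X.subgroupOf L) g rfl (fun a b h => hf (congrArg Subtype.val h))
    ((normal_subgroupOf_iff' le_sup_left).2 (sup_le le_normalizer nA))
    (map_injective i (by rw [Subgroup.map_sup, e1, e2, map_subtype_top]))
    ((inj_isSolvable i).1 (by rwa [e1]))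
    (by rwa [← card_map_of_injective i, ← card_map_of_injective (K := X.subgroupOf L) i, e1, e2])
    (by rwa [← map_eq_bot_iff_of_injective _ i, CfsgH9.map_LF, ← inj_inf_cent i, e1, e2])
  rwa [← inj_isNilpotent i, hmap, e1] at this

end red

end CfsgCP
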