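import Cfsg.Agent.H9.Cp2
import Cfsg.Agent.S3784

/-! Coprime action of cyclic `p`-groups without fixed points (Shult, Gross). -/

set_option autoImplicit false
open Subgroup Cfsg CfsgH3 CfsgH2 Function
open CfsgH1 (fs mem_fs card_fs sum_fs sum_irr_nat Frob)
open CfsgH9 (LF nres)
open scoped commutatorElement IsMulCommutative ComplexConjugate

namespace CfsgCP

universe u v
variable {G : Type u} [Group G] [Finite G] {Q K R D B C A M S T U V W X Y N L : Subgroup G}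
  {θ : G → ℂ} {p q r t d : ℕ}

theorem qt_fix (hA : A ≤ N[W]) (hK : K ≤ N[W]) (hn : A ≤ N[K]) (hc : o[A].Coprime o[K])
    (hs : Sol[K]) : qt W (K ⊓ C[A]) = qt W K ⊓ C[qt W A] :=
  CfsgH9.im_inf_centralizer (f := qmk W) hA hK hn (hc.coprime_dvd_right (card_dvd_of_le inf_le_right))
    (Or.inr (isSolvable_of_le hs inf_le_right))

/-- the outcome of the Hall-Higman reduction. -/
structure SP (q : ℕ) (Q S : Subgroup G) : Prop where
  pg : PG[q, Q]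
  comm : ⁅Q, S⁆ = Q
  cen : Q ⊓ C[S] = Φ[Q]
  phi : Φ[Q] ≤ C[Q]
  ne : Q ≠ ⊥

theorem exists_SP [Fact q.Prime] (hQ : PG[q, Q]) (nB : B ≤ N[Q]) (hS : S ≤ B) (nS : B ≤ N[S])
    (hc : ¬ q ∣ o[S]) (h : ¬ S ≤ C[Q]) : ∃ P ≤ Q, B ≤ N[P] ∧ SP q P S := by
  obtain ⟨P, h1, ⟨h2, h3⟩, h4⟩ := exists_minimal_le (fun P => B ≤ N[P] ∧ ¬ S ≤ C[P]) ⟨nB, h⟩
  obtain ⟨a, b, c, -⟩ := CfsgH1.hh_reduction (hQ.to_le h1) h2 hS nS hc h3 fun U u1 u2 =>
    by_contra fun u3 => u1.ne (h4 U ⟨u2, u3⟩ u1.le)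
  exact ⟨P, h1, h2, hQ.to_le h1, a, b, c, fun e => h3 (by rw [e, cent_bot]; exact le_top)⟩

theorem SP.der [Fact q.Prime] (h : SP q Q S) : ⁅Q, Q⁆ ≤ Φ[Q] := comm_le_phi (nil_of_pg h.pg)
theorem SP.cl [Fact q.Prime] (h : SP q Q S) : ⁅Q, Q⁆ ≤ C[Q] := h.der.trans h.phi

omit [Finite G] in
theorem MK.not_le (h : MK V Q K) (h0 : V ⊓ C[Q] = ⊥) : ¬ Q ≤ K := fun a =>
  h.ne (le_bot_iff.1 ((inf_le_inf_left _ (cent_anti a)).trans h0.le))

theorem sum_ite_mem (hl : C ≤ D) [DecidablePred (· ∈ C)] (a : ℝ) :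
    ∑ u ∈ fs D, (if u ∈ C then a else 0) = o[C] * a := by
  rw [← Finset.sum_filter, Finset.sum_const, nsmul_eq_mul, ← card_fs]
  congr 3
  ext x
  simpa using fun h => hl h

namespace KD
variable (h : KD Q K R d θ)
include h

theorem center_le : Q ⊓ C[Q] ≤ R := fun x hx => h.mem_R.2 ⟨hx.1, fun y hy => by
  rw [hx.2 y hy]; simp⟩

theorem one_lt (hS : S ≤ Inv Q θ) (h1 : ¬ ⁅Q, S⁆ ≤ K) : 1 < d :=
  lt_of_le_of_ne h.pos fun e => h1 (by
    have := h.relIndex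
    rw [← e, one_pow, relIndex_eq_one] at this
    exact (commutator_mono this hS).trans h.comm_le)

theorem pow_eq [hq : Fact q.Prime] (hQ : PG[q, Q]) : ∃ m, d = q ^ m := by
  obtain ⟨n, hn⟩ := exists_card_eq_pow hQ
  obtain ⟨m, -, e⟩ := (Nat.dvd_prime_pow hq.out).1 ((Dvd.intro (d * o[R]) (by rw [← h.card]; ring) :
    d ∣ o[Q]).trans hn.dvd)
  exact ⟨m, e⟩

theorem not_ab (hd : 1 < d) : ¬ Ab[Q] := fun a => by
  have := h.relIndex
  rw [relIndex_eq_one.2 ((le_inf le_rfl (le_cent_self a)).trans h.center_le)] at this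
  nlinarith

theorem bd1 {u : G} (hu : u ∈ Inv Q θ) (hc : (orderOf u).Coprime o[Q]) (h1 : Q ⊓ C1[u] ≤ R) :
    Bd Q R u 1 := bd_one hu.1 (h.inv_R hu) h.R_le h.n_R hc h1

theorem semi_le (nC : C ≤ Inv Q θ) (hC : Cyc[C]) (h1 : ∀ u ∈ C, u ≠ 1 → Bd Q R u 1) (hd : 1 < d) :
    o[C] ≤ d + 1 := by
  classical
  have := h.N2 nC hC (fun u => 1 + if u ∈ (⊥ : Subgroup G) then (d : ℝ) ^ 2 - 1 else 0) fun u hu => by
    by_cases e : u = 1
    · simpa [e] using h.bd_all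
    · simpa [e] using h1 u hu e
  rw [Finset.sum_add_distrib, sum_ite_mem bot_le, Finset.sum_const, card_fs, card_bot] at this
  have a : (1 : ℝ) < d := by exact_mod_cast hd
  have : (o[C] : ℝ) ≤ d + 1 := by
    simp only [nsmul_eq_mul, Nat.cast_one] at this
    nlinarith
  exact_mod_cast this

theorem le_norm_R (nQ : U ≤ N[Q]) (hc : U ≤ C[⁅Q, Q⁆]) : U ≤ N[R] := fun u hu =>
  mem_norm_of_conj fun x hx => h.mem_R.2 ⟨conj_mem_of_norm (nQ hu) (h.R_le hx), fun y hy => by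
    have m := conj_mem_of_norm' (nQ hu) hy
    have a := hc hu _ (commutator_mem_commutator m (h.R_le hx))
    have b := (h.mem_R.1 hx).2 _ m
    rw [commutatorElement_def, eq_comm, ← mul_inv_eq_iff_eq_mul] at a
    rw [← a] at b
    convert b using 1
    group⟩

theorem le_inv_of (hY : Y ≤ Inv Q θ) (hc : o[Y].Coprime o[Q]) (hs : Sol[Q]) (nS : S ≤ N[Q])
    (h1 : S ≤ C[⁅Q, Q⁆]) (h2 : S ≤ N[Y]) (h3 : Q ⊓ C[Y] ≤ C[S]) : S ≤ Inv Q θ := by
  have n := h.le_norm_R nS h1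
  refine h.le_inv nS n (commutator_le.2 fun x hx s hs' => ?_)
  rw [← coprime_comm_sup_cent (hY.trans h.inv_R) (hc.coprime_dvd_right (card_dvd_of_le h.R_le))
    (Or.inr (isSolvable_of_le hs h.R_le)), mem_sup_of_norm' (inf_le_left.trans le_norm_comm_left)] at hx
  obtain ⟨a, a1, c, c1, rfl⟩ := hx
  have e := h3 ⟨h.R_le c1.1, c1.2⟩ s hs'
  refine (commutator_mono le_rfl hY).trans h.comm_le ?_
  convert mul_mem a1 (conj_mem_of_norm (le_norm_commutator n h2 hs') (inv_mem a1)) using 1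
  rw [commutatorElement_def, mul_assoc a, ← e]
  group

theorem fix_index [hr : Fact r.Prime] (hU : PG[r, U]) (h1 : U ≤ Inv Q θ) (hc : ¬ r ∣ o[Q])
    (h2 : ¬ ⁅Q, U⁆ ≤ R) : R.relIndex (Q ⊓ C[U]) * (r + 1) ≤ d ^ 2 := by
  obtain ⟨k, hk⟩ := relIndex_dvd_of_le_normalizer (inf_le_left (b := C[U])) h.n_R
  have a := card_modEq_inf_cent hU (h1.trans Inv_le)
  have b := card_modEq_inf_cent hU (h1.trans h.inv_R)
  have c := CfsgH2.card_inf_mul_relIndex R (Q ⊓ C[U])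
  have n0 := relIndex_pos R (Q ⊓ C[U])
  rw [← inf_assoc, inf_of_le_left h.R_le] at c
  have e : k ≡ 1 [MOD r] := by
    refine Nat.ModEq.cancel_left_of_coprime (c := o[Q ⊓ C[U]]) ((hr.out.coprime_iff_not_dvd.2
      hc).coprime_dvd_right (card_dvd_of_le inf_le_left)) ?_
    rw [mul_one]
    refine Nat.ModEq.trans ?_ a
    rw [← c, ← CfsgH2.card_mul_relIndex h.R_le, hk, mul_assoc]
    exact b.symm.mul_right _
  have k1 : k ≠ 1 := by
    rintro rfl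
    have l : Q ⊓ C[U] ⊔ R ≤ Q := sup_le inf_le_left h.R_le
    have := eq_of_le_of_card_le l (by
      rw [← CfsgH2.card_mul_relIndex h.R_le, hk, ← CfsgH2.card_mul_relIndex (le_sup_right : R ≤ _),
        relIndex_sup_of_norm (inf_le_left.trans h.n_R), mul_one])
    refine h2 ((qt_le_cent_iff h.n_R (h1.trans h.inv_R)).1 ?_)
    rw [← this, qt_sup_self (inf_le_left.trans h.n_R)]
    exact qt_le_cent inf_le_right
  have k0 : k ≠ 0 := fun z => by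
    rw [z, mul_zero] at hk
    exact (relIndex_pos R Q).ne' hk
  rw [← h.relIndex, hk]
  exact Nat.mul_le_mul_left _ (by
    have := Nat.le_of_dvd (by omega) ((Nat.modEq_iff_dvd' (by omega)).1 e.symm)
    omega)

theorem rp [hr : Fact r.Prime] [hp : Fact p.Prime] (hS : PG[r, S]) (hY : o[Y] = p) (hrp : r ≠ p)
    (hc : S ≤ C[Y]) (h1 : S ≤ Inv Q θ) (h2 : Y ≤ Inv Q θ) (c1 : ¬ r ∣ o[Q]) (c2 : ¬ p ∣ o[Q])
    (h3 : Q ⊓ C[Y] ≤ R) (h4 : ¬ ⁅Q, S⁆ ≤ R) :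
    ∃ n : ℕ, n * (r + 1) ≤ d ^ 2 ∧ (r * p * d : ℝ) ≤ r * p + r * (n - 1) + (d ^ 2 - n) := by
  classical
  obtain ⟨U, u1, u2, u3⟩ := exists_minimal_le (fun U => ¬ ⁅Q, U⁆ ≤ R) h4
  have pU := hS.to_le u1
  have pY := isPGroup_of_card' hY
  have l1 := u1.trans h1
  obtain ⟨s, s1, rfl⟩ : ∃ s ∈ U, zpowers s = U := by
    by_contra a
    push Not at a
    exact u2 (commutator_le.2 fun x hx s hs => (by_contra fun b => a s hs
      (u3 _ b (zpowers_le.2 hs)) : ⁅Q, zpowers s⁆ ≤ R) (commutator_mem_commutator hx (mem_zpowers s)))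
  obtain ⟨L, -, b1, -, b2⟩ := exists_maximal_sub pU (bot_lt_iff_ne_bot.2 fun e => u2 (by simp [e]))
  have cU : o[zpowers s].Coprime o[Y] := coprime_of_pgroup pU fun a =>
    hrp ((Nat.prime_dvd_prime_iff_eq hr.out hp.out).1 (hY ▸ a))
  have nY := (u1.trans hc).trans (cent_le_norm _)
  have cQ : o[zpowers s ⊔ Y].Coprime o[Q] := ((coprime_of_pgroup pU c1).mul_left
    (coprime_of_pgroup pY c2)).coprime_dvd_left (CfsgH2.card_sup_dvd (Or.inl nY))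
  have l := sup_le l1 h2
  refine ⟨_, h.fix_index pU l1 c1 u2, ?_⟩
  generalize hn : R.relIndex (Q ⊓ C[zpowers s]) = n
  have := h.N2 l (cyc_sup_of_coprime inferInstance (isCyclic_of_card_prime hp.out hY) (u1.trans hc) cU)
    (fun u => 1 + (if u ∈ zpowers s then (n : ℝ) - 1 else 0) + if u ∈ L then (d : ℝ) ^ 2 - n else 0)
    fun u hu => by
      have co := cQ.coprime_dvd_left (orderOf_dvd_of_mem hu)
      by_cases e1 : u ∈ L
      · simpa [e1, b1 e1] using h.bd_all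
      by_cases e2 : u ∈ zpowers s
      · have := bd_cent (l hu).1 (h.inv_R (l hu)) h.R_le h.n_R co
        rw [← cent_zpowers, ← sup_eq_right.2 ((cyc_le_or_le inferInstance pU b1
          (zpowers_le.2 e2)).resolve_right fun a => e1 (a (mem_zpowers u))),
          CfsgH1.sup_zpowers_eq_of_prime (b2 ▸ hr.out) b1 e2 e1, hn] at this
        simpa [e1, e2] using this
      simp only [e1, e2, if_false, add_zero]
      refine h.bd1 (l hu) co (le_trans (inf_le_inf_left _ ?_) h3)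
      obtain ⟨a, a1, y, y1, rfl⟩ := (mem_sup_of_norm nY).1 hu
      have e3 : (a * y) ^ o[zpowers s] = y ^ o[zpowers s] := by
        rw [Commute.mul_pow (hc (u1 a1) y y1).symm, orderOf_dvd_iff_pow_eq_one.1
          (orderOf_dvd_of_mem a1), one_mul]
      rw [← cent_zpowers, ← zpowers_eq_of_prime (hY ▸ hp.out) (pow_mem y1 o[zpowers s]) fun e => e2 ?_,
        ← e3]
      · exact cent_anti (zpowers_le.2 (pow_mem (mem_zpowers _) _))
      · rwa [orderOf_eq_one_iff.1 (Nat.eq_one_of_dvd_coprimes cU (orderOf_dvd_of_pow_eq_one e)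
          (orderOf_dvd_of_mem y1)), mul_one]
  rw [Finset.sum_add_distrib, Finset.sum_add_distrib, sum_ite_mem le_sup_left,
    sum_ite_mem (b1.trans le_sup_left), Finset.sum_const, card_fs, card_sup_of_disj (Or.inl nY)
      (inf_eq_bot_of_coprime' cU), ← CfsgH2.card_mul_relIndex b1, b2, hY] at this
  have a : (0 : ℝ) < o[L] := by exact_mod_cast Nat.card_pos
  push_cast [nsmul_eq_mul] at this
  exact le_of_mul_le_mul_left (by linarith) a

end KD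

theorem rp_false (hr : r.Prime) (hd : 1 < d) (hc : ¬ r ∣ d) (h : d < p ∨ p = 3 ∧ d = 8 ∧ r ≠ 3) {n : ℕ}
    (h1 : n * (r + 1) ≤ d ^ 2) (h2 : (r * p * d : ℝ) ≤ r * p + r * (n - 1) + (d ^ 2 - n)) : False := by
  have h3 : r * p * d + r + n ≤ r * p + r * n + d ^ 2 := by
    have : (r * p * d + r + n : ℝ) ≤ r * p + r * n + d ^ 2 := by linarith
    exact_mod_cast this
  have h4 := hr.two_le
  rcases h with h | ⟨rfl, rfl, h⟩
  · obtain ⟨e, rfl⟩ := Nat.exists_eq_add_of_lt hd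
    have h5 : r * (1 + e + 1 + 1) * (e + 1) ≤ r * p * (e + 1) := by gcongr; omega
    rcases h4.eq_or_lt with rfl | h4
    · obtain ⟨e, rfl⟩ : ∃ k, e = k + 1 := ⟨e - 1, by omega⟩
      nlinarith
    · nlinarith
  · have : r ≠ 2 := by rintro rfl; omega
    have : r ≠ 4 := by rintro rfl; exact absurd hr (by decide)
    nlinarith [show 5 ≤ r by omega]

/-- `A` is a cyclic `p`-group with minimal subgroup `Y`. -/
structure CY (p : ℕ) (A Y : Subgroup G) : Prop where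
  cyc : Cyc[A]
  pg : PG[p, A]
  le : Y ≤ A
  card : o[Y] = p

namespace CY
variable [hp : Fact p.Prime] (h : CY p A Y)
include h

theorem le_of (h1 : U ≤ A) (h2 : U ≠ ⊥) : Y ≤ U :=
  le_of_card_dvd_of_cyclic h.cyc h.le h1 (by
    rw [h.card, ← relIndex_bot_left]
    exact dvd_relIndex_of_not_le (h.pg.to_le h1) (by rwa [le_bot_iff]))

theorem cent {u : G} (h1 : u ∈ A) (h2 : u ≠ 1) : C1[u] ≤ C[Y] :=
  cent_zpowers u ▸ cent_anti (h.le_of (zpowers_le.2 h1) (zpowers_ne_bot.2 h2))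

omit [Finite G] hp in
theorem le_cent : A ≤ C[Y] := le_cent_of_comm (isMulComm_of_cyclic h.cyc) h.le

omit [Finite G] hp in
theorem mono (h1 : Y ≤ U) (h2 : U ≤ A) : CY p U Y :=
  ⟨isCyclic_of_le h.cyc h2, h.pg.to_le h2, h1, h.card⟩

omit [Finite G] hp in
theorem qt (h1 : A ≤ N[W]) (h2 : A ⊓ W = ⊥) : CY p (qt W A) (qt W Y) :=
  ⟨isCyclic_qt h.cyc, isPGroup_qt h.pg, qt_mono h.le, (card_qt_of_disj (h.le.trans h1)
    (le_bot_iff.1 ((inf_le_inf_right _ h.le).trans h2.le))).trans h.card⟩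

theorem bar (h1 : A ≤ N[V]) (h2 : ¬ Y ≤ C[V]) : CY p (bar V A) (bar V Y) :=
  ⟨isCyclic_map _ ((subgroupOfEquivOfLe h1).isCyclic.2 h.cyc),
    (h.pg.comap_of_injective _ N[V].subtype_injective).map _, bar_mono h.le, by
      have := card_bar_mul (h.le.trans h1)
      rwa [(CfsgH1.eq_bot_or_eq_of_card_prime (h.card ▸ hp.out) (inf_le_left (b := C[V]))).resolve_right
        fun e => h2 (e.ge.trans inf_le_right), card_bot, mul_one, h.card] at this⟩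

end CY

theorem not_dvd_sup [hp : Fact t.Prime] (h : A ≤ N[Q]) (h1 : ¬ t ∣ o[Q]) (h2 : ¬ t ∣ o[A]) :
    ¬ t ∣ o[Q ⊔ A] := fun a =>
  (hp.out.dvd_mul.1 (a.trans (CfsgH2.card_sup_dvd (Or.inr h)))).elim h1 h2

theorem not_dvd_pg [hq : Fact q.Prime] [ht : Fact t.Prime] (h : PG[q, Q]) (h1 : t ≠ q) :
    ¬ t ∣ o[Q] := fun a => by
  obtain ⟨n, hn⟩ := exists_card_eq_pow h
  exact h1 ((Nat.prime_dvd_prime_iff_eq ht.out hq.out).1 (ht.out.dvd_of_dvd_pow (hn ▸ a)))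

variable [hp : Fact p.Prime] [hq : Fact q.Prime]

theorem cyc_core [Fact t.Prime] (h : CY p A Y) (hQ : PG[q, Q]) (hpq : p ≠ q) (nA : A ≤ N[Q])
    (h2 : ⁅Q, Q⁆ ≤ C[Q]) (h3 : Q ⊓ C[Y] ≤ C[Q]) (h4 : ⁅Q, Y⁆ = Q) (hV : IsElementaryAbelian t V)
    (nV : Q ⊔ A ≤ N[V]) (hc : ¬ t ∣ o[Q ⊔ A]) (h0 : V ⊓ C[A] = ⊥) (h1 : V ⊓ C[Q] = ⊥)
    (hK : MK V Q K) : ∃ R d θ, KD Q K R d θ ∧ Y ≤ Inv Q θ ∧ 1 < d ∧ o[A ⊓ Inv Q θ] = d + 1 := by
  obtain ⟨R, d, θ, k, n⟩ := hK.exists_KD hV nV nA hc h0 h2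
  have y := (h.le_of inf_le_left (n.ne_bot k.pos)).trans inf_le_right
  have d1 := k.one_lt y (by rw [h4]; exact hK.not_le h1)
  have b : ∀ u ∈ A ⊓ Inv Q θ, u ≠ 1 → Bd Q R u 1 := fun u a b => k.bd1 a.2
    ((coprime_of_pgroup h.pg (not_dvd_pg hQ hpq)).coprime_dvd_left (orderOf_dvd_of_mem a.1))
    ((le_inf inf_le_left ((inf_le_inf_left _ (h.cent a.1 b)).trans h3)).trans k.center_le)
  refine ⟨R, d, θ, k, y, d1, le_antisymm (k.semi_le inf_le_right (isCyclic_of_le h.cyc inf_le_left)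
    b d1) ?_⟩
  have := n.le zero_le_one (by simpa using b)
  exact_mod_cast (by linarith : (d + 1 : ℝ) ≤ o[A ⊓ Inv Q θ])

/-- the exceptional case. -/
def Exc (p q : ℕ) (A Q : Subgroup G) : Prop :=
  ¬ Ab[Q] ∧ ∃ k m, 1 ≤ m ∧ p ^ k = q ^ m + 1 ∧ p ^ k ∣ o[A] ∧ (Q ⊓ C[A] = ⊥ → p ^ (k + 1) ∣ o[A])

omit hp hq [Finite G] in
theorem Exc.of {G' : Type u} [Group G'] {A' Q' : Subgroup G'} (h : Exc p q A' Q') (h1 : Ab[Q] → Ab[Q'])
    (h2 : o[A'] ∣ o[A]) (h3 : Q ⊓ C[A] = ⊥ → Q' ⊓ C[A'] = ⊥) : Exc p q A Q :=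
  let ⟨a, k, m, b, c, d, e⟩ := h
  ⟨mt h1 a, k, m, b, c, d.trans h2, fun x => (e (h3 x)).trans h2⟩

omit hp hq in
theorem KD.not_fpf (h : KD Q K R d θ) (hd : 1 < d) (hA : A ≤ Inv Q θ) (hc : o[A].Coprime o[Q])
    (hs : Sol[Q]) : Q ⊓ C[A] ≠ ⊥ := fun e => by
  have a := coprime_comm_sup_cent (hA.trans h.inv_R) (hc.coprime_dvd_right (card_dvd_of_le h.R_le))
    (Or.inr (isSolvable_of_le hs h.R_le))
  rw [le_bot_iff.1 ((inf_le_inf_right _ h.R_le).trans e.le), sup_bot_eq] at a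
  have b : Q ≤ R := fun x hx => h.mem_R.2 ⟨hx, fun y hy => (commutator_mono le_rfl hA).trans
    h.comm_le (a.ge (h.cl (commutator_mem_commutator hy hx)))⟩
  have := h.relIndex
  rw [relIndex_eq_one.2 b] at this
  nlinarith

theorem exc_faith [Fact t.Prime] (h : CY p A Y) (hQ : PG[q, Q]) (hpq : p ≠ q) (nA : A ≤ N[Q])
    (hV : IsElementaryAbelian t V) (nV : Q ⊔ A ≤ N[V]) (hc : ¬ t ∣ o[Q ⊔ A]) (h0 : V ⊓ C[A] = ⊥)
    (h1 : Q ⊓ C[V] = ⊥) (h2 : ¬ Y ≤ C[Q]) : Exc p q A Q := by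
  obtain ⟨P, p1, p2, s⟩ := exists_SP hQ nA h.le (h.le_cent.trans (cent_le_norm _))
    (not_dvd_pg (isPGroup_of_card' h.card) hpq.symm) h2
  have l := sup_le_sup_right p1 A
  have n := (le_sup_left.trans l).trans nV
  have c : ¬ t ∣ o[P ⊔ A] := fun a => hc (a.trans (card_dvd_of_le l))
  have cP := coprime_of_pgroup h.pg (not_dvd_pg s.pg hpq)
  obtain ⟨K, hK⟩ := exists_MK (V := ⁅V, P⁆) (fun e => s.ne (le_bot_iff.1 ((le_inf p1
    (le_centralizer_iff.1 (comm_eq_bot_iff.1 e))).trans h1.le))) P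
  obtain ⟨R, d, θ, k, -, d1, e⟩ := cyc_core h s.pg hpq p2 s.cl (s.cen.le.trans s.phi) s.comm
    (elem_of_le hV (comm_le_left n)) (le_norm_commutator (l.trans nV) (sup_le le_normalizer p2)) c
    (le_bot_iff.1 ((inf_le_inf_right _ (comm_le_left n)).trans h0.le)) (coprime_comm_inf_cent hV.1 n
      (coprime_of_not_dvd (fun a => c (a.trans (card_dvd_of_le le_sup_left))) (elem_pgroup hV))) hK
  obtain ⟨m, rfl⟩ := k.pow_eq s.pg
  obtain ⟨j, hj⟩ := exists_card_eq_pow (h.pg.to_le (inf_le_left (b := Inv P θ)))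
  refine ⟨fun a => k.not_ab d1 (isMulComm_of_le a p1), j, m, Nat.pos_of_ne_zero fun z => by
    simp [z] at d1, hj.symm.trans e, hj ▸ card_dvd_of_le inf_le_left, fun z => ?_⟩
  rw [pow_succ, ← hj]
  exact mul_card_dvd_of_lt h.pg (inf_le_left.lt_of_ne fun a => k.not_fpf d1 (a.ge.trans inf_le_right)
    cP (isSolvable_of_pgroup s.pg) (le_bot_iff.1 ((inf_le_inf_right _ p1).trans z.le)))

theorem exc_elem [Fact t.Prime] (h : CY p A Y) (hQ : PG[q, Q]) (hpq : p ≠ q) (nA : A ≤ N[Q])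
    (hV : IsElementaryAbelian t V) (nV : Q ⊔ A ≤ N[V]) (hc : ¬ t ∣ o[Q ⊔ A]) (h0 : V ⊓ C[A] = ⊥)
    (h2 : ¬ ⁅Q, Y⁆ ≤ C[V]) : Exc p q A Q := by
  have n1 := le_sup_left.trans nV
  have n2 := le_sup_right.trans nV
  have c := coprime_of_pgroup h.pg (not_dvd_pg hQ hpq)
  refine (exc_faith (h.bar n2 fun a => h2 (comm_le_cent_of_norm n1 a))
    ((hQ.comap_of_injective _ N[V].subtype_injective).map _) hpq (bar_le_norm nA) (elem_vv hV)
    (bar_sup n1 n2 ▸ (bar_le_norm_vv le_rfl nV).2 nV)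
    (fun a => hc ((bar_sup n1 n2 ▸ a).trans (Dvd.intro _ (card_bar_mul nV))))
    (by rw [← vv_cent le_rfl n2, h0, vv_bot]) (bar_fa n1) fun a => h2 ?_).of
    (fun a => isMulComm_map _ (isMulComm_iff.2 fun x hx y hy => Subtype.ext
      (comm_of_isMulComm a hx hy))) (Dvd.intro _ (card_bar_mul n2)) fun a => ?_
  · rw [← bar_eq_bot ((comm_le_left (h.le.trans nA)).trans n1), bar_comm n1 (h.le.trans n2)]
    exact comm_eq_bot_iff.2 (le_centralizer_iff.1 a)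
  · exact (CfsgH9.im_inf_centralizer (f := hψ V) n2 n1 nA (c.coprime_dvd_right (card_dvd_of_le
      inf_le_right)) (Or.inl (isSolvable_of_pgroup h.pg))).symm.trans
        (a ▸ (bar_eq_bot (V := V) bot_le).2 bot_le)

theorem exc_of_not_cent (h : CY p A Y) (hQ : PG[q, Q]) (hpq : p ≠ q) (nA : A ≤ N[Q]) (hs : Sol[M])
    (nM : Q ⊔ A ≤ N[M]) (hc : o[Q ⊔ A].Coprime o[M]) (h0 : M ⊓ C[A] = ⊥) (h2 : ¬ ⁅Q, Y⁆ ≤ C[M]) :
    Exc p q A Q := by
  by_contra hn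
  refine h2 (CfsgH1.le_cent_of_sections nM hs hc ((comm_le_left (h.le.trans nA)).trans le_sup_left)
    fun U W a b n1 n2 n3 t _ ht e => by_contra fun h3 => hn ?_)
  have n4 := le_sup_left.trans n2
  have n5 := le_sup_right.trans n2
  have c1 : o[A].Coprime o[U] := (hc.coprime_dvd_left (card_dvd_of_le le_sup_right)).coprime_dvd_right
    (card_dvd_of_le b)
  rw [qt_commutator n4 (h.le.trans n5)] at h3
  refine (exc_elem (h.qt n5 (inf_eq_bot_of_coprime' (c1.coprime_dvd_right (card_dvd_of_le a))))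
    (isPGroup_qt hQ) hpq (qt_le_norm nA) e (qt_sup n4 n5 ▸ qt_le_norm n1)
    (fun d => ht ((qt_sup n4 n5 ▸ d).trans card_qt_dvd)) ?_ h3).of isMulComm_qt card_qt_dvd fun z => ?_
  · rw [← qt_fix n5 n3 (le_sup_right.trans n1) c1 (isSolvable_of_le hs b),
      le_bot_iff.1 ((inf_le_inf_right _ b).trans h0.le), qt_bot]
  · rw [← qt_fix n5 n4 nA (coprime_of_pgroup h.pg (not_dvd_pg hQ hpq)) (isSolvable_of_pgroup hQ), z,
      qt_bot]

end CfsgCP
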