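import Cfsg.Agent.H9.Cp3

/-! Fitting height of groups with a fixed-point-free automorphism of prime power order. -/

set_option autoImplicit false
open Subgroup Cfsg CfsgH3 CfsgH2 Function
open CfsgH1 (fs mem_fs card_fs sum_fs sum_irr_nat Frob)
open CfsgH9 (LF nres)
open scoped commutatorElement IsMulCommutative ComplexConjugate

namespace CfsgCP

universe u v
variable {G : Type u} [Group G] [Finite G] {Q K R D B C A M P S T U V W X Y N L : Subgroup G}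
  {θ : G → ℂ} {p q r t d n : ℕ} {x : G}

theorem exists_amb {A : Type v} [Group A] [Finite A] (φ : A →* MulAut G) :
    ∃ (X : Type (max u v)) (_ : Group X) (_ : Finite X) (i : G →* X) (f : A →* X),
      Injective i ∧ Injective f ∧ f.range ≤ N[map i ⊤] ∧
      ∀ (B : Subgroup A) (g : G), i g ∈ C[B.map f] ↔ ∀ a ∈ B, φ a g = g := by
  obtain ⟨X, _, _, i, f, h1, h2, h3, h4, -⟩ := CfsgH1.exists_ambient φ
  refine ⟨X, _, inferInstance, i, f, h1, h2, le_normalizer_of_normal, fun B g =>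
    ⟨fun h a ha => h1 ?_, ?_⟩⟩
  · rw [← h3, h _ ⟨a, ha, rfl⟩, mul_inv_cancel_right]
  · rintro h _ ⟨a, ha, rfl⟩
    rw [← mul_inv_eq_iff_eq_mul, h3, h a ha]

theorem amb_fpf {A X : Type*} [Group A] [Group X] {φ : A →* MulAut G} {i : G →* X} {f : A →* X}
    (h : ∀ (B : Subgroup A) (g : G), i g ∈ C[B.map f] ↔ ∀ a ∈ B, φ a g = g)
    (h0 : ∀ g, (∀ a, φ a g = g) → g = 1) : map i ⊤ ⊓ C[f.range] = ⊥ := by
  rw [eq_bot_iff, MonoidHom.range_eq_map]
  rintro _ ⟨⟨g, -, rfl⟩, a⟩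
  rw [h0 g fun b => (h _ g).1 a b trivial, map_one]
  exact one_mem _

theorem coprime_of_fpf [hp : Fact p.Prime] (hA : PG[p, A]) (nA : A ≤ N[X]) (h : X ⊓ C[A] = ⊥) :
    o[A].Coprime o[X] := coprime_of_pgroup hA fun a => by
  have := card_modEq_inf_cent hA nA
  rw [h, card_bot] at this
  exact hp.out.not_dvd_one ((this.dvd_iff dvd_rfl).1 a)

theorem le_cent_of_cores (nA : A ≤ N[N]) (hc : o[A].Coprime o[N]) (hs : Sol[N])
    (h : ∀ (q : ℕ) [Fact q.Prime], A ≤ C[O[{q}, N]]) : A ≤ C[N] :=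
  coprime_le_cent_of_fit nA hc hs (le_centralizer_iff.1 (fit_le_of_cores fun q _ _ =>
    le_centralizer_iff.1 (h q)))

theorem exists_inv_lift (q : ℕ) [Fact q.Prime] (nA : A ≤ N[N]) (hc : o[A].Coprime o[N]) (hs : Sol[N])
    (hW : W ≤ N) (n1 : N ≤ N[W]) (n2 : A ≤ N[W]) :
    ∃ P ≤ N, PG[q, P] ∧ A ≤ N[P] ∧ qt W P = O[{q}, qt W N] := by
  have l1 : qc W O[{q}, qt W N] ≤ N := qc_le n1 hW piCoreOf_le
  obtain ⟨P, hP, nP⟩ := exists_inv_syl q (le_norm_qc n2 (le_norm_piCoreOf' (qt_le_norm nA)))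
    (hc.coprime_dvd_right (card_dvd_of_le l1)) (Or.inr (isSolvable_of_le hs l1))
  have := hP.qt (K := W) (l1.trans n1)
  rw [qt_qc] at this
  exact ⟨P, hP.le.trans l1, hP.pg, nP, this.eq_of_pgroup isPGroup_piCoreOf⟩

theorem qt_LF (h : X ≤ N[W]) (k : ℕ) : qt W (LF k X) = LF k (qt W X) := CfsgH9.im_LF h k

omit [Finite G] in
theorem LF_le (k : ℕ) : LF k X ≤ X := CfsgH9.LF_anti X (Nat.zero_le k)

theorem LF_le_sup (h : C ⊔ W = X) (n1 : X ≤ N[W]) (k : ℕ) : LF k X ≤ LF k C ⊔ W := by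
  have n2 := (le_sup_left.trans h.le).trans n1
  rw [← qt_le_qt ((LF_le k).trans n1) ((LF_le k).trans n2), qt_LF n1, qt_LF n2, ← h, qt_sup_self n2]

omit [Finite G] in
theorem LF_add (j k : ℕ) : LF (k + j) X = LF j (LF k X) := by
  induction j with
  | zero => rfl
  | succ j ih => exact congrArg nres ih

theorem LF_of_amb {Γ : Type*} [Group Γ] [Finite Γ] {i : X →* Γ} (hi : Injective i)
    (h : LF n (map i ⊤) = ⊥) : LF n X = ⊥ := by
  rw [← CfsgH9.map_LF, map_eq_bot_iff_of_injective _ hi] at h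
  rw [← map_subtype_top X, ← CfsgH9.map_LF, h, Subgroup.map_bot]

theorem ab_of_sq (hx : x ∈ N[N]) (h : N ⊓ C1[x] = ⊥) (h2 : x * x ∈ C[N]) : Ab[N] :=
  CfsgH1.isMulComm_of_inverted (s := x) fun k hk => by
    obtain ⟨y, y1, e⟩ := CfsgH1.exists_conj_of_fpf hx h hk
    have : k * x * (k * x) = x * x := by
      rw [← e]
      calc _ = y * (x * x) * y⁻¹ := by group
        _ = _ := by rw [h2 y y1]; group
    rw [eq_inv_iff_mul_eq_one]
    calc _ = k⁻¹ * (k * x * (k * x)) * (x * x)⁻¹ * k := by group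
      _ = 1 := by rw [this]; group

namespace PC
variable (h : PC t n V N A)
include h

omit [Finite G] in
theorem cV : o[A].Coprime o[V] := h.cop.coprime_dvd_right (card_dvd_of_le le_sup_left)
omit [Finite G] in
theorem cN : o[A].Coprime o[N] := h.cop.coprime_dvd_right (card_dvd_of_le le_sup_right)

theorem not_dvd [ht : Fact t.Prime] : ¬ t ∣ o[A] := fun a => ht.out.ne_one (Nat.eq_one_of_dvd_coprimes
  h.cV a (by rw [← relIndex_bot_left]
             exact dvd_relIndex_of_not_le (elem_pgroup h.el) (by simpa using h.ne)))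

theorem sub [Fact t.Prime] [Fact q.Prime] (hQ : PG[q, Q]) (h1 : Q ≤ N) (h2 : t ≠ q) (h3 : Q ≠ ⊥)
    (nQ : B ≤ N[Q]) (nV : B ≤ N[V]) : IsElementaryAbelian t (⁅V, Q⁆ : Subgroup G) ∧ B ≤ N[⁅V, Q⁆] ∧
      ⁅V, Q⁆ ≤ V ∧ ⁅V, Q⁆ ⊓ C[Q] = ⊥ ∧ ⁅V, Q⁆ ≠ ⊥ :=
  have n := h1.trans h.nN
  ⟨elem_of_le h.el (comm_le_left n), le_norm_commutator nV nQ, comm_le_left n,
    coprime_comm_inf_cent h.el.1 n (coprime_of_not_dvd (not_dvd_pg hQ h2) (elem_pgroup h.el)),
    fun e => h3 (le_bot_iff.1 ((le_inf h1 (le_centralizer_iff.1 (comm_eq_bot_iff.1 e))).trans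
      h.cen.le))⟩

theorem ne_of_core [Fact q.Prime] (h1 : O[{q}, N] ≠ ⊥) : t ≠ q := by
  rintro rfl
  exact h1 h.core

end PC

omit [Finite G] in
theorem PC.fV (h : PC t 0 V N A) : V ⊓ C[A] = ⊥ :=
  le_bot_iff.1 ((inf_le_inf_right _ le_sup_left).trans h.fix.le)
omit [Finite G] in
theorem PC.fN (h : PC t 0 V N A) (hQ : Q ≤ N) : Q ⊓ C[A] = ⊥ :=
  le_bot_iff.1 ((inf_le_inf_right _ (hQ.trans le_sup_right)).trans h.fix.le)

theorem eq_bot_of_pg [Fact p.Prime] (hc : o[A].Coprime o[N]) (hY : p ∣ o[A]) (hQ : PG[p, Q])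
    (h1 : Q ≤ N) : Q = ⊥ := by
  by_contra a
  exact (Fact.out : p.Prime).ne_one (Nat.eq_one_of_dvd_coprimes hc hY (Dvd.dvd.trans (by
    rw [← relIndex_bot_left]; exact dvd_relIndex_of_not_le hQ (by simpa using a)) (card_dvd_of_le h1)))

variable [hp : Fact p.Prime]

omit [Finite G] hp in
theorem CY.dvd (h : CY p A Y) : p ∣ o[A] := h.card ▸ card_dvd_of_le h.le

theorem PC.le_cent [Fact t.Prime] [Fact q.Prime] (h : PC t 0 V N A) (hY : CY p A Y) (hQ : PG[q, Q])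
    (h1 : Q ≤ N) (nQ : A ≤ N[Q]) (h2 : t ≠ q) (h3 : ¬ Exc p q A Q) : Y ≤ C[Q] := by
  by_cases e : p = q
  · subst e
    rw [eq_bot_of_pg h.cN hY.dvd hQ h1, cent_bot]
    exact le_top
  exact by_contra fun a => h3 (exc_faith hY hQ e nQ h.el (sup_le (h1.trans h.nN) h.nA)
    (not_dvd_sup nQ (not_dvd_pg hQ h2) h.not_dvd) h.fV
    (le_bot_iff.1 ((inf_le_inf_right _ h1).trans h.cen.le)) a)

theorem PC.le_cent_core [Fact t.Prime] [Fact q.Prime] (h : PC t 0 V N A) (hY : CY p A Y)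
    (h3 : ¬ Exc p q A O[{q}, N]) : Y ≤ C[O[{q}, N]] := by
  by_cases e : O[{q}, N] = ⊥
  · rw [e, cent_bot]; exact le_top
  exact h.le_cent hY isPGroup_piCoreOf piCoreOf_le (le_norm_piCoreOf' h.nAN) (h.ne_of_core e) h3

theorem cy_of_order (h : orderOf x = p ^ (n + 1)) : CY p (zpowers x) (zpowers (x ^ p ^ n)) :=
  ⟨inferInstance, IsPGroup.of_card ((Nat.card_zpowers x).trans h), zpowers_le.2 (pow_mem (mem_zpowers x) _), by
    rw [Nat.card_zpowers, orderOf_pow' _ (pow_ne_zero _ hp.out.ne_zero), h,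
      Nat.gcd_eq_right (pow_dvd_pow p n.le_succ), Nat.pow_div n.le_succ hp.out.pos]
    simp⟩

theorem not_exc_sq [hq : Fact q.Prime] (h : o[A] ∣ p * p) (h0 : Q ⊓ C[A] = ⊥) (h1 : p = 2 ∨ o[A] ∣ p) :
    ¬ Exc p q A Q := by
  rintro ⟨-, k, m, h2, h3, -, h4⟩
  have a : 1 < q ^ m := Nat.one_lt_pow (by omega) hq.out.one_lt
  rcases h1 with rfl | h1
  · have := Nat.le_of_dvd (by norm_num) ((h4 h0).trans h)
    omega
  · have := Nat.le_of_dvd hp.out.pos ((h4 h0).trans h1)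
    rw [pow_succ] at this
    nlinarith [hp.out.pos]

omit hp [Finite G] in
theorem not_exc_odd (h1 : Odd p) (h2 : Odd q) : ¬ Exc p q A Q := by
  rintro ⟨-, k, m, -, h3, -⟩
  exact Nat.not_even_iff_odd.2 (h3 ▸ h1.pow) (h2.pow.add_odd odd_one)

omit hp in
/-- `σ ^ 4 = 1`. -/
theorem der_nil_of_four {A₀ : Type v} [Group A₀] (g : A₀) (hg : zpowers g = ⊤) (h4 : g ^ 4 = 1)
    (f : A₀ →* G) (hf : Injective f) (nA : f.range ≤ N[X]) (hs : Sol[X]) (h0 : X ⊓ C[f.range] = ⊥) :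
    Nil[⁅X, X⁆] := by
  have k : ∀ {G : Type u} [Group G] (f : A₀ →* G), f.range = zpowers (f g) ∧ orderOf (f g) ∣ 2 ^ 2 :=
    fun f => ⟨by rw [MonoidHom.range_eq_map, ← hg, MonoidHom.map_zpowers],
      orderOf_dvd_of_pow_eq_one (by rw [← map_pow, show g ^ 2 ^ 2 = 1 from h4, map_one])⟩
  refine prim_red (n := 0) (ρ := fun _ _ X _ => ⁅X, X⁆)
    (fun _ _ _ _ _ _ => ⟨commutator_self_le, le_norm_comm_left⟩) (fun _ _ _ _ _ _ _ _ _ =>
      map_commutator _ _ _) (fun G _ _ V N f t _ _ h _ => ?_) X f hf nA hs (coprime_of_fpf (p := 2)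
    ?_ nA h0) h0
  swap
  · obtain ⟨j, -, e⟩ := (Nat.dvd_prime_pow Nat.prime_two).1 (k f).2
    exact (k f).1 ▸ IsPGroup.of_card ((Nat.card_zpowers _).trans e)
  obtain ⟨e, o⟩ := k f
  rw [e] at h
  refine comm_self_eq_bot_iff.2 (ab_of_sq (h.nAN (mem_zpowers _)) (cent_zpowers (f g) ▸ h.fN le_rfl) ?_)
  by_cases a : f g ^ 2 ^ 1 = 1
  · rw [← sq, show f g ^ 2 = 1 from a]; exact one_mem _
  have y := cy_of_order (orderOf_eq_prime_pow a (orderOf_dvd_iff_pow_eq_one.1 o))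
  rw [← sq]
  exact le_cent_of_cores (y.le.trans h.nAN) (h.cN.coprime_dvd_left (card_dvd_of_le y.le)) h.sol
    (fun q _ => h.le_cent_core y (not_exc_sq (Nat.card_zpowers (f g) ▸ o) (h.fN piCoreOf_le) (.inl rfl)))
    (mem_zpowers _)

omit hp in
theorem SP.of_cent [Fact q.Prime] (s : SP q P S) (nY : Y ≤ N[P]) (hc : o[Y].Coprime o[P])
    (h : P ⊓ C[Y] ≤ C[S]) : P ⊓ C[Y] ≤ C[P] ∧ ⁅P, Y⁆ = P :=
  have a := (le_inf inf_le_left h).trans s.cen.le
  ⟨a.trans s.phi, eq_of_le_phi_sup (comm_le_left nY) ((coprime_comm_sup_cent nY hc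
    (Or.inr (isSolvable_of_pgroup s.pg))).ge.trans (sup_le le_sup_right (a.trans le_sup_left)))⟩

omit hp in
theorem KD.not_le (h : KD Q K R d θ) (hd : 1 < d) : ¬ Q ≤ R := fun a => by
  have := h.relIndex
  rw [relIndex_eq_one.2 a] at this
  nlinarith

omit hp in
theorem KD.not_dvd [hq : Fact q.Prime] [hr : Fact r.Prime] (h : KD Q K R d θ) (hQ : PG[q, Q])
    (h1 : r ≠ q) : ¬ r ∣ d := fun a =>
  not_dvd_pg hQ h1 (a.trans (Dvd.intro (d * o[R]) (by rw [← h.card]; ring)))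

theorem cyc_amb (hx : x ∈ N[X]) (h1 : x ^ p ^ (n + 1) ∈ C[X]) (h2 : x ^ p ^ n ∉ C[X])
    (h0 : X ⊓ C1[x] = ⊥) : ∃ (Γ : Type u) (_ : Group Γ) (_ : Finite Γ) (i : X →* Γ) (A₀ : Type u)
      (_ : Group A₀) (f : A₀ →* Γ) (g : A₀), Injective i ∧ Injective f ∧ zpowers g = ⊤ ∧
      orderOf g = p ^ (n + 1) ∧ f.range ≤ N[map i ⊤] ∧ map i ⊤ ⊓ C[f.range] = ⊥ := by
  let σ := X.normalizerMonoidHom ⟨x, hx⟩
  have k : ∀ m, σ ^ m = 1 ↔ x ^ m ∈ C[X] := fun m => by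
    rw [← map_pow, ← MonoidHom.mem_ker, normalizerMonoidHom_ker, mem_subgroupOf]; rfl
  obtain ⟨Γ, _, _, i, f, a, b, c, d⟩ := exists_amb (zpowers σ).subtype
  refine ⟨Γ, _, inferInstance, i, _, _, f, ⟨σ, mem_zpowers σ⟩, a, b, ?_, ?_, c, amb_fpf d fun g hg => ?_⟩
  · rw [eq_top_iff]
    rintro ⟨_, m, rfl⟩ -
    exact ⟨m, rfl⟩
  · rw [← orderOf_coe]
    exact orderOf_eq_prime_pow (mt (k _).1 h2) ((k _).2 h1)
  · exact Subtype.ext (mem_bot.1 (h0.le ⟨g.2, mem_centralizer_singleton_iff.2 (mul_inv_eq_iff_eq_mul.1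
      (congrArg Subtype.val (hg ⟨σ, mem_zpowers σ⟩))).symm⟩))

theorem PC.odd_step [Fact t.Prime] (h : PC t 0 V N A) (hY : CY p A Y) (hp2 : p ≠ 2) :
    ⁅N, Y⁆ ≤ O[{2}, N] := by
  have op := hp.out.odd_of_ne_two hp2
  have nY := hY.le.trans h.nAN
  have cY := h.cN.coprime_dvd_left (card_dvd_of_le hY.le)
  have s0 : ∀ (q : ℕ) [Fact q.Prime], q ≠ 2 → Y ≤ C[O[{q}, N]] := fun q hq e =>
    h.le_cent_core hY (not_exc_odd op (hq.out.odd_of_ne_two e))
  have s1 : ∀ (r : ℕ) [Fact r.Prime] (S : Subgroup G), r ≠ 2 → PG[r, S] → S ≤ N → A ≤ N[S] →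
      Y ≤ C[S] := fun r hr S e h1 h2 h3 => by
    by_cases e1 : p = r
    · subst e1
      rw [eq_bot_of_pg h.cN hY.dvd h1 h2, cent_bot]
      exact le_top
    have l := comm_le_left (hY.le.trans h3)
    refine coprime_le_cent (hY.le.trans h3) (cY.coprime_dvd_right (card_dvd_of_le h2))
      (Or.inr (isSolvable_of_pgroup h1)) ((nil_le_core fit_nil ((le_inf (l.trans h2)
        (le_centralizer_iff.1 (fit_le_of_cores fun q _ _ => le_centralizer_iff.1 ?_))).trans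
        (cent_fit_le h.sol)) (isPGroup_iff_piN.1 (h1.to_le l))).trans
        (core_fit.le.trans (le_centralizer_iff.1 (s0 r e))))
    by_cases e2 : q = 2
    swap
    · exact comm_le_cent_of_norm (h2.trans le_norm_piCoreOf) (s0 q e2)
    subst e2
    exact by_contra fun a => not_exc_odd op (hr.out.odd_of_ne_two e) (exc_of_not_cent hY h1 e1 h3
      (isSolvable_of_pgroup isPGroup_piCoreOf) (sup_le (h2.trans le_norm_piCoreOf)
        (le_norm_piCoreOf' h.nAN)) (coprime_of_not_dvd (not_dvd_sup h3 (not_dvd_pg h1 (Ne.symm e))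
          (not_dvd_pg hY.pg (Ne.symm hp2))) isPGroup_piCoreOf) (h.fN piCoreOf_le) a)
  have n2 : A ≤ N[O[{2}, N]] := le_norm_piCoreOf' h.nAN
  rw [commutator_comm, ← qt_le_cent_iff (hY.le.trans n2) le_norm_piCoreOf]
  refine le_cent_of_cores (qt_le_norm nY) (coprime_qt cY) (isSolvable_qt h.sol) fun q _ => ?_
  by_cases e : q = 2
  · subst e
    rw [piCoreOf_qt_self, cent_bot]; exact le_top
  obtain ⟨P, p1, p2, p3, p4⟩ := exists_inv_lift q h.nAN h.cN h.sol piCoreOf_le le_norm_piCoreOf n2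
  exact p4 ▸ qt_le_cent (s1 q P e p2 p1 p3)

theorem PC.odd_cent [Fact t.Prime] [hr : Fact r.Prime] (h : PC t 0 V N A) (hY : CY p A Y) (hp2 : p ≠ 2)
    (hS : PG[r, S]) (hr2 : r ≠ 2) (h1 : S ≤ N ⊓ C[Y]) (h2 : A ≤ N[S]) (h3 : N ⊓ C[Y] ≤ N[S]) :
    S ≤ C[O[{2}, N]] := by
  by_contra hn
  have l := h1.trans inf_le_left
  have c := not_dvd_pg hS hr2.symm
  obtain ⟨P, p1, p2, s⟩ := exists_SP (B := S ⊔ A) isPGroup_piCoreOf (sup_le (l.trans le_norm_piCoreOf)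
    (le_norm_piCoreOf' h.nAN)) le_sup_left (sup_le le_normalizer h2) c hn
  have lP := p1.trans piCoreOf_le
  have nA := le_sup_right.trans p2
  have nS := le_sup_left.trans p2
  have cY := not_dvd_pg s.pg hp2
  have e : P ⊓ C[Y] ≤ C[S] := coprime_norm_le_cent ((inf_le_inf_right _ lP).trans h3)
    (le_norm_inf nS (le_norm_of_le (h1.trans inf_le_right)))
    (coprime_of_not_dvd c (s.pg.to_le inf_le_left))
  have cY' := coprime_of_pgroup (isPGroup_of_card' hY.card) cY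
  obtain ⟨a1, a2⟩ := s.of_cent (hY.le.trans nA) cY' e
  have t2 := h.ne_of_core fun z => s.ne (le_bot_iff.1 (p1.trans z.le))
  obtain ⟨v1, v2, v3, v4, v5⟩ := h.sub (B := P ⊔ A) s.pg lP t2 s.ne (sup_le le_normalizer nA)
    (sup_le (lP.trans h.nN) h.nA)
  obtain ⟨K, hK⟩ := exists_MK v5 P
  obtain ⟨R, d, θ, k, y, d1, d2⟩ := cyc_core hY s.pg hp2 nA s.cl a1 a2 v1 v2
    (not_dvd_sup nA (not_dvd_pg s.pg t2) h.not_dvd) (le_bot_iff.1 ((inf_le_inf_right _ v3).trans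
      h.fV.le)) v4 hK
  have rp : r ≠ p := by
    rintro rfl
    exact hn (by rw [eq_bot_of_pg h.cN hY.dvd hS l]; exact bot_le)
  obtain ⟨m, m1, m2⟩ := k.rp hS hY.card rp (h1.trans inf_le_right) (k.le_inv_of y cY'
    (isSolvable_of_pgroup s.pg) nS (le_centralizer_iff.1 (s.der.trans (s.cen.ge.trans inf_le_right)))
    ((h1.trans inf_le_right).trans (cent_le_norm _)) e) y (not_dvd_pg s.pg hr2) cY
    ((le_inf inf_le_left a1).trans k.center_le) (by rw [s.comm]; exact k.not_le d1)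
  refine rp_false hr.out d1 (k.not_dvd s.pg hr2) ?_ m1 m2
  obtain ⟨b, rfl⟩ := k.pow_eq s.pg
  obtain ⟨a, ha⟩ := exists_card_eq_pow (hY.pg.to_le (inf_le_left (b := Inv P θ)))
  rw [ha] at d2
  rcases Cfsg.Agent.S3784.result p 2 a b hp.out Nat.prime_two (Nat.pos_of_ne_zero fun z => by
    simp [z] at d2) (Nat.pos_of_ne_zero fun z => by simp [z] at d1) d2 with z | z | z
  · exact (hp2 z.1).elim
  · exact .inl (by omega)
  · obtain rfl := (Nat.prime_dvd_prime_iff_eq Nat.prime_three hp.out).1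
      (Nat.prime_three.dvd_of_dvd_pow (z.1 ▸ by norm_num : 3 ∣ p ^ a))
    exact .inr ⟨rfl, z.2, rp⟩

omit hp in
theorem nil_sup_core_of [Fact q.Prime] (hE : Nil[C]) (hQ : PG[q, Q]) (nQ : C ≤ N[Q])
    (h : ∀ (r : ℕ) [Fact r.Prime], r ≠ q → O[{r}, C] ≤ C[Q]) : Nil[C ⊔ Q] := by
  rw [← nil_sup_core (π := {q}) hE, sup_comm O[{q}, C], sup_assoc]
  refine nil_sup_of_cent (isNilpotent_of_le hE piCoreOf_le) (nil_of_pg (isPGroup_sup
    isPGroup_piCoreOf hQ (Or.inl (piCoreOf_le.trans nQ)))) ?_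
  rw [cent_sup]
  refine le_inf (le_centralizer_iff.1 piCoreOf_le_cent) (nil_le_of_cores
    (isNilpotent_of_le hE piCoreOf_le) fun r _ a => (nil_core_mono hE piCoreOf_le).trans (h r ?_))
  rintro rfl
  exact not_dvd_piCoreOf a

/-- Shult-Gross. -/
theorem shult_gross (hp2 : p ≠ 2) (n : ℕ) : ∀ (G : Type u) [Group G] [Finite G] (X : Subgroup G)
    (x : G), x ∈ N[X] → x ^ p ^ n ∈ C[X] → X ⊓ C1[x] = ⊥ → Sol[X] → LF n X = ⊥ := by
  induction n with
  | zero => exact fun G _ _ X x _ h1 h0 _ => le_bot_iff.1 ((le_inf (le_refl X)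
      (le_cent1_iff.2 (by simpa using h1))).trans h0.le)
  | succ n ih =>
  intro G _ _ X x hx h1 h0 hs
  by_cases h2 : x ^ p ^ n ∈ C[X]
  · exact le_bot_iff.1 ((CfsgH9.LF_anti X n.le_succ).trans (ih G X x hx h2 h0 hs).le)
  obtain ⟨Γ, _, _, i, A₀, _, f, g, i1, f1, g1, g2, a, b⟩ := cyc_amb hx h1 h2 h0
  have k : ∀ {G : Type u} [Group G] (f : A₀ →* G), f.range = zpowers (f g) :=
    fun f => by rw [MonoidHom.range_eq_map, ← g1, MonoidHom.map_zpowers]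
  have := prim_red (n := 0) (ρ := fun _ _ X _ => LF n X)
    (fun _ _ _ _ _ _ => ⟨LF_le n, CfsgH9.le_normalizer_LF le_normalizer n⟩)
    (fun _ _ _ _ _ _ _ _ _ => CfsgH9.map_LF _ _ _) (fun G _ _ V N f t _ hf h _ => ?_) _ f f1 a
    (isSolvable_map _ (isSolvable_top_iff.2 hs)) (coprime_of_fpf (p := p) (k f ▸
      (cy_of_order ((orderOf_injective f f1 g).trans g2)).pg) a b) b
  · exact LF_of_amb i1 (CfsgH9.nres_eq_bot.2 this)
  rw [k] at h
  have o := (orderOf_injective f hf g).trans g2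
  have y := cy_of_order o
  generalize hY : zpowers (f g ^ p ^ n) = Y at y
  have nY := y.le.trans h.nAN
  have cY := h.cN.coprime_dvd_left (card_dvd_of_le y.le)
  have nC : zpowers (f g) ≤ N[N ⊓ C[Y]] := le_norm_inf h.nAN (le_norm_of_le y.le_cent)
  have c := ih G (N ⊓ C[Y]) (f g) (nC (mem_zpowers _)) (le_centralizer_iff.1 inf_le_right
    (hY ▸ mem_zpowers _)) (cent_zpowers (f g) ▸ h.fN inf_le_left) (isSolvable_of_le h.sol inf_le_left)
  rcases n with _ | n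
  · rwa [inf_of_le_left (le_centralizer_iff.1 (le_cent_of_cores nY cY h.sol fun q _ =>
      h.le_cent_core y (not_exc_sq (p := p) (by simp [o]) (h.fN piCoreOf_le) (.inr (by simp [o])))))] at c
  have e : N ⊓ C[Y] ⊔ O[{2}, N] = N := le_antisymm (sup_le inf_le_left piCoreOf_le)
    ((coprime_comm_sup_cent nY cY (Or.inr h.sol)).ge.trans
      (sup_le ((h.odd_step y hp2).trans le_sup_right) le_sup_left))
  exact CfsgH9.nres_eq_bot.2 (isNilpotent_of_le (nil_sup_core_of (CfsgH9.nres_eq_bot.1 c)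
    isPGroup_piCoreOf (((LF_le n).trans inf_le_left).trans le_norm_piCoreOf) fun r _ a =>
      h.odd_cent y hp2 isPGroup_piCoreOf a (piCoreOf_le.trans (LF_le n)) (le_norm_piCoreOf'
        (CfsgH9.le_normalizer_LF nC n)) (le_norm_piCoreOf' (CfsgH9.le_normalizer_LF le_normalizer n)))
    (LF_le_sup e le_norm_piCoreOf n))

end CfsgCP
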