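import Cfsg.Agent.H2.BG0
import Cfsg.Agent.H1.Field
import Cfsg.Agent.H8.Zsig
import Cfsg.Prelude.Def_LocalStructure

/-! Minimal non-`p`-closed groups that are not simple. -/

set_option autoImplicit false
open Subgroup Cfsg CfsgH2 Function
open scoped commutatorElement IsMulCommutative

namespace CfsgMC

universe u
variable {G : Type u} [Group G] [Finite G] {p q : ℕ} [hp : Fact p.Prime]

theorem field_card {F : Type*} [Field F] [Finite F] (hq : q.Prime) (hqF : q ∣ Nat.card F) {z : F}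
    (h1 : z ≠ 1) (hz : z ^ p = 1) (hg : Subring.closure (Set.range fun k : ℕ => z ^ k) = ⊤) :
    Nat.card F = q ^ orderOf (q : ZMod p) := by
  haveI := Fact.mk hq
  haveI := Fintype.ofFinite F
  rw [Nat.card_eq_fintype_card] at hqF ⊢
  haveI : CharP F q := by
    have h0 := (prime_dvd_char_iff_dvd_card (R := F) q).mpr hqF
    rw [(Nat.prime_dvd_prime_iff_eq hq (CharP.char_is_prime F (ringChar F))).mp h0]
    infer_instance
  obtain ⟨n, -, hn⟩ := FiniteField.card F q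
  have oz : orderOf z = p := orderOf_eq_prime hz h1
  have z0 : z ≠ 0 := fun e => by rw [e, zero_pow hp.out.ne_zero] at hz; exact zero_ne_one hz
  have d1 : orderOf (q : ZMod p) ∣ n := (CfsgH8.dvd_iff_ord hq.pos).1 (by
    rw [← hn, ← oz]; exact orderOf_dvd_of_pow_eq_one (FiniteField.pow_card_sub_one_eq_one z z0))
  set m := orderOf (q : ZMod p)
  have m0 : 0 < m := Nat.pos_of_dvd_of_pos d1 n.2
  have d2 : p ∣ q ^ m - 1 := (CfsgH8.dvd_iff_ord hq.pos).2 dvd_rfl
  have zm : z ^ q ^ m = z := by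
    obtain ⟨c, hc⟩ := d2
    rw [← Nat.sub_add_cancel (Nat.one_le_pow m q hq.pos), hc, pow_succ, pow_mul, hz, one_pow, one_mul]
  have al : ∀ x : F, x ^ q ^ m = x := fun x => by
    have : Subring.closure (Set.range fun k : ℕ => z ^ k) ≤ (iterateFrobenius F q m).eqLocus (RingHom.id F) := by
      rw [Subring.closure_le]
      rintro _ ⟨k, rfl⟩
      change (z ^ k) ^ q ^ m = z ^ k
      rw [← pow_mul, mul_comm, pow_mul, zm]
    exact this (hg ▸ Subring.mem_top x)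
  obtain ⟨g, hg'⟩ := IsCyclic.exists_ofOrder_eq_natCard (α := Fˣ)
  have d3 : q ^ (n : ℕ) - 1 ∣ q ^ m - 1 := by
    rw [← hn, ← Nat.card_eq_fintype_card, ← Nat.card_units, ← hg']
    refine orderOf_dvd_of_pow_eq_one (Units.ext (mul_right_cancel₀ g.ne_zero ?_))
    rw [Units.val_pow_eq_pow_val, ← pow_succ, Nat.sub_add_cancel (Nat.one_le_pow m q hq.pos), al]; simp
  have l1 := Nat.le_of_dvd (by have := Nat.one_lt_pow m0.ne' hq.one_lt; omega) d3
  have l2 : q ^ (n : ℕ) ≤ q ^ m := by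
    have := Nat.one_le_pow m q hq.pos
    have := Nat.one_le_pow n q hq.pos
    omega
  rw [hn, le_antisymm ((Nat.pow_le_pow_iff_right hq.one_lt).1 l2) (Nat.le_of_dvd n.2 d1)]

theorem card_irr (hq : q.Prime) {V : Subgroup G} (hV : Ab[V]) (hqV : q ∣ o[V]) {x : G} (hx : x ∈ N[V])
    (h1 : x ∉ C[V]) (h2 : x ^ p ∈ C[V]) (hirr : ∀ W, W ≤ V → x ∈ N[W] → W = ⊥ ∨ W = V) :
    o[V] = q ^ orderOf (q : ZMod p) := by
  obtain ⟨F, _, _, φ, e, he, hgen⟩ := CfsgH1.exists_field_of_irreducible (A := zpowers x) (V := V)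
    (zpowers_le.2 hx) (by rw [commutator_self_eq_bot_iff.2 inferInstance]; exact bot_le)
    (by rintro rfl; exact hq.one_lt.ne' (by simpa using hqV)) fun W a b => hirr W a (zpowers_le.1 b)
  have hc : o[V] = Nat.card F := by rw [← Nat.card_congr e.toEquiv]; rfl
  rw [hc]
  refine field_card hq (hc ▸ hqV) (z := φ ⟨x, mem_zpowers x⟩)
    (fun a => h1 ((CfsgH1.field_action_mem_centralizer_iff he _).2 a)) ?_ ?_
  · rw [← map_pow]; exact (CfsgH1.field_action_mem_centralizer_iff he _).1 h2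
  · rw [← hgen]; congr 1; ext y
    refine ⟨?_, ?_⟩
    · rintro ⟨k, rfl⟩; exact ⟨_, map_pow _ _ _⟩
    · rintro ⟨⟨a, ha⟩, rfl⟩
      obtain ⟨k, rfl⟩ := (mem_powers_iff_mem_zpowers.2 ha : a ∈ Submonoid.powers x)
      exact ⟨k, by simp only [← map_pow]; rfl⟩

theorem pcl_of_syl {P : Subgroup G} (h : Syl p P ⊤) (hn : ⊤ ≤ N[P]) : IsPClosed p G := fun Q => by
  rw [h.eq_of_norm (syl_top Q) hn]; exact normal_of_top_le_norm hn

theorem pcl_sub {P H : Subgroup G} (h : Syl p P H) : IsPClosed p H ↔ H ≤ N[P] := by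
  refine ⟨fun a => ?_, fun a => pcl_of_syl h.subgroupOf (top_le_norm_iff.2 ((normal_subgroupOf_iff' h.le).2 a))⟩
  obtain ⟨Q, rfl⟩ := h.exists_sub
  haveI := a Q
  exact le_norm_map_subtype _

theorem pcl_of_pg (h : IsPGroup p G) : IsPClosed p G :=
  pcl_of_syl (Syl.self (h.to_subgroup ⊤)) le_normalizer

theorem irr_main (hq : q.Prime) (hpq : q ≠ p) (hna : ¬ IsMulCommutative G) (A : Subgroup G) [nA : A.Normal]
    (hA : IsElementaryAbelian q A) (hidx : A.index = p) (hmin : ∀ B : Subgroup G, B.Normal → B ≤ A → B = ⊥ ∨ B = A) :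
    o[A] = q ^ orderOf (q : ZMod p) ∧ ¬ IsPClosed p G ∧ (∀ H : Subgroup G, H ≠ ⊤ → IsPClosed p H) ∧
      ∀ (N : Subgroup G) [N.Normal], N ≠ ⊥ → IsPClosed p (G ⧸ N) := by
  haveI := Fact.mk hq
  have pA : PG[q, A] := isPGroup_of_exp hA.2
  have nd : ¬ p ∣ o[A] := fun d => by
    obtain ⟨k, hk⟩ := pA.exists_card_eq
    exact hpq ((Nat.prime_dvd_prime_iff_eq hp.out hq).1 (hp.out.dvd_of_dvd_pow (hk ▸ d))).symm
  have co : ∀ H : Subgroup G, ¬ H ≤ A → H ⊔ A = ⊤ := fun H h => by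
    have d := index_dvd_of_le (le_sup_right : A ≤ H ⊔ A)
    rw [hidx] at d
    rcases (Nat.dvd_prime hp.out).1 d with e | e
    · exact index_eq_one.1 e
    · have c := relIndex_mul_index (le_sup_right : A ≤ H ⊔ A)
      rw [hidx, e] at c
      exact absurd (le_sup_left.trans (relIndex_eq_one.1 ((Nat.mul_eq_right hp.out.ne_zero).1 c))) h
  have ab : ∀ y, y ∉ A → y ∉ C[A] := fun y a b => hna (isMulComm_top_iff.1 (by
    rw [← co (zpowers y) (fun c => a (zpowers_le.1 c))]; exact isMulComm_sup inferInstance hA.1 (zpowers_le.2 b)))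
  have nm : ∀ W H : Subgroup G, W ≤ A → ¬ H ≤ A → H ≤ N[W] → W = ⊥ ∨ W = A := fun W H a b c =>
    hmin W (normal_of_top_le_norm ((co H b).ge.trans (sup_le c (le_norm_of_le_cent (le_cent_of_comm hA.1 a))))) a
  obtain ⟨x, -, hx⟩ := exists_prime_order_mem (H := (⊤ : Subgroup G)) hp.out
    (by rw [card_top, ← A.card_mul_index, hidx]; exact dvd_mul_left _ _)
  have xA : x ∉ A := fun a => nd (hx ▸ orderOf_dvd_of_mem a)
  have xp : x ^ p = 1 := hx ▸ pow_orderOf_eq_one x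
  have A0 : A ≠ ⊥ := fun e => ab x xA (by rw [e, cent_bot]; trivial)
  have pq : ∀ H : Subgroup G, H ⊓ A = ⊥ → o[H] ∣ p := fun H h => by
    have := card_inf_mul_relIndex A H
    rw [inf_comm, h, card_bot, one_mul] at this
    exact this ▸ hidx ▸ relIndex_dvd_index_of_normal A H
  refine ⟨card_irr hq hA.1 (dvd_card_of_pgroup pA A0) (le_normalizer_of_normal (mem_top x)) (ab x xA)
    (xp ▸ one_mem _) fun W a b => nm W (zpowers x) a (fun c => xA (zpowers_le.1 c)) (zpowers_le.2 b),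
    fun h => ?_, fun H h => ?_, fun N _ h => ?_⟩
  · obtain ⟨P⟩ : Nonempty (Sylow p G) := inferInstance
    haveI := h P
    exact ab x xA (le_cent_of_inf_eq_bot le_normalizer_of_normal le_normalizer_of_normal
      (eq_bot_of_pgroup_of_not_dvd (P.2.to_le inf_le_left) fun d => nd (d.trans (card_dvd_of_le inf_le_right)))
      ((syl_top P).mem_of_norm le_normalizer_of_normal (mem_top x) (k := 1) (by simpa using xp)))
  · by_cases a : H ≤ A
    · exact (pcl_sub (Syl.bot_of_not_dvd fun d => nd (d.trans (card_dvd_of_le a)))).2 le_normalizer_of_normal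
    · rcases nm (H ⊓ A) H inf_le_right a (le_norm_inf le_normalizer le_normalizer_of_normal) with e | e
      · exact pcl_of_pg (IsPGroup.of_card_dvd_pow (n := 1) (by simpa using pq H e))
      · exact absurd ((sup_of_le_left (e.ge.trans inf_le_left)).symm.trans (co H a)) h
  · rcases hmin (N ⊓ A) inferInstance inf_le_right with e | e
    · obtain ⟨y, y1, y2⟩ := (bot_or_exists_ne_one N).resolve_left h
      exact absurd (le_cent_of_inf_eq_bot le_normalizer_of_normal le_normalizer_of_normal e y1)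
        (ab y fun c => y2 (mem_bot.1 (e ▸ mem_inf.2 ⟨y1, c⟩)))
    · exact pcl_of_pg (IsPGroup.of_card_dvd_pow (n := 1) (by
        rw [pow_one, ← hidx]; exact index_dvd_of_le (e.ge.trans inf_le_left)))

theorem min_main (hnc : ¬ IsPClosed p G) (hsub : ∀ H : Subgroup G, H ≠ ⊤ → IsPClosed p H)
    (hquo : ∀ (N : Subgroup G) [N.Normal], N ≠ ⊥ → IsPClosed p (G ⧸ N)) (hns : ¬ IsSimpleGroup G) :
    ∃ q : ℕ, q.Prime ∧ q ≠ p ∧ Nat.card G = p * q ^ orderOf (q : ZMod p) ∧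
      ∃ A : Subgroup G, A.Normal ∧ o[A] = q ^ orderOf (q : ZMod p) ∧ IsElementaryAbelian q A ∧
        ∀ B : Subgroup G, B.Normal → B ≤ A → B = ⊥ ∨ B = A := by
  obtain ⟨P, hP⟩ := exists_syl p (⊤ : Subgroup G)
  have nP : ¬ ⊤ ≤ N[P] := fun a => hnc (pcl_of_syl hP a)
  have P0 : P ≠ ⊥ := fun e => nP (by rw [e, norm_bot])
  haveI : Nontrivial G := by
    obtain ⟨y, -, y2⟩ := (bot_or_exists_ne_one P).resolve_left P0
    exact ⟨y, 1, y2⟩
  obtain ⟨N₀, n0, a0, b0⟩ : ∃ N : Subgroup G, N.Normal ∧ N ≠ ⊥ ∧ N ≠ ⊤ := by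
    by_contra h; push Not at h
    exact hns ⟨fun H a => (em (H = ⊥)).imp id (h H a)⟩
  obtain ⟨A, nA, A0, AN, hmin⟩ := CfsgH1.exists_minimal_normal_le N₀ a0
  have qn : ∀ (K : Subgroup G) [K.Normal], K ≠ ⊥ → ⊤ ≤ N[P ⊔ K] := fun K _ a => by
    have s := hP.map (QuotientGroup.mk' K)
    rw [map_top_of_surjective _ (QuotientGroup.mk'_surjective K)] at s
    obtain ⟨Q, hQ⟩ := s.exists_top
    haveI := hquo K a Q
    simpa using CfsgH1.le_normalizer_of_map_le_normalizer (QuotientGroup.mk' K) (K := ⊤) (P := P)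
      (hQ ▸ le_normalizer_of_normal)
  have op : ∀ K : Subgroup G, ⊤ ≤ N[K] → PG[p, K] → K = ⊥ := fun K a b => by_contra fun c => by
    haveI := normal_of_top_le_norm a
    have := qn K c
    rw [sup_of_le_left (hP.le_of_norm b le_top (le_top.trans a))] at this
    exact nP this
  have nd : ¬ p ∣ o[A] := fun d => by
    obtain ⟨S, hS⟩ := exists_syl p A
    exact hS.ne_bot d (op S (le_normalizer_of_normal.trans (hS.norm_le_of_norm ((pcl_sub hS).1
      (hsub A fun e => b0 (top_le_iff.1 (e.ge.trans AN)))))) hS.pg)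
  have tp : P ⊔ A = ⊤ := by_contra fun c => nP ((qn A A0).trans ((hP.mono le_sup_left le_top).norm_le_of_norm
    ((pcl_sub (hP.mono le_sup_left le_top)).1 (hsub _ c))))
  have cop : o[P].Coprime o[A] := coprime_of_pgroup hP.pg nd
  obtain ⟨q, hq, pA⟩ : ∃ q : ℕ, q.Prime ∧ PG[q, A] := by
    by_contra h; push Not at h
    refine nP (tp.ge.trans (sup_le le_normalizer (le_of_syl fun q hq _ => ?_)))
    obtain ⟨Q, hQ, nQ⟩ := exists_inv_syl q (A := P) (K := A) le_normalizer_of_normal cop (Or.inl (CfsgH1.isSolvable_of_isPGroup hP.pg))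
    refine ⟨Q, hQ, le_sup_right.trans ((pcl_sub (hP.mono le_sup_left le_top)).1 (hsub _ fun e => h q hq.out ?_))⟩
    have := sup_inf_of_norm' (L := A) (Or.inl nQ) hQ.le
    rw [e, top_inf_eq, inf_eq_bot_of_coprime' cop, bot_sup_eq] at this
    exact this ▸ hQ.pg
  haveI := Fact.mk hq
  have qp : q ≠ p := fun e => nd (e ▸ dvd_card_of_pgroup pA A0)
  haveI := CfsgH1.isSolvable_of_isPGroup pA
  obtain ⟨ab, r, hr, er⟩ := CfsgH1.minimal_normal_solvable_elementary A A0 hmin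
  obtain rfl : r = q := by
    haveI := Fact.mk hr
    by_contra c
    exact A0 (disjoint_self.1 (IsPGroup.disjoint_of_ne r q c _ _ (isPGroup_of_exp er) pA))
  have oP : o[P] = p := by
    obtain ⟨R, -, h1, h2, h3⟩ := exists_maximal_sub hP.pg (bot_lt_iff_ne_bot.2 P0)
    have s : Syl p R (R ⊔ A) := (Syl.self (hP.pg.to_le h1)).sup_coprime (Or.inl le_normalizer_of_normal) nd
    have : R = ⊥ := op R (tp.ge.trans (sup_le h2 (le_sup_right.trans ((pcl_sub s).1 (hsub _ fun e => ?_))))) s.pg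
    · rw [← h3, this, relIndex_bot_left]
    · rw [e] at s
      rw [s.eq_of_le hP.pg h1 le_top, relIndex_self] at h3
      exact hp.out.one_lt.ne h3
  have ix : A.index = p := by
    have c := card_sup_of_disj (H := P) (K := A) (Or.inl le_normalizer_of_normal) (inf_eq_bot_of_coprime' cop)
    rw [tp, card_top, ← A.card_mul_index, oP, mul_comm] at c
    exact Nat.eq_of_mul_eq_mul_right (card_pos' A) c
  have := (irr_main hr qp (fun c => nP (le_norm_of_le_cent (le_cent_of_comm (isMulComm_top_iff.2 c) le_top))) A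
    ⟨ab, er⟩ ix hmin).1
  exact ⟨r, hr, qp, by rw [← A.card_mul_index, ix, this, mul_comm], A, nA, this, ⟨ab, er⟩, hmin⟩

theorem exp_iff (h : ∀ (g : G) (k : ℕ), g ^ p ^ k = 1 → g ^ p = 1) :
    (∃ H : Subgroup G, (H : Set G) = {g : G | g ^ p = 1}) ↔ IsPClosed p G := by
  obtain ⟨P, hP⟩ := exists_syl p (⊤ : Subgroup G)
  refine ⟨fun ⟨H, e⟩ => ?_, fun a => ⟨P, Set.ext fun g => ⟨fun b => ?_, fun b => ?_⟩⟩⟩
  · have m : ∀ g, g ∈ H ↔ g ^ p = 1 := fun g => Set.ext_iff.1 e g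
    have : H = P := hP.eq_of_le (isPGroup_of_exp fun g => (m g).1)
      (fun g b => (pgroup_pow_eq_one hP.pg b).elim fun k c => (m g).2 (h g k c)) le_top
    exact pcl_of_syl hP fun g _ => this ▸ mem_norm_of_conj fun y b => (m _).2 (by rw [conj_pow, (m y).1 b]; simp)
  · exact (pgroup_pow_eq_one hP.pg b).elim fun k c => h g k c
  · obtain ⟨Q, rfl⟩ := hP.exists_top
    haveI := a Q
    exact hP.mem_of_norm le_normalizer_of_normal (mem_top g) (k := 1) (by simpa using b)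

theorem exp_quot (h : ∀ (g : G) (k : ℕ), g ^ p ^ k = 1 → g ^ p = 1) (N : Subgroup G) [N.Normal]
    (g : G ⧸ N) (k : ℕ) (hg : g ^ p ^ k = 1) : g ^ p = 1 := by
  obtain ⟨P, hP⟩ := exists_syl p (⊤ : Subgroup G)
  have s := hP.map (QuotientGroup.mk' N)
  rw [map_top_of_surjective _ (QuotientGroup.mk'_surjective N)] at s
  obtain ⟨c, -, hc⟩ := s.exists_conj_le (isPGroup_zpowers hg) le_top
  obtain ⟨y, y1, y2⟩ := hc (conj_mem_map_cj (mem_zpowers g))
  obtain ⟨j, hj⟩ := pgroup_pow_eq_one hP.pg y1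
  have := congrArg (QuotientGroup.mk' N) (h y j hj)
  rw [map_pow, y2, conj_pow, map_one] at this
  simpa using this

theorem exp_main (hnc : ¬ ∃ H : Subgroup G, (H : Set G) = {g : G | g ^ p = 1})
    (hsub : ∀ K : Subgroup G, K ≠ ⊤ → ∃ H : Subgroup K, (H : Set K) = {g : K | g ^ p = 1})
    (hquo : ∀ (N : Subgroup G) [N.Normal], N ≠ ⊥ → ∃ H : Subgroup (G ⧸ N), (H : Set (G ⧸ N)) = {g | g ^ p = 1})
    (hns : ¬ IsSimpleGroup G) (hnp : ¬ IsPGroup p G) (g : G) (k : ℕ) (hg : g ^ p ^ k = 1) : g ^ p = 1 := by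
  haveI : Nontrivial G := by
    by_contra h
    haveI := not_nontrivial_iff_subsingleton.1 h
    exact hnp fun g => ⟨0, Subsingleton.elim _ _⟩
  obtain ⟨N₀, n0, a0, b0⟩ : ∃ N : Subgroup G, N.Normal ∧ N ≠ ⊥ ∧ N ≠ ⊤ := by
    by_contra h; push Not at h
    exact hns ⟨fun H a => (em (H = ⊥)).imp id (h H a)⟩
  obtain ⟨A, nA, A0, AN, hmin⟩ := CfsgH1.exists_minimal_normal_le N₀ a0
  have ex : ∀ K : Subgroup G, K ≠ ⊤ → ∃ H : Subgroup G, ∀ y, y ∈ H ↔ y ∈ K ∧ y ^ p = 1 := fun K a => by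
    obtain ⟨H, e⟩ := hsub K a
    refine ⟨H.map K.subtype, fun y => ⟨?_, fun b => ⟨⟨y, b.1⟩, (Set.ext_iff.1 e _).2 (Subtype.ext b.2), rfl⟩⟩⟩
    rintro ⟨y, b, rfl⟩
    exact ⟨y.2, congrArg Subtype.val ((Set.ext_iff.1 e y).1 b)⟩
  have e1 : ∀ y : G, y ^ p ∈ A := fun y => by
    obtain ⟨H, e⟩ := hquo A A0
    have : H.comap (QuotientGroup.mk' A) = ⊤ := by_contra fun c => by
      obtain ⟨L, hL⟩ := ex _ c
      exact hnc ⟨L, Set.ext fun z => (hL z).trans ⟨And.right, fun b => ⟨(Set.ext_iff.1 e _).2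
        (show QuotientGroup.mk' A z ^ p = 1 by rw [← map_pow, show z ^ p = 1 from b, map_one]), b⟩⟩⟩
    exact (QuotientGroup.eq_one_iff _).1 ((Set.ext_iff.1 e _).1 (this.ge (mem_top y)))
  obtain ⟨L, hL⟩ := ex A fun e => b0 (top_le_iff.1 (e.ge.trans AN))
  rcases hmin L ⟨fun y a c => (hL _).2 ⟨nA.conj_mem _ ((hL y).1 a).1 c, by rw [conj_pow, ((hL y).1 a).2]; simp⟩⟩
    (fun y a => ((hL y).1 a).1) with e | e
  · have nd : ¬ p ∣ o[A] := fun d => by
      obtain ⟨x, x1, x2⟩ := exists_prime_order_mem hp.out d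
      have := mem_bot.1 (e ▸ (hL x).2 ⟨x1, x2 ▸ pow_orderOf_eq_one x⟩)
      rw [this, orderOf_one] at x2
      exact hp.out.one_lt.ne x2
    exact mem_bot.1 ((eq_bot_of_pgroup_of_not_dvd (isPGroup_zpowers (p := p) (k := k) (x := g ^ p) (by
      rw [← pow_mul, mul_comm, pow_mul, hg, one_pow])) fun d =>
        nd (d.trans (card_dvd_of_le (zpowers_le.2 (e1 g))))).le (mem_zpowers _))
  · exact absurd (fun y => ⟨2, by rw [pow_two, pow_mul]; exact ((hL _).1 (e.ge (e1 y))).2⟩) hnp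

end CfsgMC
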