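import Mathlib

/-! Subdirect products of nonabelian simple groups. -/

set_option autoImplicit false
open Subgroup Function
open scoped commutatorElement

namespace CfsgScott

variable {ι T : Type*} [Fintype ι] [DecidableEq ι] [Group T] [IsSimpleGroup T]

omit [Fintype ι] [DecidableEq ι] in
theorem hz (hT : ¬ IsMulCommutative T) {t : T} (h : ∀ s, s * t = t * s) : t = 1 := by
  rcases (inferInstance : (center T).Normal).eq_bot_or_eq_top with e | e
  · exact mem_bot.1 (e ▸ mem_center_iff.2 h)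
  · exact (hT ⟨⟨fun a b => mem_center_iff.1 (e ▸ mem_top b) a⟩⟩).elim

theorem perm (hT : ¬ IsMulCommutative T) (α : (ι → T) ≃* (ι → T)) (i : ι) :
    ∃ j, ∀ x, x i = 1 ↔ α x j = 1 := by
  obtain ⟨t, ht⟩ := exists_ne (1 : T)
  have h1 : α (Pi.mulSingle i t) ≠ 1 := fun e => ht (by
    have := congrFun ((map_eq_one_iff α α.injective).1 e) i
    simpa using this)
  obtain ⟨j, hj⟩ := Function.ne_iff.1 h1
  let f : T →* T := (Pi.evalMonoidHom (fun _ => T) j).comp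
    (α.toMonoidHom.comp (MonoidHom.mulSingle (fun _ => T) i))
  have hf : ∀ s, f s = α (Pi.mulSingle i s) j := fun _ => rfl
  have n : f.range.Normal := ⟨by
    rintro _ ⟨u, rfl⟩ s
    obtain ⟨y, hy⟩ := α.surjective (Pi.mulSingle j s)
    refine ⟨y i * u * (y i)⁻¹, ?_⟩
    have : (Pi.mulSingle i (y i * u * (y i)⁻¹) : ι → T) = y * Pi.mulSingle i u * y⁻¹ := by
      ext l; by_cases c : l = i
      · subst c; simp
      · simp [c]
    rw [hf, hf, this, map_mul, map_mul, map_inv, hy]; simp⟩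
  have su : f.range = ⊤ := n.eq_bot_or_eq_top.resolve_left fun e =>
    hj (mem_bot.1 (e ▸ (⟨t, rfl⟩ : f t ∈ f.range)))
  have inj : f.ker = ⊥ := f.normal_ker.eq_bot_or_eq_top.resolve_right fun e =>
    hj (MonoidHom.mem_ker.1 (e ▸ mem_top t : t ∈ f.ker))
  have A : ∀ x : ι → T, x i = 1 → α x j = 1 := fun x hx => hz hT fun s => by
    obtain ⟨u, rfl⟩ : s ∈ f.range := su ▸ mem_top s
    have : (Pi.mulSingle i u : ι → T) * x = x * Pi.mulSingle i u := by
      ext l; by_cases c : l = i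
      · subst c; simp [hx]
      · simp [c]
    rw [hf, ← Pi.mul_apply, ← map_mul, this, map_mul, Pi.mul_apply]
  refine ⟨j, fun x => ⟨A x, fun h => ?_⟩⟩
  have := A ((Pi.mulSingle i (x i))⁻¹ * x) (by simp)
  rw [map_mul, map_inv, Pi.mul_apply, h, mul_one, Pi.inv_apply, inv_eq_one, ← hf] at this
  exact mem_bot.1 (inj ▸ MonoidHom.mem_ker.2 this)

theorem perm' (hT : ¬ IsMulCommutative T) (α : (ι → T) ≃* (ι → T)) :
    ∃ σ : ι ≃ ι, (∀ i x, x i = 1 ↔ α x (σ i) = 1) ∧ ∀ i x y, x i = y i → α x (σ i) = α y (σ i) := by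
  choose σ hσ using perm hT α
  obtain ⟨t, ht⟩ := exists_ne (1 : T)
  have : Injective σ := fun i j e => by_contra fun c => ht (by
    have := (hσ i (Pi.mulSingle i t)).2 (e ▸ (hσ j _).1 (by simp [Ne.symm c]))
    simpa using this)
  refine ⟨Equiv.ofBijective σ (Finite.injective_iff_bijective.1 this), hσ, fun i x y h => ?_⟩
  have := (hσ i (x * y⁻¹)).1 (by simp [h])
  rwa [map_mul, map_inv, Pi.mul_apply, Pi.inv_apply, mul_inv_eq_one] at this

/-- elements of `D` vanishing on `s`. -/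
def LL (D : Subgroup (ι → T)) (s : Set ι) : Subgroup (ι → T) where
  carrier := {d | d ∈ D ∧ ∀ j ∈ s, d j = 1}
  one_mem' := ⟨one_mem _, fun _ _ => rfl⟩
  mul_mem' a b := ⟨mul_mem a.1 b.1, fun j h => by simp [a.2 j h, b.2 j h]⟩
  inv_mem' a := ⟨inv_mem a.1, fun j h => by simp [a.2 j h]⟩

omit [Fintype ι] [DecidableEq ι] in
theorem LL_all {D : Subgroup (ι → T)} {s : Set ι} {i : ι} (h : ∀ t, ∃ d ∈ D, d i = t)
    (h1 : ∃ d ∈ LL D s, d i ≠ 1) (t : T) : ∃ d ∈ LL D s, d i = t := by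
  have n : ((LL D s).map (Pi.evalMonoidHom (fun _ => T) i)).Normal := ⟨by
    rintro _ ⟨l, hl, rfl⟩ u
    obtain ⟨d, hd, rfl⟩ := h u
    exact ⟨d * l * d⁻¹, ⟨mul_mem (mul_mem hd hl.1) (inv_mem hd), fun j h => by simp [hl.2 j h]⟩, rfl⟩⟩
  obtain ⟨d, d1, d2⟩ := h1
  have := n.eq_bot_or_eq_top.resolve_left fun e => d2 (mem_bot.1 (e ▸ mem_map_of_mem _ d1))
  exact (this ▸ mem_top t : t ∈ (LL D s).map _)

omit [Fintype ι] [DecidableEq ι] in
theorem sep {D : Subgroup (ι → T)} (h : ∀ i t, ∃ d ∈ D, d i = t) {i j : ι}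
    (hr : ¬ ∀ d ∈ D, d i = 1 ↔ d j = 1) : ∃ d ∈ LL D {j}, d i ≠ 1 := by
  by_contra! a
  refine hr fun d hd => ⟨fun b => by_contra fun c => ?_, fun b => a d ⟨hd, by simpa using b⟩⟩
  obtain ⟨t, ht⟩ := exists_ne (1 : T)
  obtain ⟨x, x1, rfl⟩ := h i t
  obtain ⟨l, l1, l2⟩ := LL_all (s := {i}) (h j) ⟨d, ⟨hd, by simpa using b⟩, c⟩ (x j)
  have := a (x * l⁻¹) ⟨mul_mem x1 (inv_mem l1.1), by simp [l2]⟩
  exact ht (by simpa [l1.2 i rfl] using this)

theorem scott (hT : ¬ IsMulCommutative T) {D : Subgroup (ι → T)} (h : ∀ i t, ∃ d ∈ D, d i = t)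
    (hr : ∀ i j, (∀ d ∈ D, d i = 1 ↔ d j = 1) → i = j) : D = ⊤ := by
  have A : ∀ i (s : Finset ι), i ∉ s → ∀ t, ∃ d ∈ LL D s, d i = t := fun i s => by
    induction s using Finset.induction_on with
    | empty => exact fun _ t => let ⟨d, a, b⟩ := h i t; ⟨d, ⟨a, by simp⟩, b⟩
    | insert j s hj ih =>
      intro hi
      rw [Finset.mem_insert, not_or] at hi
      obtain ⟨u, v, huv⟩ : ∃ u v : T, u * v ≠ v * u := by
        by_contra! c
        exact hT ⟨⟨c⟩⟩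
      obtain ⟨a, a1, rfl⟩ := ih hi.2 u
      obtain ⟨b, b1, rfl⟩ := LL_all (h i) (sep h fun c => hi.1 (hr i j c)) v
      refine LL_all (h i) ⟨a * b * a⁻¹ * b⁻¹, ⟨mul_mem (mul_mem (mul_mem a1.1 b1.1) (inv_mem a1.1))
        (inv_mem b1.1), fun l hl => ?_⟩, fun c => huv ?_⟩
      · rcases Finset.mem_insert.1 (Finset.mem_coe.1 hl) with rfl | hl
        · simp [b1.2 l rfl]
        · simp [a1.2 l hl]
      · exact commutatorElement_eq_one_iff_mul_comm.1 c
  have B : ∀ (s : Finset ι) (x : ι → T), ∃ d ∈ D, ∀ j ∈ s, d j = x j := fun s x => by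
    induction s using Finset.induction_on with
    | empty => exact ⟨1, one_mem _, by simp⟩
    | insert i s hi ih =>
      obtain ⟨d, d1, d2⟩ := ih
      obtain ⟨e, e1, e2⟩ := A i s hi ((d i)⁻¹ * x i)
      refine ⟨d * e, mul_mem d1 e1.1, fun j hj => ?_⟩
      rcases Finset.mem_insert.1 hj with rfl | hj
      · simp [e2]
      · simp [e1.2 j hj, d2 j hj]
  refine eq_top_iff.2 fun x _ => ?_
  obtain ⟨d, d1, d2⟩ := B Finset.univ x
  exact (funext fun j => d2 j (Finset.mem_univ j) : d = x) ▸ d1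

omit [Fintype ι] [DecidableEq ι] [IsSimpleGroup T] in
theorem psi {D : Subgroup (ι → T)} (h : ∀ i t, ∃ d ∈ D, d i = t) {i j : ι}
    (hr : ∀ d ∈ D, d i = 1 ↔ d j = 1) : ∃ ψ : T ≃* T, ∀ d ∈ D, ψ (d i) = d j := by
  let f : ι → D →* T := fun i => (Pi.evalMonoidHom (fun _ => T) i).comp D.subtype
  have s : ∀ i, Surjective (f i) := fun i t => let ⟨d, a, b⟩ := h i t; ⟨⟨d, a⟩, b⟩
  have e : (f i).ker = (f j).ker := Subgroup.ext fun d => hr d d.2
  refine ⟨(QuotientGroup.quotientKerEquivOfSurjective _ (s i)).symm.trans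
    ((QuotientGroup.quotientMulEquivOfEq e).trans (QuotientGroup.quotientKerEquivOfSurjective _ (s j))),
    fun d hd => ?_⟩
  have : (QuotientGroup.quotientKerEquivOfSurjective _ (s i)).symm (d i) = QuotientGroup.mk ⟨d, hd⟩ := by
    rw [MulEquiv.symm_apply_eq]; rfl
  rw [MulEquiv.trans_apply, this]; rfl

theorem main [Nonempty ι] (hT : ¬ IsMulCommutative T) {D : Subgroup (ι → T)}
    (A : Set ((ι → T) ≃* (ι → T))) (hD : ∀ α ∈ A, ∀ x, α x ∈ D ↔ x ∈ D) (h0 : D ≠ ⊤)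
    (hmax : ∀ E, D ≤ E → (∀ α ∈ A, ∀ x ∈ E, α x ∈ E) → E = D ∨ E = ⊤)
    (hmin : ∀ M : Subgroup (ι → T), M.Normal → (∀ α ∈ A, ∀ x ∈ M, α x ∈ M) → M = ⊥ ∨ M = ⊤) :
    (∃ K : ι → Subgroup T, (∀ i, K i ≠ ⊤) ∧ ∀ x, x ∈ D ↔ ∀ i, x i ∈ K i) ∨
    ∃ (ψ : ι → T ≃* T) (k : ℕ) (c : ι → ι), 2 ≤ k ∧
      (∀ j, Nat.card {i // c i = j} = k ∨ Nat.card {i // c i = j} = 0) ∧
      ∀ x, x ∈ D ↔ ∀ i j, c i = c j → ψ i (x i) = ψ j (x j) := by
  choose σ s1 s2 using perm' (ι := ι) hT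
  obtain ⟨t, ht⟩ := exists_ne (1 : T)
  have tr : ∀ I : Set ι, (∀ α ∈ A, ∀ i, σ α i ∈ I → i ∈ I) → I.Nonempty → ∀ i, i ∈ I := by
    rintro I h ⟨i, hi⟩ j
    rcases hmin (LL ⊤ I) ⟨fun l hl u => ⟨trivial, fun j h => by simp [hl.2 j h]⟩⟩ (fun α a x hx =>
      ⟨trivial, fun l hl => by
        obtain ⟨l, rfl⟩ := (σ α).surjective l
        exact (s1 α l x).1 (hx.2 l (h α a l hl))⟩) with e | e
    · by_contra c
      have : (Pi.mulSingle j t : ι → T) ∈ LL ⊤ I := ⟨trivial, fun l hl => by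
        have : l ≠ j := fun e => c (e ▸ hl)
        simp [this]⟩
      rw [e, mem_bot] at this
      exact ht (by simpa using congrFun this j)
    · have : (fun _ => t : ι → T) ∈ LL ⊤ I := by rw [e]; trivial
      exact (ht (this.2 i hi)).elim
  by_cases h : ∃ i, ∀ t, ∃ d ∈ D, d i = t
  swap
  · push Not at h
    let K : ι → Subgroup T := fun i => D.map (Pi.evalMonoidHom (fun _ => T) i)
    have k : ∀ i, K i ≠ ⊤ := fun i e => by
      obtain ⟨u, hu⟩ := h i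
      obtain ⟨d, a, b⟩ : u ∈ K i := e ▸ mem_top u
      exact hu d a b
    refine Or.inl ⟨K, k, fun x => ?_⟩
    rcases hmax (Subgroup.pi Set.univ K) (fun d hd i _ => mem_map_of_mem _ hd) (fun α a x hx j _ => by
      obtain ⟨j, rfl⟩ := (σ α).surjective j
      obtain ⟨d, d1, d2⟩ := hx j trivial
      exact ⟨α d, (hD α a d).2 d1, s2 α j _ _ d2⟩) with e | e
    · rw [← e]; simp [mem_pi]
    · obtain ⟨i⟩ := ‹Nonempty ι›
      refine (k i (eq_top_iff.2 fun u _ => ?_)).elim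
      have : (fun _ => u : ι → T) ∈ Subgroup.pi Set.univ K := by rw [e]; trivial
      exact this i trivial
  have h : ∀ i t, ∃ d ∈ D, d i = t := tr {i | ∀ t, ∃ d ∈ D, d i = t} (fun α a i hi u => by
    obtain ⟨d, d1, d2⟩ := hi (α (fun _ => u) (σ α i))
    obtain ⟨d, rfl⟩ := α.surjective d
    refine ⟨d, (hD α a d).1 d1, ?_⟩
    have := (s1 α i (d * (fun _ => u)⁻¹)).2 (by simp [d2])
    simpa [mul_inv_eq_one] using this) h
  let r : Setoid ι := ⟨fun i j => ∀ d ∈ D, d i = 1 ↔ d j = 1, fun _ _ _ => Iff.rfl,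
    fun a d hd => (a d hd).symm, fun a b d hd => (a d hd).trans (b d hd)⟩
  have rσ : ∀ α ∈ A, ∀ i j, r i j ↔ r (σ α i) (σ α j) := fun α a i j =>
    ⟨fun b d hd => by
      obtain ⟨d, rfl⟩ := α.surjective d
      rw [← s1, ← s1]; exact b d ((hD α a d).1 hd), fun b d hd => by
      rw [s1 α, s1 α j]; exact b _ ((hD α a d).2 hd)⟩
  obtain ⟨i0, j0, r0, n0⟩ : ∃ i j, r i j ∧ i ≠ j := by
    by_contra! c
    exact h0 (scott hT h c)
  let E : Subgroup (ι → T) :=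
    { carrier := {x | ∀ i j, r i j → ∃ d ∈ D, d i = x i ∧ d j = x j}
      one_mem' := fun _ _ _ => ⟨1, one_mem _, rfl, rfl⟩
      mul_mem' := fun a b i j c => by
        obtain ⟨d, d1, d2, d3⟩ := a i j c
        obtain ⟨e, e1, e2, e3⟩ := b i j c
        exact ⟨d * e, mul_mem d1 e1, by simp [d2, e2], by simp [d3, e3]⟩
      inv_mem' := fun a i j c => by
        obtain ⟨d, d1, d2, d3⟩ := a i j c
        exact ⟨d⁻¹, inv_mem d1, by simp [d2], by simp [d3]⟩ }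
  have hE : E = D := (hmax E (fun d hd _ _ _ => ⟨d, hd, rfl, rfl⟩) fun α a x hx i j c => by
    obtain ⟨i, rfl⟩ := (σ α).surjective i
    obtain ⟨j, rfl⟩ := (σ α).surjective j
    obtain ⟨d, d1, d2, d3⟩ := hx i j ((rσ α a i j).2 c)
    exact ⟨α d, (hD α a d).2 d1, s2 α _ _ _ d2, s2 α _ _ _ d3⟩).resolve_right fun e => by
      have : (Pi.mulSingle i0 t : ι → T) ∈ E := by rw [e]; trivial
      obtain ⟨d, d1, d2, d3⟩ := this i0 j0 r0
      have := (r0 d d1).2 (by simpa [n0.symm] using d3)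
      exact ht (by simpa [this] using d2.symm)
  let c : ι → ι := fun i => (Quotient.mk r i).out
  have c1 : ∀ i, r i (c i) := fun i => r.symm (Quotient.mk_out (s := r) i)
  have c2 : ∀ i j, c i = c j ↔ r i j := fun i j => Quotient.out_inj.trans Quotient.eq
  choose ψ hψ using fun i => psi h (c1 i)
  have nn : ∀ i, Nat.card {j // r j i} = Nat.card {j // r j i0} :=
    tr {i | Nat.card {j // r j i} = Nat.card {j // r j i0}} (fun α a i hi =>
      (Nat.card_congr ((σ α).subtypeEquiv fun j => rσ α a j i)).trans hi) ⟨i0, rfl⟩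
  refine Or.inr ⟨ψ, Nat.card {j // r j i0}, c, Finite.one_lt_card_iff_nontrivial.2
    ⟨⟨i0, r.refl _⟩, ⟨j0, r.symm r0⟩, fun e => n0 (congrArg Subtype.val e)⟩, fun j => ?_, fun x =>
    ⟨fun hx i j e => by rw [hψ i x hx, hψ j x hx, e], fun hx => hE ▸ fun i j e => ?_⟩⟩
  · by_cases b : ∃ i, c i = j
    · obtain ⟨i, rfl⟩ := b
      exact Or.inl ((Nat.card_congr (Equiv.subtypeEquivRight fun l => c2 l i)).trans (nn i))
    · haveI : IsEmpty {i // c i = j} := ⟨fun i => b ⟨i.1, i.2⟩⟩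
      exact Or.inr Nat.card_of_isEmpty
  · obtain ⟨d, d1, d2⟩ := h i (x i)
    refine ⟨d, d1, d2, (ψ j).injective ?_⟩
    rw [hψ j d d1, ← (c2 i j).2 e, ← hψ i d d1, d2, hx i j ((c2 i j).2 e)]

end CfsgScott
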