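import Cfsg.Agent.S0721
import Cfsg.Agent.H3.Burnside
import Cfsg.Agent.H9.Scott
import Cfsg.Agent.H1.Misc1
import Cfsg.Agent.H1.Basic

/-! Derangements in primitive groups with a nonabelian minimal normal subgroup. -/

set_option autoImplicit false
open Subgroup MulAction Function

namespace CfsgScott

theorem third {T : Type*} [Group T] [Finite T] [IsSimpleGroup T] (hT : ¬ IsMulCommutative T) {p q : ℕ}
    (hp : p.Prime) (hq : q.Prime) : ∃ t : T, (orderOf t).Prime ∧ orderOf t ≠ p ∧ orderOf t ≠ q := by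
  obtain ⟨r, h1, h2, h3, h4⟩ : ∃ r : ℕ, r.Prime ∧ r ∣ Nat.card T ∧ r ≠ p ∧ r ≠ q := by
    by_contra! h
    refine hT ⟨⟨IsSimpleGroup.comm_iff_isSolvable.2 (CfsgH3.burnside_paqb p q (Nat.card T) (Nat.card T)
      hp hq ((Nat.dvd_iff_prime_pow_dvd_dvd _ _).2 fun r k hr hk => ?_))⟩⟩
    rcases k with _ | k
    · simp
    have l : k + 1 ≤ Nat.card T := (Nat.lt_pow_self hr.one_lt).le.trans (Nat.le_of_dvd Nat.card_pos hk)
    by_cases e : r = p
    · rw [← e]; exact (pow_dvd_pow r l).mul_right _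
    · rw [← h r hr ((dvd_pow_self r k.succ_ne_zero).trans hk) e]; exact (pow_dvd_pow r l).mul_left _
  haveI := Fact.mk h1
  obtain ⟨s, rfl⟩ := exists_prime_orderOf_dvd_card' r h2
  exact ⟨s, h1, h3, h4⟩

variable {G Ω : Type*} [Group G] [Finite G] [MulAction G Ω] [FaithfulSMul G Ω] [Finite Ω] [Nontrivial Ω]

omit [Finite G] [Finite Ω] [Nontrivial Ω] in
theorem ntr (hprim : IsPreprimitive G Ω) (M : Subgroup G) [M.Normal] (h : M ≠ ⊥) : IsPretransitive M Ω :=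
  hprim.isQuasiPreprimitive.isPretransitive_of_normal fun e => h (eq_bot_iff.2 fun x hx =>
    mem_bot.2 (eq_of_smul_eq_smul (α := Ω) fun ω => by
      rw [one_smul]; exact (e ▸ Set.mem_univ ω : ω ∈ fixedPoints M Ω) ⟨x, hx⟩))

omit [Finite G] [Finite Ω] [Nontrivial Ω] in
theorem reg (hprim : IsPreprimitive G Ω) (M : Subgroup G) [M.Normal] (h : M ≠ ⊥) {n : G}
    (hn : ∀ u ∈ M, n * u = u * n) (c : Ω) (hc : n • c = c) : n = 1 :=
  eq_of_smul_eq_smul (α := Ω) fun ω => by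
    obtain ⟨u, rfl⟩ := (ntr hprim M h).exists_smul_eq c ω
    change n • (u : G) • c = (1 : G) • (u : G) • c
    rw [one_smul, ← mul_smul, hn u u.2, mul_smul, hc]

omit [Finite Ω] in
theorem ons (hprim : IsPreprimitive G Ω) (N : Subgroup G) [nN : N.Normal] (hN : N ≠ ⊥)
    (hmin : ∀ M : Subgroup G, M.Normal → M ≤ N → M = ⊥ ∨ M = N) (hnab : ¬ IsMulCommutative N)
    (hnas : ¬ (IsSimpleGroup N ∧ centralizer (N : Set G) = ⊥)) :
    ∃ (T : Type) (_ : Group T) (_ : Finite T) (d : T → G), IsSimpleGroup T ∧ ¬ IsMulCommutative T ∧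
      (∀ t ≠ 1, ∀ ω : Ω, d t • ω ≠ ω) ∧ (∀ t, orderOf t ∣ orderOf (d t)) ∧
      ∀ s t, IsConj (d s) (d t) → orderOf s = orderOf t := by
  classical
  obtain ⟨a⟩ : Nonempty Ω := inferInstance
  have tN : ∀ b c : Ω, ∃ u ∈ N, u • b = c := fun b c =>
    let ⟨u, hu⟩ := (ntr hprim N hN).exists_smul_eq b c; ⟨u, u.2, hu⟩
  obtain ⟨T, _, m, hT, hm, ⟨e⟩⟩ := Cfsg.Agent.S0721.result N hN hmin
  have hab : ¬ IsMulCommutative T := fun h => hnab ⟨⟨fun x y => e.injective (by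
    rw [map_mul, map_mul]; exact funext fun i => h.1.1 _ _)⟩⟩
  haveI : Nonempty (Fin m) := ⟨⟨0, hm⟩⟩
  haveI : Finite (Fin m → T) := Finite.of_equiv _ e.toEquiv
  haveI : Finite T := Finite.of_surjective (fun x : Fin m → T => x ⟨0, hm⟩) fun t => ⟨fun _ => t, rfl⟩
  let φ : G → (Fin m → T) ≃* (Fin m → T) := fun k => e.symm.trans ((MulAut.conjNormal k).trans e)
  have hφ : ∀ k n, φ k (e n) = e (MulAut.conjNormal k n) := fun k n => by simp [φ]
  have cj : ∀ x x', IsConj (e.symm x : G) (e.symm x') → ∃ k, φ k x = x' := by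
    intro x x' h
    obtain ⟨n, rfl⟩ := e.surjective x
    obtain ⟨n', rfl⟩ := e.surjective x'
    rw [e.symm_apply_apply, e.symm_apply_apply] at h
    obtain ⟨k, hk⟩ := isConj_iff.1 h
    exact ⟨k, by rw [hφ]; exact congrArg e (Subtype.ext hk)⟩
  have O0 : ∀ x, orderOf (e.symm x : G) = orderOf x := fun x => by
    rw [orderOf_coe, e.symm.orderOf_eq]
  have O : ∀ i (t : T), orderOf (Pi.mulSingle i t : Fin m → T) = orderOf t := fun i t =>
    orderOf_injective (MonoidHom.mulSingle (fun _ => T) i) (Pi.mulSingle_injective (M := fun _ => T) i) t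
  have fin : ∀ i, (∀ t : T, t ≠ 1 → ∀ ω : Ω, (e.symm (Pi.mulSingle i t) : G) • ω ≠ ω) →
      ∃ (T : Type) (_ : Group T) (_ : Finite T) (d : T → G), IsSimpleGroup T ∧ ¬ IsMulCommutative T ∧
      (∀ t ≠ 1, ∀ ω : Ω, d t • ω ≠ ω) ∧ (∀ t, orderOf t ∣ orderOf (d t)) ∧
      ∀ s t, IsConj (d s) (d t) → orderOf s = orderOf t := fun i h =>
    ⟨T, _, ‹_›, fun t => e.symm (Pi.mulSingle i t), hT, hab, h, fun t => by rw [O0, O], fun s t c => by
      obtain ⟨k, hk⟩ := cj _ _ c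
      rw [← O i, ← (φ k).orderOf_eq, hk, O]⟩
  by_cases hC : centralizer (N : Set G) = ⊥
  swap
  · refine fin ⟨0, hm⟩ fun t ht ω h => ht ?_
    have := reg hprim _ hC (fun u hu => hu _ (e.symm (Pi.mulSingle ⟨0, hm⟩ t)).2) ω h
    rw [← orderOf_eq_one_iff, ← O ⟨0, hm⟩, ← O0, this, orderOf_one]
  obtain ⟨i0, j0, ij⟩ : ∃ i j : Fin m, i ≠ j := by
    by_contra! z
    haveI : Unique (Fin m) := ⟨⟨⟨0, hm⟩⟩, fun _ => z _ _⟩
    exact hnas ⟨(e.trans (MulEquiv.funUnique _ _)).isSimpleGroup, hC⟩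
  have hco := IsPreprimitive.isCoatom_stabilizer_of_isPreprimitive G a
  set K := stabilizer G a with hK
  have S2 : ∀ X ≤ N, K ⊓ N ≤ X → K ≤ normalizer (X : Set G) → X = K ⊓ N ∨ X = N := by
    intro X hX hKX hinv
    by_cases hXK : X ≤ K
    · exact Or.inl (le_antisymm (le_inf hXK hX) hKX)
    refine Or.inr (le_antisymm hX fun n hn => ?_)
    have hmem : n ∈ ((K ⊔ X : Subgroup G) : Set G) := by rw [hco.2 _ (left_lt_sup.2 hXK)]; trivial
    rw [coe_mul_of_left_le_normalizer_right K X hinv] at hmem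
    obtain ⟨k, hk, x, hx, rfl⟩ := hmem
    exact X.mul_mem (hKX ⟨hk, (mul_mem_cancel_right (hX hx)).1 hn⟩) hx
  have hNK : ¬ N ≤ K := fun h => by
    obtain ⟨b, hb⟩ := exists_ne a
    obtain ⟨u, hu, rfl⟩ := tN a b
    exact hb (h hu)
  have htop : K ⊔ N = ⊤ := hco.2 _ (left_lt_sup.2 hNK)
  let D : Subgroup (Fin m → T) := (K.subgroupOf N).comap e.symm.toMonoidHom
  have hD : ∀ n : N, e n ∈ D ↔ (n : G) ∈ K := fun n => by
    simp [D, mem_subgroupOf]
  let X : Subgroup (Fin m → T) → Subgroup G := fun E => (E.comap e.toMonoidHom).map N.subtype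
  have hX : ∀ E (n : N), (n : G) ∈ X E ↔ e n ∈ E := fun E n =>
    ⟨fun ⟨l, a, b⟩ => (Subtype.ext b : l = n) ▸ a, fun h => ⟨n, h, rfl⟩⟩
  have XN : ∀ E, X E ≤ N := fun E => map_subtype_le _
  have Xn : ∀ E (L : Subgroup G), (∀ k ∈ L, ∀ x ∈ E, φ k x ∈ E) → L ≤ normalizer (X E : Set G) := by
    intro E L h
    have A : ∀ k ∈ L, ∀ x ∈ X E, k * x * k⁻¹ ∈ X E := fun k hk x hx => by
      have := h k hk _ ((hX E ⟨x, XN E hx⟩).1 hx)
      rw [hφ] at this
      exact (hX E _).2 this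
    exact fun k hk => mem_normalizer_iff.2 fun x => ⟨A k hk x, fun b => by
      simpa [mul_assoc] using A k⁻¹ (inv_mem hk) _ b⟩
  have Xt : ∀ E, X E = N → E = ⊤ := fun E h => eq_top_iff.2 fun x _ => by
    obtain ⟨n, rfl⟩ := e.surjective x
    exact (hX E n).1 (h.ge n.2)
  have der : ∀ x, (∀ y, y⁻¹ * x * y ∉ D) → ∀ ω : Ω, (e.symm x : G) • ω ≠ ω := fun x h ω z => by
    obtain ⟨n, rfl⟩ := e.surjective x
    rw [e.symm_apply_apply] at z
    obtain ⟨u, hu, rfl⟩ := tN a ω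
    refine h (e ⟨u, hu⟩) ?_
    rw [← map_inv, ← map_mul, ← map_mul, hD, mem_stabilizer_iff]
    simp [mul_smul, z]
  rcases CfsgScott.main hab (D := D) (φ '' K) (by
      rintro _ ⟨k, hk, rfl⟩ x
      obtain ⟨n, rfl⟩ := e.surjective x
      rw [hφ, hD, hD, MulAut.conjNormal_apply]
      exact ⟨fun h => by simpa [mul_assoc] using mul_mem (mul_mem (inv_mem hk) h) hk,
        fun h => mul_mem (mul_mem hk h) (inv_mem hk)⟩)
    (fun h => hNK fun n hn => (hD ⟨n, hn⟩).1 (h ▸ mem_top _))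
    (fun E h1 h2 => (S2 (X E) (XN E) (fun n hn => (hX E ⟨n, hn.2⟩).2 (h1 ((hD ⟨n, hn.2⟩).2 hn.1)))
      (Xn E K fun k hk => h2 _ ⟨k, hk, rfl⟩)).imp (fun h => le_antisymm (fun x hx => by
        obtain ⟨n, rfl⟩ := e.surjective x
        exact (hD n).2 (h.le ((hX E n).2 hx)).1) h1) (Xt E))
    (fun M h1 h2 => (hmin (X M) (normalizer_eq_top_iff.1 (eq_top_iff.2 (htop.ge.trans (sup_le
      (Xn M K fun k hk => h2 _ ⟨k, hk, rfl⟩) (Xn M N fun k hk x hx => by
        obtain ⟨n, rfl⟩ := e.surjective x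
        have : MulAut.conjNormal k n = ⟨k, hk⟩ * n * (⟨k, hk⟩ : N)⁻¹ := Subtype.ext (by simp)
        rw [hφ, this, map_mul, map_mul, map_inv]
        exact h1.conj_mem _ hx _))))) (XN M)).imp (fun h => eq_bot_iff.2 fun x hx => by
        obtain ⟨n, rfl⟩ := e.surjective x
        have : n = 1 := Subtype.ext (mem_bot.1 (h.le ((hX M n).2 hx)))
        simp [this]) (Xt M)) with ⟨L, a1, a2⟩ | ⟨ψ, k, c, a1, a2, a3⟩
  · haveI : Nontrivial (T ⧸ L i0) := Finite.one_lt_card_iff_nontrivial.1 (one_lt_index_of_ne_top (a1 i0))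
    obtain ⟨t0, ht⟩ := CfsgH1.exists_derangement T (T ⧸ L i0)
    let x : T → Fin m → T := fun t => Pi.mulSingle i0 t0 * Pi.mulSingle j0 t
    have x1 : ∀ t, x t i0 = t0 := fun t => by simp [x, ij]
    have x2 : ∀ t, x t j0 = t := fun t => by simp [x, ij.symm]
    have x3 : ∀ t, ∏ i, orderOf (x t i) = orderOf t0 * orderOf t := fun t => by
      rw [Fintype.prod_eq_mul i0 j0 ij fun l hl => by simp [x, hl.1, hl.2], x1, x2]
    refine ⟨T, _, ‹_›, fun t => e.symm (x t), hT, hab, fun t _ => der _ fun y hy =>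
      ht (y i0 : T ⧸ L i0) (QuotientGroup.eq.2 ?_).symm, fun t => ?_, fun s t c => ?_⟩
    · simpa [mul_assoc, x1] using (a2 _).1 hy i0
    · rw [O0]
      have := orderOf_map_dvd (Pi.evalMonoidHom (fun _ => T) j0) (x t)
      rwa [Pi.evalMonoidHom_apply, x2] at this
    · obtain ⟨k, hk⟩ := cj _ _ c
      obtain ⟨σ, s1, -⟩ := CfsgScott.perm' hab (φ k)
      refine Nat.eq_of_mul_eq_mul_left (orderOf_pos t0) ?_
      rw [← x3, ← x3, ← hk, ← σ.prod_comp fun i => orderOf (φ k (x s) i)]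
      refine Finset.prod_congr rfl fun i _ => orderOf_eq_orderOf_iff.2 fun n => ?_
      rw [← Pi.pow_apply, s1, map_pow, Pi.pow_apply]
  · haveI : Nontrivial {i // c i = c i0} := Finite.one_lt_card_iff_nontrivial.1 (by
      haveI : Nonempty {i // c i = c i0} := ⟨⟨i0, rfl⟩⟩
      have := a2 (c i0)
      have := Nat.card_pos (α := {i // c i = c i0})
      omega)
    obtain ⟨⟨j, hj⟩, hj'⟩ := exists_ne (⟨i0, rfl⟩ : {i // c i = c i0})
    have ji : j ≠ i0 := fun z => hj' (Subtype.ext z)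
    exact fin i0 fun t ht => der _ fun y hy => ht (by
      have := (ψ i0).injective ((((a3 _).1 hy j i0 hj).symm.trans (by simp [ji])).trans (map_one _).symm)
      simpa [mul_assoc, inv_mul_eq_one] using this)

end CfsgScott
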