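import Cfsg.Agent.H2.BG0
import Cfsg.Agent.H4.G2
import Cfsg.Agent.H5.Dihed
import Cfsg.Agent.H9.Resid
import Cfsg.Agent.S0228

/-! Groups whose `p`-by-cyclic subgroups are restricted. -/

namespace CfsgPB
open Subgroup Cfsg CfsgH2 Function
open scoped commutatorElement

variable {G : Type*} [Group G] [Finite G] {p : ℕ}

theorem fwd [hp : Fact p.Prime] {C : Subgroup G → Prop}
    (h : ∀ H : Subgroup G, (∀ S : Sylow p ↥H, (S : Subgroup ↥H).Normal) →
      (∀ (S : Sylow p ↥H) [(S : Subgroup ↥H).Normal], IsCyclic (↥H ⧸ (S : Subgroup ↥H))) → C H)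
    {S : Subgroup G} {x : G} (hS : PG[p, S]) (hx : x ∈ N[S]) : C (S ⊔ zpowers x) := by
  have hz : zpowers x ≤ N[S] := zpowers_le.2 hx
  have hn : S ⊔ zpowers x ≤ N[S] := sup_le le_normalizer hz
  have hxH : x ∈ S ⊔ zpowers x := mem_sup_right (mem_zpowers x)
  have hc : ⁅S ⊔ zpowers x, S ⊔ zpowers x⁆ ≤ S := by
    rw [← isMulComm_qt_iff hn, qt_self_sup hz]
    haveI := isCyclic_qt (K := S) (inferInstance : IsCyclic (zpowers x))
    infer_instance
  have hle : ∀ T : Sylow p (S ⊔ zpowers x : Subgroup G),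
      S ≤ (T : Subgroup _).map (S ⊔ zpowers x : Subgroup G).subtype := fun T =>
    (syl_sub T).le_of_norm hS le_sup_left ((map_subtype_le _).trans hn)
  refine h _ (fun T => ?_) (fun T _ => ⟨⟨QuotientGroup.mk ⟨x, hxH⟩, fun y => ?_⟩⟩)
  · have := (normal_subgroupOf_iff' (map_subtype_le (T : Subgroup _))).2
      (le_norm_of_commutator_le (hc.trans (hle T)) (map_subtype_le _))
    rwa [subgroupOf, comap_map_eq_self_of_injective (subtype_injective _)] at this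
  · obtain ⟨y, rfl⟩ := QuotientGroup.mk_surjective y
    obtain ⟨s, hs, _, ⟨k, rfl⟩, e⟩ := (mem_sup_of_norm' hz).1 y.2
    refine ⟨k, ?_⟩
    dsimp only at e ⊢
    rw [← QuotientGroup.mk_zpow, QuotientGroup.eq]
    obtain ⟨t, ht, e2⟩ := hle T (conj_mem_of_norm' (zpow_mem hx k) hs)
    have : (⟨x, hxH⟩ ^ k)⁻¹ * y = t := by
      apply Subtype.ext
      change (x ^ k)⁻¹ * (y : G) = (t : G)
      rw [← e, ← mul_assoc]; exact e2.symm
    rw [this]; exact ht

theorem bwd [hp : Fact p.Prime] {C : Subgroup G → Prop} (P : Sylow p G)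
    (hC : ∀ (H : Subgroup G) (g : G), C (H.map (cj g)) → C H)
    (h : ∀ (S : Subgroup G) (x : G), S ≤ P → x ∈ N[S] → (orderOf x).Coprime p → C (S ⊔ zpowers x))
    (H : Subgroup G) (h1 : ∀ S : Sylow p ↥H, (S : Subgroup ↥H).Normal)
    (h2 : ∀ (S : Sylow p ↥H) [(S : Subgroup ↥H).Normal], IsCyclic (↥H ⧸ (S : Subgroup ↥H))) :
    C H := by
  obtain ⟨T⟩ : Nonempty (Sylow p H) := inferInstance
  haveI := h1 T
  obtain ⟨y, hy⟩ := (h2 T).exists_zpow_surjective
  obtain ⟨y, rfl⟩ := QuotientGroup.mk_surjective y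
  have hS := syl_sub T
  have hn := le_norm_map_subtype (T : Subgroup H)
  set S := (T : Subgroup H).map H.subtype
  obtain ⟨a, ha, x, hx, e, ⟨k, hk⟩, hc⟩ := CfsgH9.exists_decomp (p := p) (y : G)
  have hy' : zpowers (y : G) ≤ H := zpowers_le.2 y.2
  have haS : a ∈ S := hS.mem_of_norm hn (hy' ha) (k := k) (by rw [← hk, pow_orderOf_eq_one])
  have hH : H = S ⊔ zpowers x := by
    refine le_antisymm (fun z hz => ?_) (sup_le hS.le (zpowers_le.2 (hy' hx)))
    obtain ⟨m, hm⟩ := hy (QuotientGroup.mk ⟨z, hz⟩)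
    dsimp only at hm
    rw [← QuotientGroup.mk_zpow, QuotientGroup.eq] at hm
    have h3 : ((y : G) ^ m)⁻¹ * z ∈ S := ⟨_, hm, rfl⟩
    have h4 : (y : G) ∈ S ⊔ zpowers x := by
      rw [e]; exact mul_mem (mem_sup_left haS) (mem_sup_right (mem_zpowers x))
    have := mul_mem (zpow_mem h4 m) (mem_sup_left (T := zpowers x) h3)
    rwa [mul_inv_cancel_left] at this
  obtain ⟨g, -, hg⟩ := (syl_top P).exists_conj_le hS.pg le_top
  refine hC H g ?_
  rw [hH, Subgroup.map_sup, MonoidHom.map_zpowers]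
  refine h _ _ hg ?_ ?_
  · rw [normalizer_map_cj]; exact mem_map_of_mem _ (hn (hy' hx))
  · rwa [orderOf_injective _ (cj_injective g)]

omit [Finite G] in
theorem dih_amb {S : Subgroup G} {n : ℕ} (hn : n ≠ 0) (e : S ≃* DihedralGroup n) :
    ∃ r ∈ S, orderOf r = n ∧ o[S] = 2 * n ∧
      ∀ y ∈ S, y ∉ zpowers r → y ^ 2 = 1 ∧ ∀ z ∈ zpowers r, y * z * y⁻¹ = z⁻¹ := by
  haveI : NeZero n := ⟨hn⟩
  set r := e.symm (DihedralGroup.r 1)
  have ho : orderOf (r : G) = n := by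
    rw [Subgroup.orderOf_coe, MulEquiv.orderOf_eq, DihedralGroup.orderOf_r_one]
  have hr : ∀ i, ((e.symm (DihedralGroup.r i) : S) : G) ∈ zpowers (r : G) := fun i => by
    obtain ⟨k, rfl⟩ := ZMod.natCast_zmod_surjective i
    rw [← DihedralGroup.r_one_pow, map_pow]
    exact pow_mem (mem_zpowers _) _
  refine ⟨r, r.2, ho, by rw [Nat.card_congr e.toEquiv, DihedralGroup.nat_card], fun y hy h => ?_⟩
  rcases he : e ⟨y, hy⟩ with i | i
  · exact absurd (by have := hr i; rwa [← he, MulEquiv.symm_apply_apply] at this) h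
  · have e1 : (⟨y, hy⟩ : S) ^ 2 = 1 := e.injective (by rw [map_pow, he, pow_two]; simp)
    have e2 : (⟨y, hy⟩ : S) * r * (⟨y, hy⟩ : S)⁻¹ = r⁻¹ := e.injective (by simp [he, r])
    refine ⟨congrArg Subtype.val e1, ?_⟩
    rintro _ ⟨k, rfl⟩
    have e3 : y * r * y⁻¹ = (r : G)⁻¹ := congrArg Subtype.val e2
    dsimp only
    rw [← conj_zpow, e3, inv_zpow]

omit [Finite G] in
theorem dih_of {H : Subgroup G} {a s : G} (ha : a ∈ H) (hs : s ∈ H) (h1 : s ^ 2 = 1)
    (h2 : s * a * s⁻¹ = a⁻¹) (hn : s ∉ zpowers a)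
    (hgen : ∀ g ∈ H, g ∈ zpowers a ∨ s * g ∈ zpowers a) :
    Nonempty (H ≃* DihedralGroup (orderOf a)) := by
  have key : ∀ g : H, (g : G) ∈ zpowers a → g ∈ zpowers (⟨a, ha⟩ : H) := by
    rintro g ⟨k, hk⟩
    exact ⟨k, Subtype.ext hk⟩
  rw [pow_two] at h1
  refine CfsgH5.nonempty_dihedral (a := (⟨a, ha⟩ : H)) (s := ⟨s, hs⟩) (orderOf_mk _ _)
    (Subtype.ext h1) (Subtype.ext ?_) ?_ fun g => ?_
  · change s * a * s = a⁻¹
    rwa [inv_eq_of_mul_eq_one_right h1] at h2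
  · rintro ⟨k, hk⟩
    exact hn ⟨k, congrArg Subtype.val hk⟩
  · exact (hgen g g.2).imp (key g) (key (⟨s, hs⟩ * g))

theorem cyc_of_cent [hp : Fact p.Prime] {S : Subgroup G} {x : G} (hS : PG[p, S]) (hc : Cyc[S])
    (hx : x ∈ C[S]) (ho : (orderOf x).Coprime p) : Cyc[S ⊔ zpowers x] := by
  refine cyc_sup_of_coprime hc inferInstance (le_centralizer_iff.1 (zpowers_le.2 hx)) ?_
  rw [Nat.card_zpowers]
  exact coprime_of_pgroup hS ((coprime_iff_not_dvd hp.out).1 ho)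

omit [Finite G] in
theorem exists_gen {S : Subgroup G} (hc : Cyc[S]) : ∃ a, S = zpowers a := by
  obtain ⟨a, ha⟩ := (isCyclic_iff_exists_zpowers_eq_top).1 hc
  refine ⟨a, ?_⟩
  have := congrArg (map S.subtype) ha
  rw [MonoidHom.map_zpowers, ← MonoidHom.range_eq_map, range_subtype] at this
  exact this.symm

omit [Finite G] in
theorem cyc_le {H K : Subgroup G} (h : Cyc[K]) (hl : H ≤ K) : Cyc[H] :=
  isCyclic_of_surjective _ (subgroupOfEquivOfLe hl).surjective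

end CfsgPB
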