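import Cfsg.Agent.H9.SSF2

/-! The solvable signalizer functor theorem in the presence of a stable prime. -/

set_option autoImplicit false

namespace CfsgH9

open Subgroup Cfsg

universe u

variable {G : Type*} [Group G] {p q : ℕ} {A B D K M N S U X Y Z : Subgroup G} {θ : G → Subgroup G}

/-- the join of the `q'`-subgroups of `M` normalized by `A` and `D`. -/
def qinv (q : ℕ) (A D M : Subgroup G) : Subgroup G :=
  sSup {X | X ≤ M ∧ (Nat.card X).Coprime q ∧ A ≤ normalizer (X : Set G) ∧ D ≤ normalizer (X : Set G)}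

/-- the join of the cores `O_{q'}(θ b)`, `b ∈ B^#`. -/
def EB (q : ℕ) (θ : G → Subgroup G) (B : Subgroup G) : Subgroup G :=
  sSup {X | ∃ b ∈ B, b ≠ 1 ∧ X = Opp q (θ b)}

theorem qinv_le : qinv q A D M ≤ M := sSup_le fun _ h => h.1

theorem le_normalizer_qinv : A ⊔ D ≤ normalizer (qinv q A D M : Set G) :=
  le_normalizer_sSup fun g hg X hX => by
    rw [cj_eq_of_mem_normalizer (sup_le hX.2.2.1 hX.2.2.2 hg)]; exact le_sSup hX

theorem le_EB {b : G} (h1 : b ∈ B) (h2 : b ≠ 1) : Opp q (θ b) ≤ EB q θ B := le_sSup ⟨b, h1, h2, rfl⟩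

theorem EB_le (h : ∀ b ∈ B, b ≠ 1 → Opp q (θ b) ≤ K) : EB q θ B ≤ K :=
  sSup_le fun _ ⟨b, h1, h2, e⟩ => e ▸ h b h1 h2

theorem le_normalizer_EB (h : ∀ b ∈ B, b ≠ 1 → X ≤ normalizer (θ b : Set G)) :
    X ≤ normalizer (EB q θ B : Set G) :=
  le_normalizer_sSup fun g hg Y ⟨b, h1, h2, e⟩ => by
    rw [e, cj_eq_of_mem_normalizer (le_normalizer_Opp (h b h1 h2) hg)]; exact le_EB h1 h2

theorem Mem.le_normalizer_EB (h : Mem p A θ U) (hB : B ≤ A) :
    U ⊓ centralizer (B : Set G) ≤ normalizer (EB q θ B : Set G) :=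
  CfsgH9.le_normalizer_EB fun _ h1 h2 =>
    ((h.inf_centralizer_le hB).trans (signalizerInf_le h1 h2)).trans le_normalizer

/-- the stabilizer of the set `ZK` under right multiplication. -/
theorem fac_of_gen (h : ∀ D : Subgroup G, (∀ Y ≤ Z, (∃ X, CfsgH1.Fac (K ⊓ normalizer (Z : Set G)) X K ∧
    Y ≤ normalizer (X : Set G)) → Y ≤ D) → Z ≤ D) : CfsgH1.Fac Z K (Z ⊔ K) := by
  let R : Subgroup G :=
    { carrier := {g | ∀ w, (∃ z ∈ Z, ∃ k ∈ K, w = z * k) ↔ ∃ z ∈ Z, ∃ k ∈ K, w * g = z * k}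
      one_mem' := fun w => by rw [mul_one]
      mul_mem' := fun {a b} ha hb w => by rw [ha w, hb (w * a), mul_assoc]
      inv_mem' := fun {a} ha w => by rw [ha (w * a⁻¹), inv_mul_cancel_right] }
  have key : ∀ Y : Subgroup G, (∀ y ∈ Y, ∀ k ∈ K, ∃ z ∈ Z, ∃ k' ∈ K, k * y = z * k') → Y ≤ R := by
    intro Y hY y hy w
    have : ∀ y ∈ Y, ∀ w, (∃ z ∈ Z, ∃ k ∈ K, w = z * k) → ∃ z ∈ Z, ∃ k ∈ K, w * y = z * k := by
      rintro y hy _ ⟨z, hz, k, hk, rfl⟩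
      obtain ⟨z', h1, k', h2, e⟩ := hY y hy k hk
      exact ⟨z * z', mul_mem hz h1, k', h2, by rw [mul_assoc, e, mul_assoc]⟩
    exact ⟨this y hy w, fun e => by simpa using this _ (inv_mem hy) _ e⟩
  have h1 : Z ⊔ K ≤ R := sup_le (h R fun Y hY ⟨X, f, hn⟩ => key Y fun y hy k hk => by
    obtain ⟨n, h1, x, h2, rfl⟩ := f.2.2 k hk
    exact ⟨n * y * n⁻¹, (mem_normalizer_iff.1 h1.2 y).1 (hY hy), n * (y⁻¹ * x * y⁻¹⁻¹),
      mul_mem h1.1 (f.2.1 ((mem_normalizer_iff.1 (hn (inv_mem hy)) x).1 h2)), by group⟩)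
    (key K fun y hy k hk => ⟨1, one_mem _, k * y, mul_mem hk hy, by rw [one_mul]⟩)
  exact ⟨le_sup_left, le_sup_right, fun g hg => by
    simpa using (h1 hg 1).1 ⟨1, one_mem _, 1, one_mem _, by simp⟩⟩

variable [Finite G] [hq : Fact q.Prime]

theorem qinv_coprime (hs : Group.IsSolvable M) (hA : A ≤ normalizer (M : Set G))
    (hc : (Nat.card A).Coprime (Nat.card M)) (hD : M ⊓ centralizer (A : Set G) ≤ D) :
    (Nat.card (qinv q A D M)).Coprime q := by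
  have sp := CfsgH1.hallSep_of_isSolvable (G := M) {q}ᶜ
  obtain ⟨H, h1, h2⟩ := CfsgH1.coprime_exists_invariant_hall hA hc (.inr hs) sp
  refine coprime_of_le (sSup_le ?_) ((CfsgH1.PiNum.compl_singleton_iff hq.out).1 h1.piNum)
  rintro X ⟨a1, a2, a3, a4⟩
  obtain ⟨H', b1, b2, b3⟩ := CfsgH1.coprime_invariant_le_invariant_hall (π := {q}ᶜ) hA hc a1
    ((CfsgH1.PiNum.compl_singleton_iff hq.out).2 a2) a3
  obtain ⟨c, c1, c2⟩ := CfsgH1.coprime_invariant_hall_conj hA hc (.inr hs) sp b1 h1 b2 h2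
  rw [← cj_eq_of_mem_normalizer (a4 (hD c1)), ← c2]
  exact cj_mono c b3

theorem solvable_of_ZK' (hZ : ⁅Z, Z⁆ = ⊥) (pZ : IsPGroup q Z) (cK : (Nat.card K).Coprime q)
    (sK : Group.IsSolvable K) (h5 : 5 ≤ q ∨ q ≠ 2 ∧ (Nat.card K).Coprime 2)
    (h : ∀ D : Subgroup G, (∀ Y ≤ Z, (∃ X, CfsgH1.Fac (K ⊓ normalizer (Z : Set G)) X K ∧
      Y ≤ normalizer (X : Set G)) → Y ≤ D) → Z ≤ D) : Group.IsSolvable (Z ⊔ K : Subgroup G) := by
  have z : Z ≤ Z ⊔ K := le_sup_left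
  have k : K ≤ Z ⊔ K := le_sup_right
  have := solvable_of_ZK (q := q) (Z := Z.subgroupOf (Z ⊔ K)) (K := K.subgroupOf (Z ⊔ K))
    (by rw [commutator_subgroupOf z z, hZ, bot_subgroupOf]) (pZ.comap_subtype)
    (by rwa [card_subgroupOf_of_le k]) ((isSolvable_subgroupOf k).2 sK)
    (fac_of_gen h).subgroupOf_top (by rwa [card_subgroupOf_of_le k]) fun D hD => by
      have := h (D.map (Z ⊔ K).subtype) fun Y hY ⟨X, f, hn⟩ => by
        rw [← map_subgroupOf_eq_of_le (hY.trans z)]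
        refine map_mono (hD _ (comap_mono hY) ⟨X.subgroupOf _, (f.subgroupOf k).mono ?_ le_rfl
          inf_le_left (comap_mono f.2.1), (comap_mono hn).trans (le_normalizer_comap _)⟩)
        exact le_inf (comap_mono inf_le_left) ((comap_mono inf_le_right).trans (le_normalizer_comap _))
      exact (map_le_map_iff_of_injective (subtype_injective _)).1
        ((map_subgroupOf_eq_of_le z).le.trans this)
  exact (isSolvable_subgroupOf le_rfl).1 (by rwa [subgroupOf_self])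

variable [hp : Fact p.Prime]

theorem LC.exists_K (h : LC p A θ) (hd : ∃ a ∈ A, a ≠ 1 ∧ ¬ (Nat.card (θ a)).Coprime q) :
    ∃ K, Mem p A θ K ∧ (Nat.card K).Coprime q ∧ ∀ a ∈ A, a ≠ 1 →
      qinv q A (signalizerInf A θ) (θ a) ≤ K := by
  have hA := ea_isPGroup h.sf.ea
  have c : ∀ a ∈ A, a ≠ 1 → (Nat.card (qinv q A (signalizerInf A θ) (θ a))).Coprime q :=
    fun a h1 h2 => qinv_coprime (h.sf.sol a h1 h2) (h.sf.inv a h1 h2) ((h.sf.mem h1 h2).coprime hA)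
      ((h.sf.mem h1 h2).inf_centralizer_le le_rfl)
  obtain ⟨K, h1, h2⟩ := h.sub (fun a => qinv q A (signalizerInf A θ) (θ a)) ⟨h.sf.ea,
    fun a h1 h2 => qinv_le.trans (h.sf.le a h1 h2),
    fun a h1 h2 => coprime_of_le qinv_le (h.sf.cop a h1 h2),
    fun a _ _ => le_sup_left.trans le_normalizer_qinv, fun a h1 h2 b h3 h4 => le_sSup
      ⟨(inf_le_inf_right _ qinv_le).trans (h.sf.bal a h1 h2 b h3 h4),
        coprime_of_le inf_le_left (c a h1 h2), le_normalizer_inf (le_sup_left.trans le_normalizer_qinv)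
          (h.sf.le_normalizer_centralizer_singleton h3), le_normalizer_inf
          (le_sup_right.trans le_normalizer_qinv) (((signalizerInf_le h3 h4).trans
            (h.sf.le b h3 h4)).trans le_normalizer)⟩,
    fun a h1 h2 => isSolvable_of_le qinv_le (h.sf.sol a h1 h2)⟩ (fun _ _ _ => qinv_le)
    (let ⟨a, h1, h2, h3⟩ := hd; ⟨a, h1, h2, fun e => h3 (e ▸ c a h1 h2)⟩)
  exact ⟨K, h1.mono fun _ _ _ => qinv_le, h1.coprime_of h.sf.ea (h.sf.rk2 h.rk) c, h2⟩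

omit hp in
theorem SF.Opp_le_qinv (h : SF p A θ) {a : G} (h1 : a ∈ A) (h2 : a ≠ 1) :
    Opp q (θ a) ≤ qinv q A (signalizerInf A θ) (θ a) :=
  le_sSup ⟨Opp_le q _, Opp_coprime q _, le_normalizer_Opp (h.inv a h1 h2),
    le_normalizer_Opp ((signalizerInf_le h1 h2).trans le_normalizer)⟩

omit hq in
theorem fac_inf_centralizer {a : G} (ha : IsPGroup p (zpowers a)) (f : CfsgH1.Fac X Y M)
    (hX : (Nat.card X).Coprime p) (h1 : a ∈ normalizer (X : Set G)) (h2 : a ∈ normalizer (Y : Set G)) :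
    CfsgH1.Fac (X ⊓ centralizer ({a} : Set G)) (Y ⊓ centralizer ({a} : Set G))
      (M ⊓ centralizer ({a} : Set G)) := by
  rw [← centralizer_zpowers]
  refine ⟨inf_le_inf_right _ f.1, inf_le_inf_right _ f.2.1, fun g hg => ?_⟩
  obtain ⟨x, hx, y, hy, rfl⟩ := f.2.2 g hg.1
  exact CfsgH1.coprime_centralizer_of_product (coprime_of_isPGroup ha (coprime_of_le inf_le_left hX))
    (Or.inl (CfsgH1.isSolvable_of_isPGroup ha)) (zpowers_le.2 h1) (zpowers_le.2 h2) hx hy hg.2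

theorem LC.key_ZJ (h : LC p A θ) (h2 : q ≠ 2)
    (h5 : 5 ≤ q ∨ ∀ a ∈ A, a ≠ 1 → (Nat.card (θ a)).Coprime 2) (hS : MaxQ p A θ q S) {a : G}
    (ha : a ∈ A) (ha1 : a ≠ 1) : θ a ≤ Opp q (θ a) ⊔
      (mcl p A θ (normalizer (ZJ S : Set G)) ⊓ centralizer ({a} : Set G)) := by
  have hA := ea_isPGroup h.sf.ea
  have nE : θ a ≤ normalizer (Opp q (θ a) : Set G) := le_normalizer_Opp le_normalizer
  obtain ⟨P, p1, -, p2⟩ := (h.sf.mem ha ha1).exists_syl (q := q) hA bot_le IsPGroup.of_bot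
    le_normalizer_of_normal
  obtain ⟨⟨N, T⟩, ⟨n1, n2, n3, n4⟩, hmax⟩ := Set.exists_max_image {z : Subgroup G × Subgroup G |
    Mem p A θ z.1 ∧ Syl q z.2 z.1 ∧ Mem p A θ z.2 ∧
      θ a ≤ Opp q (θ a) ⊔ (z.1 ⊓ centralizer ({a} : Set G))} (fun z => Nat.card z.2) (Set.toFinite _)
    ⟨(θ a, P), h.sf.mem ha ha1, p1, p2, (le_inf le_rfl (h.sf.le a ha ha1)).trans le_sup_right⟩
  dsimp only at n1 n2 n3 n4 hmax
  by_cases T0 : T = ⊥
  · exact (le_Opp (Sn.refl _) (coprime_of_le (n4.trans (sup_comm _ _).le) (coprime_sup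
      ((n1.le a ha ha1).trans nE) (coprime_of_le inf_le_left (n2.eq_bot_iff.1 T0))
      (Opp_coprime q _)))).trans le_sup_left
  have aZ := le_normalizer_ZJ n3.inv
  have aN := aZ.trans (CfsgH1.normalizer_le_normalizer_normalizer _)
  have m1 := h.loc _ (n3.of_le (ZJ_le T) aZ) (ZJ_ne_bot n2.pg T0)
  have f := fac_inf_centralizer (hA.to_le (zpowers_le.2 ha)) (zj_fac n1.sol h2 (h5.imp_right
    (n1.coprime_of h.sf.ea (h.sf.rk2 h.rk))) n2) (coprime_of_le (Opp_le q N) n1.cop)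
    (le_normalizer_Opp n1.inv ha) (le_normalizer_inf n1.inv aN ha)
  have e1 : Opp q N ⊓ centralizer ({a} : Set G) ≤ Opp q (θ a) := by
    have b1 := (inf_le_inf_right _ (Opp_le q N)).trans (n1.le a ha ha1)
    have b2 := b1.trans nE
    exact le_sup_left.trans (le_Opp (Sn.of_normal (sup_le b1 (Opp_le q _)) (n4.trans (sup_le
      (le_normalizer_of_commutator_le le_sup_right (commutator_le_right_of (sup_le b2 le_normalizer)))
      (le_normalizer_sup (le_normalizer_inf (inf_le_left.trans (le_normalizer_Opp le_normalizer))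
        (inf_le_right.trans le_normalizer)) ((n1.le a ha ha1).trans nE)))))
      (coprime_sup b2 (coprime_of_le inf_le_left (Opp_coprime q N)) (Opp_coprime q _)))
  have e2 : θ a ≤ Opp q (θ a) ⊔ (mcl p A θ (normalizer (ZJ T : Set G)) ⊓ centralizer ({a} : Set G)) :=
    n4.trans (sup_le le_sup_left (f.sup_eq.ge.trans (sup_le_sup e1 (inf_le_inf_right _
      ((n1.inf aN).le_mcl inf_le_right)))))
  obtain ⟨R, r1, r2⟩ := n3.exists_maxQ n2.pg
  have aR := le_normalizer_inf (n3.inv.trans (CfsgH1.normalizer_le_normalizer_normalizer T)) r1.mem.inv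
  obtain ⟨T', t1, t2, t3⟩ := m1.exists_syl (q := q) hA ((r1.mem.of_le inf_le_right aR).le_mcl
    (inf_le_left.trans (le_normalizer_ZJ le_rfl))) (r1.pg.to_le inf_le_right) aR
  have e3 : T = R := by
    by_contra hne
    exact (card_lt_of_lt ((lt_normalizer_inf r1.pg (lt_of_le_of_ne r2 hne)).trans_le t2)).not_ge
      (hmax (_, T') ⟨m1, t1, t3, e2⟩)
  obtain ⟨c, c1, c2⟩ := h.sf.transitivity h.rk (e3 ▸ r1) hS
  have c3 := signalizerInf_le ha ha1 c1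
  have := cj_mono c e2
  rwa [cj_sup, cj_inf, h.sf.cj_mcl c1, cj_normalizer, cj_ZJ, c2, cj_eq_of_mem c3,
    cj_eq_of_mem_normalizer (nE c3), cj_eq_of_mem (h.sf.le a ha ha1 c3)] at this

/-- the factorization `K = (K ∩ L) K_B`. -/
theorem LC.fac_EB (h : LC p A θ) {L : Subgroup G} (hL : Mem p A θ L) (hK : Mem p A θ K)
    (hE : ∀ a ∈ A, a ≠ 1 → Opp q (θ a) ≤ K) (hB : Hyp p B A)
    (key : ∀ a ∈ A, a ≠ 1 → θ a ≤ Opp q (θ a) ⊔ (L ⊓ centralizer ({a} : Set G))) :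
    CfsgH1.Fac (EB q θ B) (K ⊓ L) K := by
  have hb := ea_of_le h.sf.ea hB.1
  refine fac_of_centralizers (ea_comm hb) (not_isCyclic_of_ea hb (hB.pow_le h.rk)) (hB.1.trans hK.inv)
    (coprime_of_isPGroup (ea_isPGroup hb) hK.cop) (EB_le fun b h1 => hE b (hB.1 h1)) inf_le_left
    (le_normalizer_EB fun b h1 h2 => hB.1.trans (h.sf.inv b (hB.1 h1) h2))
    (hB.1.trans (le_normalizer_inf hK.inv hL.inv)) (hK.le_normalizer_EB hB.1) fun b h1 h2 =>
      ⟨inf_le_inf_right _ (EB_le fun b h1 => hE b (hB.1 h1)), inf_le_inf_right _ inf_le_left,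
        fun g hg => ?_⟩
  obtain ⟨x, hx, y, hy, rfl⟩ := (mem_sup_of_le_normalizer' ((hL.le b (hB.1 h1) h2).trans
    (le_normalizer_Opp le_normalizer))).1 (key b (hB.1 h1) h2 (hK.le b (hB.1 h1) h2 hg))
  exact ⟨x, ⟨le_EB h1 h2 hx, h.sf.le b (hB.1 h1) h2 (Opp_le q _ hx)⟩, y,
    ⟨⟨(mul_mem_cancel_left (hE b (hB.1 h1) h2 hx)).1 hg.1, hy.1⟩, hy.2⟩, rfl⟩

theorem LC.cpl_good (h : LC p A θ) (h2 : q ≠ 2)
    (h5 : 5 ≤ q ∨ ∀ a ∈ A, a ≠ 1 → (Nat.card (θ a)).Coprime 2)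
    (hd : ∃ a ∈ A, a ≠ 1 ∧ ¬ (Nat.card (θ a)).Coprime q) : Cpl p A θ := by
  have hA := ea_isPGroup h.sf.ea
  have r2 := h.sf.rk2 h.rk
  have A0 : A ≠ ⊥ := ne_bot_of_pow_le (by norm_num) h.rk
  obtain ⟨K, k1, k2, k3⟩ := h.exists_K hd
  replace k3 := fun a h1 h2 => (h.sf.Opp_le_qinv h1 h2).trans (k3 a h1 h2)
  obtain ⟨S, hS, -⟩ := (mem_bot' (p := p) (A := A) (θ := θ)).exists_maxQ (q := q) IsPGroup.of_bot
  have S0 : S ≠ ⊥ := fun e => let ⟨a, h1, h2, h3⟩ := hd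
    h3 ((h.sf.syl_theta h.rk hS h1 h2).eq_bot_iff.1 (by rw [e, bot_inf_eq]))
  have z1 := hS.mem.of_le (ZJ_le S) (le_normalizer_ZJ hS.mem.inv)
  have z2 := ZJ_ne_bot hS.pg S0
  have hL := h.loc _ z1 z2
  have key := fun a => h.key_ZJ h2 h5 hS (a := a)
  have fac := fun B hB => h.fac_EB hL k1 k3 (B := B) hB key
  generalize hl : mcl p A θ (normalizer (ZJ S : Set G)) = L at hL key fac
  have nL : L ≤ normalizer (ZJ S : Set G) := hl ▸ mcl_le
  have gen : ∀ D : Subgroup G, (∀ Y ≤ ZJ S, (∃ X, CfsgH1.Fac (K ⊓ normalizer (ZJ S : Set G)) X K ∧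
      Y ≤ normalizer (X : Set G)) → Y ≤ D) → ZJ S ≤ D := fun D hD =>
    ea_le_of_hyp h.sf.ea A0 z1.inv z1.cop fun B hB => hD _ inf_le_left ⟨EB q θ B,
      (fac B hB).symm.mono (inf_le_inf_left _ nL) le_rfl inf_le_left (fac B hB).1,
        z1.le_normalizer_EB hB.1⟩
  have f := fac_of_gen gen
  have w : Mem p A θ (ZJ S ⊔ K) := ⟨solvable_of_ZK' (ZJ_comm S) (hS.pg.to_le (ZJ_le S)) k2 k1.sol
    (h5.imp_right fun h5 => ⟨h2, k1.coprime_of h.sf.ea r2 h5⟩) gen,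
    (z1.cop.mul_left k1.cop).coprime_dvd_left f.card_dvd, le_normalizer_sup z1.inv k1.inv,
    fun a h1 h2 => (fac_inf_centralizer (hA.to_le (zpowers_le.2 h1)) f z1.cop (z1.inv h1)
      (k1.inv h1)).sup_eq.ge.trans (sup_le (z1.le a h1 h2) (k1.le a h1 h2))⟩
  have v := le_normalizer_ncl_of k1.inv z1.inv
  refine h.cpl_of_norm (w.of_le (ncl_le le_sup_left (le_sup_right.trans le_normalizer)) v)
    (fun e => z2 (le_bot_iff.1 (e ▸ le_ncl K (ZJ S)))) fun a h1 h2 => (key a h1 h2).trans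
      (sup_le ((k3 a h1 h2).trans (le_normalizer_ncl _ _)) (inf_le_left.trans
        (ea_le_of_hyp h.sf.ea A0 hL.inv hL.cop fun B hB => ?_)))
  have e : ncl K (ZJ S) = ncl (EB q θ B) (ZJ S) := by
    refine le_antisymm (ncl_le_iff.2 fun k hk => ?_)
      (ncl_le_iff.2 fun k hk => cj_le_ncl ((fac B hB).1 hk))
    obtain ⟨x, hx, y, hy, rfl⟩ := (fac B hB).2.2 k hk
    rw [← cj_cj, cj_eq_of_mem_normalizer (nL hy.2)]
    exact cj_le_ncl hx
  rw [e]
  exact le_normalizer_ncl_of (hL.le_normalizer_EB hB.1) (inf_le_left.trans nL)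

omit hq in
theorem SF.cpl_single (h : SF p A θ) (h3 : p ^ 3 ≤ Nat.card A) [Fact q.Prime]
    (hq : ∀ a ∈ A, a ≠ 1 → IsPGroup q (θ a)) : Cpl p A θ := by
  obtain ⟨Q, hQ, -⟩ := (mem_bot' (p := p) (A := A) (θ := θ)).exists_maxQ (q := q) IsPGroup.of_bot
  refine ⟨Q, hQ.mem, fun a ha ha1 => ?_⟩
  have := h.syl_theta h3 hQ ha ha1
  exact (this.eq_of_le (hq a ha ha1) this.le le_rfl).le.trans inf_le_left

omit hq in
/-- outside the case of `{2,3}`-functors the inductive step is complete. -/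
theorem LC.cpl_or (h : LC p A θ) : Cpl p A θ ∨ (5 ≤ p ∧ ∀ a ∈ A, a ≠ 1 → IsPi {2, 3} (θ a)) := by
  by_cases h5 : ∃ q : ℕ, q.Prime ∧ 5 ≤ q ∧ ∃ a ∈ A, a ≠ 1 ∧ q ∣ Nat.card (θ a)
  · obtain ⟨q, h1, h2, a, h3, h4, h6⟩ := h5
    have := Fact.mk h1
    exact .inl (h.cpl_good (q := q) (by omega) (.inl h2) ⟨a, h3, h4, fun e => coprime_iff_not_dvd.1 e h6⟩)
  push Not at h5
  have pi : ∀ a ∈ A, a ≠ 1 → ∀ q : ℕ, q.Prime → q ∣ Nat.card (θ a) → q = 2 ∨ q = 3 := by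
    intro a h1 h2 q h3 h4
    have := h3.two_le
    have : ¬ 5 ≤ q := fun e => h5 q h3 e a h1 h2 h4
    have : q ≠ 4 := by rintro rfl; exact absurd h3 (by norm_num)
    omega
  by_cases hp5 : 5 ≤ p
  · exact .inr ⟨hp5, pi⟩
  have key : ∀ r : ℕ, r.Prime → (∀ q : ℕ, q = 2 ∨ q = 3 → q ≠ p → q = r) → Cpl p A θ := by
    intro r h1 h2
    have := Fact.mk h1
    refine h.sf.cpl_single h.rk (q := r) fun a h3 h4 => IsPGroup.of_card (n := _)
      (Nat.eq_prime_pow_of_unique_prime_dvd Nat.card_pos.ne' fun {d} h6 h7 => h2 d (pi a h3 h4 d h6 h7)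
        fun e => coprime_iff_not_dvd.1 (h.sf.cop a h3 h4) (e ▸ h7))
  have := hp.out.two_le
  have : p ≠ 4 := fun e => absurd (e ▸ hp.out) (by norm_num)
  by_cases e : p = 2
  · exact .inl (key 3 Nat.prime_three (by omega))
  · exact .inl (key 2 Nat.prime_two (by omega))

omit hq in
/-- the solvable signalizer functor theorem for `p ≤ 3`. -/
theorem SF.cpl_of_lt (h : SF p A θ) (h3 : p ^ 3 ≤ Nat.card A) (h5 : p < 5) : Cpl p A θ :=
  have H := fun (G : Type _) [Group G] [Finite G] (A : Subgroup G) (θ : G → Subgroup G)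
    (h : LC p A θ) => h.cpl_or.resolve_right fun e => h5.not_ge e.1
  H G A θ (ssf_induction H _ G A θ rfl h h3)

end CfsgH9
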