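import Cfsg.Agent.H9.SSF9
import Cfsg.Agent.H9.Tech2
import Cfsg.Agent.H9.Conn

/-! Equivariant solvable signalizer functors on connected commuting graphs. -/

set_option autoImplicit false

namespace CfsgH9

open Subgroup Cfsg

variable {G : Type*} [Group G] {p : ℕ} {A B E H K M Q S T U V W X Y : Subgroup G}
  {θ : G → Subgroup G}

theorem le_sigCl {b : G} (h1 : b ∈ B) (h2 : b ≠ 1) : θ b ≤ signalizerClosure B θ :=
  le_iSup (fun a : {a : G // a ∈ B ∧ a ≠ 1} => θ a) ⟨b, h1, h2⟩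

theorem sigCl_le (h : ∀ b ∈ B, b ≠ 1 → θ b ≤ X) : signalizerClosure B θ ≤ X :=
  iSup_le fun b => h b b.2.1 b.2.2

theorem sigCl_mono (h : B ≤ A) : signalizerClosure B θ ≤ signalizerClosure A θ :=
  sigCl_le fun _ h1 h2 => le_sigCl (h h1) h2

theorem cj_sigCl {g : G} (h : ∀ b ∈ B, b ≠ 1 → θ (g * b * g⁻¹) = cj g (θ b)) :
    cj g (signalizerClosure B θ) = signalizerClosure (cj g B) θ := by
  refine le_antisymm (map_le_iff_le_comap.2 (sigCl_le fun b h1 h2 => map_le_iff_le_comap.1 ?_))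
    (sigCl_le ?_)
  · exact (h b h1 h2).ge.trans (le_sigCl (conj_mem_cj g h1) (by simpa using h2))
  · rintro _ ⟨b, h1, rfl⟩ h2
    have h3 : b ≠ 1 := fun e => h2 (by rw [e, map_one])
    exact (h b h1 h3).le.trans (cj_mono g (le_sigCl h1 h3))

variable [Finite G] [hp : Fact p.Prime]

theorem Cpl.mem_sigCl (c : Cpl p A θ) (h : SF p A θ) : Mem p A θ (signalizerClosure A θ) :=
  let ⟨_, h1, h2⟩ := c
  h1.of_le (sigCl_le h2) fun g hg => cj_eq_iff.1 (by
    rw [cj_sigCl fun b h1 h2 => by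
      rw [cj_eq_of_mem_normalizer (h.inv b h1 h2 hg), ea_mul_comm h.ea hg h1, mul_inv_cancel_right],
      cj_eq_of_mem hg])

theorem Cpl.sigCl_eq (c : Cpl p A θ) (h : SF p A θ) (hB : B ≤ A) (h2 : p ^ 2 ≤ Nat.card B) :
    signalizerClosure B θ = signalizerClosure A θ :=
  have m := c.mem_sigCl h
  le_antisymm (sigCl_mono hB) (ea_le_of_centralizers (ea_of_le h.ea hB) h2 (hB.trans m.inv) m.cop
    fun b h1 h2 => (m.le b (hB h1) h2).trans (le_sigCl h1 h2))

theorem sigCl_eq_of_comm (hU : EAk p 2 U) (hV : EAk p 2 V) (hc : ⁅U, V⁆ = ⊥)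
    (h : p ^ 3 ≤ Nat.card (U ⊔ V : Subgroup G) → SF p (U ⊔ V) θ ∧ Cpl p (U ⊔ V) θ) :
    signalizerClosure U θ = signalizerClosure V θ := by
  by_cases h3 : p ^ 3 ≤ Nat.card (U ⊔ V : Subgroup G)
  · rw [(h h3).2.sigCl_eq (h h3).1 le_sup_left hU.2, (h h3).2.sigCl_eq (h h3).1 le_sup_right hV.2]
  obtain ⟨n, hn⟩ := IsPGroup.iff_card.1 (ea_isPGroup (ea_sup hU.1 hV.1 hc))
  have : Nat.card (U ⊔ V : Subgroup G) ≤ p ^ 2 := by
    rw [hn, Nat.pow_le_pow_iff_right hp.out.one_lt] at h3 ⊢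
    omega
  rw [(eq_of_le_of_card_ge le_sup_left (this.trans hU.2)).trans
    (eq_of_le_of_card_ge (K := U ⊔ V) le_sup_right (this.trans hV.2)).symm]

omit hp in
theorem cj_core (g a : G) : Opp p (centralizer ({g * a * g⁻¹} : Set G)) =
    cj g (Opp p (centralizer ({a} : Set G))) := by rw [cj_Opp, cj_centralizer_singleton]

theorem sf_core (hA : IsElementaryAbelian p A)
    (h : ∀ a ∈ A, a ≠ 1 → PLay p (centralizer ({a} : Set G)) = ⊥ ∧
      Group.IsSolvable (Opp p (centralizer ({a} : Set G)))) :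
    SF p A fun a => Opp p (centralizer ({a} : Set G)) :=
  ⟨hA, fun _ _ _ => Opp_le p _, fun _ _ _ => Opp_coprime p _,
    fun _ h1 _ => le_normalizer_Opp ((ea_le_centralizer_singleton hA h1).trans le_normalizer),
    fun _ h1 h2 b h3 h4 => Opp_centralizer_inf_le (ea_orderOf hA h1 h2)
      (ea_le_centralizer_singleton hA h3 h1) (h b h3 h4).1, fun a h1 h2 => (h a h1 h2).2⟩

omit hp in
theorem vertex_cj {k : ℕ} (g : G) (h : IsRankGraphVertex p k E) : IsRankGraphVertex p k (cj g E) :=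
  ⟨ea_cj g h.1, (card_cj g E).symm ▸ h.2.1, by
    rw [← cj_centralizer, pRankLE_map_iff (MulAut.conj g).injective]; exact h.2.2⟩

theorem not_rank_of_ea (hA : IsElementaryAbelian p A) (h3 : p ^ 3 ≤ Nat.card A) (h : A ≤ H) :
    ¬ PRankLE p 2 H := not_pRankLE_iff.2 ⟨A, h, hA, h3⟩

theorem equivariant_trivial (hO : Opp p (⊤ : Subgroup G) = ⊥) (hconn : IsRankGraphConnected p 2 G)
    (hsf : ∀ A : Subgroup G, IsElementaryAbelian p A → p ^ 3 ≤ Nat.card A → SF p A θ)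
    (heq : ∀ a g : G, orderOf a = p → ¬ PRankLE p 2 (centralizer ({a} : Set G)) →
      θ (g * a * g⁻¹) = cj g (θ a)) {a : G} (h1 : orderOf a = p)
    (h2 : ¬ PRankLE p 2 (centralizer ({a} : Set G))) : θ a = ⊥ := by
  obtain ⟨A, a1, a2, a3⟩ := not_pRankLE_iff.1 h2
  have e := ea_sup a2 (ea_zpowers_of_orderOf h1) (comm_zpowers_iff.2 a1)
  have c := a3.trans (card_le_of_le (le_sup_left : A ≤ A ⊔ zpowers a))
  have m : a ∈ A ⊔ zpowers a := mem_sup_right (mem_zpowers a)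
  generalize A ⊔ zpowers a = E at e c m
  have v : IsRankGraphVertex p 2 E := ⟨e, (hsf E e c).rk2 c,
    not_rank_of_ea e c (comm_bot_iff.1 (ea_comm e))⟩
  have n : (signalizerClosure E θ).Normal := normal_of_top_le fun g _ => cj_eq_iff.1 (by
    rw [cj_sigCl fun b b1 b2 => heq b g (ea_orderOf e b1 b2)
      (not_rank_of_ea e c (ea_le_centralizer_singleton e b1))]
    exact ((conn_iff_of (V := IsRankGraphVertex p 2) fun _ _ => Iff.rfl).1
      (hconn _ _ v (vertex_cj g v))).induct (P := fun X => signalizerClosure X θ =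
        signalizerClosure E θ) rfl fun X Y hX hY hc ih => (sigCl_eq_of_comm ⟨hX.1, hX.2.1⟩
          ⟨hY.1, hY.2.1⟩ hc fun h3 => have s := hsf _ (ea_sup hX.1 hY.1 hc) h3
            ⟨s, s.cpl h3⟩).symm.trans ih)
  exact le_bot_iff.1 ((le_sigCl m fun e => hp.out.ne_one (by rw [← h1, e, orderOf_one])).trans
    (hO ▸ le_Opp (Sn.of_normal_top _) (((hsf E e c).cpl c).mem_sigCl (hsf E e c)).cop))

end CfsgH9
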