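import Cfsg.Agent.H9.TW
import Cfsg.Agent.H2.AM2
import Cfsg.Agent.H1.LX2
import Cfsg.Agent.L0.Invol

/-! Primitive groups with a suborbit of length three. -/

set_option autoImplicit false
namespace CfsgH9
open Subgroup Cfsg

variable {G : Type*} [Group G] [Finite G] {M M₁ M₂ D T : Subgroup G}

theorem sims_amal (s1 : Syl 2 T M₁) (s2 : Syl 2 T M₂) (i1 : (Op 2 M₁).relIndex M₁ = 6)
    (i2 : (Op 2 M₂).relIndex M₂ = 6) (c1 : ChP 2 M₁) (c2 : ChP 2 M₂)
    (z1 : ¬ M₁ ≤ centralizer (OZ 2 T : Set G)) (z2 : ¬ M₂ ≤ centralizer (OZ 2 T : Set G))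
    (nb : ∀ N ≤ T, M₁ ≤ normalizer (N : Set G) → M₂ ≤ normalizer (N : Set G) → N = ⊥) :
    Nonempty (M₁ ≃* Equiv.Perm (Fin 4)) ∨
      Nonempty (M₁ ≃* Equiv.Perm (Fin 4) × Multiplicative (ZMod 2)) := by
  have e : ∀ M : Subgroup G, Op 2 M = piCoreOf {2} M := fun M => CfsgH2.map_pCore_subtype
  unfold ChP at c1 c2
  rw [e] at i1 i2 c1 c2
  obtain ⟨a, b, d⟩ := CfsgH2.amal ⟨⟨s1.le, s1.pg, s1.nd⟩, i1, c1, z1⟩ ⟨⟨s2.le, s2.pg, s2.nd⟩, i2, c2, z2⟩ nb
  exact d.imp (a.S4 b.el) (a.S4C2 b.el)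

theorem sup_zpowers_eq {x : G} (l : D ≤ M) (i : (D.relIndex M).Prime) (hx : x ∈ M) (n : x ∉ D) :
    D ⊔ zpowers x = M := by
  have l2 : D ⊔ zpowers x ≤ M := sup_le l (zpowers_le.2 hx)
  have := relIndex_mul_relIndex _ _ _ (le_sup_left : D ≤ D ⊔ zpowers x) l2
  rcases (Nat.prime_mul_iff.1 (this ▸ i)) with h | h
  · exact le_antisymm l2 (relIndex_eq_one.1 h.2)
  · exact absurd (relIndex_eq_one.1 h.2 (mem_sup_right (mem_zpowers x))) n

omit [Finite G] in
theorem co_relIndex_three [Finite G] (l : D ≤ M) (i : D.relIndex M = 3) : (co M D).relIndex D ∣ 2 := by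
  have := co_index M D
  rw [← relIndex_mul_relIndex _ _ _ ((co_le _ _).trans inf_le_left) l, i] at this
  exact Nat.dvd_of_mul_dvd_mul_right (k := 3) (by norm_num) this

theorem norm_Oup_three (l : D ≤ M) (i : D.relIndex M = 3) : M ≤ normalizer (Oup 2 D : Set G) := by
  haveI := Fact.mk Nat.prime_two
  obtain ⟨k, -, e⟩ := (Nat.dvd_prime_pow Nat.prime_two (m := 1)).1 (co_relIndex_three l i)
  have : Oup 2 D = Oup 2 (co M D) := le_antisymm ((Oup_Oup D).ge.trans (Oup_mono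
    (Oup_le_of_normal (l.trans (co_norm _ _)) e))) (Oup_mono ((co_le _ _).trans inf_le_left))
  exact this ▸ le_normalizer_Oup (co_norm _ _)

theorem Op_relIndex_three (s : Syl 2 D M) (i : D.relIndex M = 3) (n : ¬ M ≤ normalizer (D : Set G)) :
    (Op 2 M).relIndex D = 2 := by
  haveI := Fact.mk Nat.prime_two
  have e : Op 2 M = co M D := le_antisymm (le_co s.Op_le (Op_le _ _) (le_normalizer_Op le_normalizer))
    (le_Op (.of_normal ((co_le _ _).trans inf_le_right) (co_norm _ _))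
      (s.pg.to_le ((co_le _ _).trans inf_le_left)))
  refine ((Nat.dvd_prime Nat.prime_two).1 (e ▸ co_relIndex_three s.le i)).resolve_left fun h => n ?_
  rw [← le_antisymm s.Op_le (relIndex_eq_one.1 h)]
  exact le_normalizer_Op le_normalizer

theorem exists_three_of_not_chP (s : Syl 2 D M) (i : D.relIndex M = 3) (c : ¬ ChP 2 M) :
    ∃ x ∈ M, orderOf x = 3 ∧ x ∈ centralizer (Op 2 M : Set G) := by
  haveI := Fact.mk Nat.prime_two
  haveI := Fact.mk Nat.prime_three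
  by_contra! k
  refine c (le_Op (.of_normal inf_le_left (le_normalizer_inf le_normalizer
    (le_normalizer_centralizer (le_normalizer_Op le_normalizer)))) ?_)
  have c3 : (Nat.card ↥(M ⊓ centralizer (Op 2 M : Set G))).Coprime 3 :=
    coprime_of_forall_orderOf fun x hx e => k x hx.1 e hx.2
  obtain ⟨n, e⟩ := s.pg.exists_card_eq
  have d := card_dvd_of_le (inf_le_left : M ⊓ centralizer (Op 2 M : Set G) ≤ M)
  rw [← card_mul_relIndex s.le, i, e] at d
  obtain ⟨m, -, e2⟩ := (Nat.dvd_prime_pow Nat.prime_two).1 (c3.dvd_of_dvd_mul_right d)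
  exact .of_card e2

theorem d12 (s : Syl 2 D M) (i : D.relIndex M = 3) (n : ¬ M ≤ normalizer (D : Set G)) {x z t : G}
    (hx : x ∈ M) (o3 : orderOf x = 3) (oz : orderOf z = 2) (ot : t * t = 1) (cz : Commute z x)
    (ct : Commute t z) (e : D = zpowers z ⊔ zpowers t) (c4 : Nat.card D = 4) :
    Nonempty (M ≃* DihedralGroup 6) := by
  haveI := Fact.mk Nat.prime_two
  have zD : z ∈ D := e ▸ mem_sup_left (mem_zpowers z)
  have tD : t ∈ D := e ▸ mem_sup_right (mem_zpowers t)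
  have xD : x ∉ D := fun h => by
    have := orderOf_dvd_natCard (⟨x, h⟩ : D)
    rw [orderOf_mk, o3, c4] at this; omega
  have gen := sup_zpowers_eq s.le (i ▸ Nat.prime_three) hx xD
  have o6 : orderOf (z * x) = 6 := by
    rw [cz.orderOf_mul_eq_mul_orderOf_of_coprime (by rw [oz, o3]; norm_num), oz, o3]
  have z2 : z ^ 2 = 1 := oz ▸ pow_orderOf_eq_one z
  have x3 : x ^ 3 = 1 := o3 ▸ pow_orderOf_eq_one x
  have ex : (z * x) ^ 4 = x := by
    rw [cz.mul_pow, show 4 = 2 * 2 from rfl, pow_mul, z2, one_pow, one_mul, show 2 * 2 = 3 + 1 from rfl,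
      pow_succ, x3, one_mul]
  have ez : (z * x) ^ 3 = z := by
    rw [cz.mul_pow, x3, mul_one, pow_succ, z2, one_mul]
  have nc : ¬ Commute t (z * x) := fun c => n (gen.ge.trans (sup_le le_normalizer
    (le_normalizer_of_commutator_eq_bot (e ▸ comm_bot_sup_right ?_ ?_))))
  · have aM : z * x ∈ M := mul_mem (s.le zD) hx
    have i2 : (zpowers (z * x)).relIndex M = 2 := by
      have h1 := card_mul_relIndex (zpowers_le.2 aM)
      have h2 := card_mul_relIndex s.le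
      rw [Nat.card_zpowers, o6] at h1
      rw [c4, i] at h2
      omega
    have nm := (normal_subgroupOf_iff_le_normalizer (zpowers_le.2 aM)).1 (normal_of_index_eq_two i2)
    have m : t * (z * x) * t⁻¹ ∈ zpowers (z * x) :=
      (mem_normalizer_iff.1 (nm (s.le tD)) _).1 (mem_zpowers _)
    classical
    obtain ⟨k, hk, ek⟩ := Finset.mem_image.1 (mem_zpowers_iff_mem_range_orderOf.1 m)
    have ok : orderOf ((z * x) ^ k) = 6 := by
      rw [ek, ← o6]; exact (MulAut.conj t).orderOf_eq _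
    rw [orderOf_pow, o6] at ok
    rw [o6, Finset.mem_range] at hk
    have k5 : k = 5 := by
      interval_cases k <;> simp at ok ⊢
      exact nc (mul_inv_eq_iff_eq_mul.1 (ek.symm.trans (pow_one _)))
    have inv : t * (z * x) * t⁻¹ = (z * x)⁻¹ := by
      rw [← ek, k5, eq_inv_iff_mul_eq_one, ← pow_succ]; simpa only [o6] using pow_orderOf_eq_one (z * x)
    obtain ⟨f⟩ := CfsgL0.dihedral_iso t (z * x) ot inv fun h => nc (by
      obtain ⟨j, rfl⟩ := h; exact (Commute.refl _).zpow_left j)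
    have ec : closure {t, z * x} = M := le_antisymm ((closure_le _).2 (by
      rintro _ (rfl | rfl); exacts [s.le tD, aM])) (by
      have ha : z * x ∈ closure {t, z * x} := subset_closure (.inr rfl)
      rw [← gen, e]
      exact sup_le (sup_le (zpowers_le.2 (by simpa only [ez] using pow_mem ha 3)) (zpowers_le.2 (subset_closure (.inl rfl))))
        (zpowers_le.2 (by simpa only [ex] using pow_mem ha 4)))
    rw [o6, ec] at f
    exact ⟨f⟩
  · exact comm_bot_iff_forall.2 (by rintro _ ⟨a, rfl⟩ _ ⟨b, rfl⟩; exact (cz.symm.zpow_zpow a b).eq)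
  · exact comm_bot_iff_forall.2 (by
      rintro _ ⟨a, rfl⟩ _ ⟨b, rfl⟩; exact ((ex ▸ c.pow_right 4).symm.zpow_zpow a b).eq)

theorem TW.sims (h : TW M₁ M₂) (i1 : M₂.relIndex M₁ = 3) :
    Nonempty (M₁ ≃* Multiplicative (ZMod 3)) ∨ Nonempty (M₁ ≃* Equiv.Perm (Fin 3)) ∨
      Nonempty (M₁ ≃* DihedralGroup 6) ∨ Nonempty (M₁ ≃* Equiv.Perm (Fin 4)) ∨
      Nonempty (M₁ ≃* Equiv.Perm (Fin 4) × Multiplicative (ZMod 2)) := by
  haveI := Fact.mk Nat.prime_two
  haveI := Fact.mk Nat.prime_three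
  have j1 : (M₁ ⊓ M₂).relIndex M₁ = 3 := by rw [inf_relIndex_left, i1]
  have j2 : (M₁ ⊓ M₂).relIndex M₂ = 3 := by rw [inf_relIndex_right, h.relIndex_eq, i1]
  have nb : ∀ N ≤ M₁ ⊓ M₂, M₁ ≤ normalizer (N : Set G) → M₂ ≤ normalizer (N : Set G) → N = ⊥ :=
    fun N l n1 n2 => by_contra fun k => h.not_le (n2.trans (h.n1 N k (l.trans inf_le_left) n1))
  have l1 : M₁ ⊓ M₂ ≤ M₁ := inf_le_left
  have l2 : M₁ ⊓ M₂ ≤ M₂ := inf_le_right
  generalize M₁ ⊓ M₂ = D at *
  have pD : IsPGroup 2 D := Oup_eq_bot_iff.1 (nb _ (Oup_le _) (norm_Oup_three l1 j1) (norm_Oup_three l2 j2))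
  have s1 : Syl 2 D M₁ := ⟨l1, pD, by rw [j1]; norm_num⟩
  have s2 : Syl 2 D M₂ := ⟨l2, pD, by rw [j2]; norm_num⟩
  obtain ⟨g, e, eD⟩ : ∃ g, cj g M₁ = M₂ ∧ cj g D = D := by
    obtain ⟨g, e⟩ := h.cg
    obtain ⟨k, hk, ek⟩ := (e ▸ s1.cj g : Syl 2 (cj g D) M₂).conj s2
    exact ⟨k * g, by rw [← cj_cj, ← e, cj_eq_of_mem hk], by rw [← cj_cj, ek]⟩
  have c1 := card_mul_relIndex l1
  by_cases n1 : M₁ ≤ normalizer (D : Set G)
  · have : D = ⊥ := nb _ le_rfl n1 (by rw [← e, ← eD, ← cj_normalizer]; exact cj_mono _ n1)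
    rw [this, card_bot, ← this, j1] at c1
    exact .inl ⟨mulEquivOfPrimeCardEq (p := 3) c1.symm (by simp)⟩
  have n2 : ¬ M₂ ≤ normalizer (D : Set G) := by rwa [← e, ← eD, ← cj_normalizer, cj_le_cj]
  have q1 := Op_relIndex_three s1 j1 n1
  have q2 := Op_relIndex_three s2 j2 n2
  have eQ : cj g (Op 2 M₁) = Op 2 M₂ := by rw [cj_Op, e]
  by_cases c : ChP 2 M₁
  · have z : ¬ M₁ ≤ centralizer (OZ 2 D : Set G) ↔ ¬ M₂ ≤ centralizer (OZ 2 D : Set G) := by
      conv_rhs => rw [← e, ← eD, ← cj_OZ, ← cj_centralizer, cj_le_cj]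
    have z1 : ¬ M₁ ≤ centralizer (OZ 2 D : Set G) := fun k => OZ_ne_bot pD (fun e => n1 (e ▸ le_normalizer_of_normal))
      (nb _ (OZ_le _) (k.trans (centralizer_le_normalizer _))
        ((not_not.1 (mt z.2 (not_not.2 k))).trans (centralizer_le_normalizer _)))
    exact .inr (.inr (.inr (sims_amal s1 s2 (by rw [← relIndex_mul_relIndex _ _ _ s1.Op_le l1, q1, j1])
      (by rw [← relIndex_mul_relIndex _ _ _ s2.Op_le l2, q2, j2]) c (e ▸ c.cj g) z1 (z.1 z1) nb)))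
  have c' : ¬ ChP 2 M₂ := fun k => c (by rw [← cj_inv_cj g M₁, e]; exact k.cj _)
  have key : ∀ {M : Subgroup G}, Syl 2 D M → D.relIndex M = 3 → ¬ ChP 2 M → Op 2 M₁ ⊓ Op 2 M₂ ≤ Op 2 M →
      M ≤ normalizer ((Op 2 M₁ ⊓ Op 2 M₂ : Subgroup G) : Set G) := fun s i c l => by
    obtain ⟨x, hx, o3, cx⟩ := exists_three_of_not_chP s i c
    refine (sup_zpowers_eq s.le (i ▸ Nat.prime_three) hx fun xD => ?_).ge.trans (sup_le
      (le_normalizer_inf (le_normalizer_Op (l1.trans le_normalizer))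
        (le_normalizer_Op (l2.trans le_normalizer)))
      (zpowers_le.2 (centralizer_le_normalizer _ (centralizer_le l cx))))
    obtain ⟨k, ek⟩ := exists_orderOf_of_mem pD xD
    have := Nat.Coprime.pow_right k (show Nat.Coprime 3 2 by norm_num)
    rw [← ek, o3] at this
    simp at this
  have b := nb _ (inf_le_left.trans s1.Op_le) (key s1 j1 c inf_le_left) (key s2 j2 c' inf_le_right)
  have d := relIndex_dvd_of_norm (X := Op 2 M₂) s1.Op_le (le_normalizer_Op (l2.trans le_normalizer))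
  have d2 := card_inf_mul_relIndex (Op 2 M₂) (Op 2 M₁)
  rw [inf_comm, b, card_bot, one_mul] at d2
  rw [q2, d2] at d
  have c2 := card_mul_relIndex s1.Op_le
  rw [q1] at c2
  rw [j1] at c1
  rcases (Nat.dvd_prime Nat.prime_two).1 d with k | k
  · exact .inr (.inl (CfsgH1.s3_of_not_comm (by omega) fun cm => n1
      ((normal_subgroupOf_iff_le_normalizer l1).1 inferInstance)))
  obtain ⟨x, hx, o3, cx⟩ := exists_three_of_not_chP s1 j1 c
  have k2 : Nat.card (Op 2 M₂) = 2 := by rw [← eQ, card_cj, k]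
  have cyc : ∀ Q : Subgroup G, Nat.card Q = 2 → ∃ z, orderOf z = 2 ∧ zpowers z = Q := fun Q k => by
    obtain ⟨z, hz, oz⟩ := exists_orderOf_prime_of_dvd (p := 2) (H := Q) (k ▸ dvd_rfl)
    exact ⟨z, oz, eq_of_le_of_card_ge (zpowers_le.2 hz) (by rw [Nat.card_zpowers, oz, k])⟩
  obtain ⟨z, oz, ez⟩ := cyc _ k
  obtain ⟨t, ot, et⟩ := cyc _ k2
  have nn : Op 2 M₁ ≤ normalizer (Op 2 M₂ : Set G) :=
    le_normalizer_Op ((s1.Op_le.trans l2).trans le_normalizer)
  have nn' : Op 2 M₂ ≤ normalizer (Op 2 M₁ : Set G) :=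
    le_normalizer_Op ((s2.Op_le.trans l1).trans le_normalizer)
  have cm : ⁅Op 2 M₂, Op 2 M₁⁆ = ⊥ := eq_bot_iff.2 (b ▸ le_inf (commutator_le_right_of nn')
    (commutator_le_left_of nn))
  have d3 := card_sup_mul_card_inf nn
  rw [b, card_bot, k, k2] at d3
  refine .inr (.inr (.inl (d12 s1 j1 n1 hx o3 oz (by rw [← pow_two, ← ot, pow_orderOf_eq_one])
    (cx z (ez ▸ mem_zpowers z)) (comm_bot_iff_forall.1 cm t (et ▸ mem_zpowers t) z (ez ▸ mem_zpowers z))
    ?_ (by omega))))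
  rw [ez, et]
  exact (eq_of_le_of_card_ge (sup_le s1.Op_le s2.Op_le) (by omega)).symm

end CfsgH9
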