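import Cfsg.Agent.H9.Comp2
import Cfsg.Agent.H9.Join

/-! The Thompson-Wielandt theorem for two conjugate primitive subgroups. -/

set_option autoImplicit false
namespace CfsgH9
open Subgroup Cfsg

variable {G : Type*} [Group G] {M M₁ M₂ A B Q X Y : Subgroup G} {p : ℕ}

/-- the core of `Y` in `M` -/
def co (M Y : Subgroup G) : Subgroup G := (Y.subgroupOf M).normalCore.map M.subtype

theorem co_le (M Y : Subgroup G) : co M Y ≤ Y ⊓ M :=
  (map_mono (normalCore_le _)).trans (subgroupOf_map_subtype _ _).le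

theorem co_norm (M Y : Subgroup G) : M ≤ normalizer (co M Y : Set G) := le_normalizer_map_subtype _

theorem le_co (h1 : X ≤ Y) (h2 : X ≤ M) (h3 : M ≤ normalizer (X : Set G)) : X ≤ co M Y := fun x hx =>
  ⟨⟨x, h2 hx⟩, fun b => h1 ((mem_normalizer_iff.1 (h3 b.2) x).1 hx), rfl⟩

theorem co_index (M Y : Subgroup G) [Finite G] : (co M Y).relIndex M ∣ (Y.relIndex M).factorial := by
  classical
  haveI := Fintype.ofFinite (M ⧸ Y.subgroupOf M)
  rw [co, relIndex_map_subtype, normalCore_eq_ker, index_ker, relIndex, index, Nat.card_eq_fintype_card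
    (α := M ⧸ _), ← Fintype.card_perm, ← Nat.card_eq_fintype_card]
  exact card_subgroup_dvd_card _

structure TW (M₁ M₂ : Subgroup G) : Prop where
  n1 : ∀ X, X ≠ ⊥ → X ≤ M₁ → M₁ ≤ normalizer (X : Set G) → normalizer (X : Set G) ≤ M₁
  ne : M₁ ≠ M₂
  cg : ∃ g, M₂ = cj g M₁

/-- `A` is normal in `M₁` and lies in a normal subgroup of `M₂` inside `M₁` -/
structure SC (M₁ M₂ A B : Subgroup G) : Prop where
  le : A ≤ B
  l1 : B ≤ M₁
  l2 : B ≤ M₂
  n1 : M₁ ≤ normalizer (A : Set G)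
  n2 : M₂ ≤ normalizer (B : Set G)

theorem tw_of_coatom (h : IsCoatom M₁) (hc : M₁.normalCore = ⊥) (ne : M₁ ≠ M₂) {g : G}
    (e : M₂ = cj g M₁) : TW M₁ M₂ := ⟨fun X h0 h1 h2 => by
  rcases h.le_iff.1 h2 with k | k
  · haveI := normal_of_top_le k.ge
    exact absurd (eq_bot_iff.2 (hc ▸ normal_le_normalCore.2 h1)) h0
  · exact k.le, ne, g, e⟩

theorem TW.symm (h : TW M₁ M₂) : TW M₂ M₁ := by
  obtain ⟨g, rfl⟩ := h.cg
  refine ⟨fun X h0 h1 h2 => ?_, h.ne.symm, g⁻¹, (cj_inv_cj _ _).symm⟩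
  have := h.n1 (cj g⁻¹ X) (mt cj_eq_bot.1 h0) (cj_inv_cj g M₁ ▸ cj_mono _ h1)
    (by rw [← cj_normalizer, ← cj_inv_cj g M₁]; exact cj_mono _ h2)
  rw [← cj_normalizer] at this
  exact cj_cj_inv g (normalizer (X : Set G)) ▸ cj_mono _ this

theorem SC.sn (h : SC M₁ M₂ A B) : Sn A M₂ :=
  (Sn.of_normal h.le (h.l1.trans h.n1)).trans (.of_normal h.l2 h.n2)

variable [Finite G]

theorem TW.not_le (h : TW M₁ M₂) : ¬ M₂ ≤ M₁ := fun l => by
  obtain ⟨g, e⟩ := h.cg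
  exact h.ne (eq_of_le_of_card_ge l (by rw [e, card_cj])).symm

theorem TW.Op_ne (h : TW M₁ M₂) (k : Op p M₁ ≠ ⊥) : Op p M₂ ≠ ⊥ := by
  obtain ⟨g, rfl⟩ := h.cg
  rw [← cj_Op]; exact mt cj_eq_bot.1 k

theorem TW.grow [Fact p.Prime] (h : TW M₁ M₂) (h1 : Q ≤ M₂) (h2 : Q ≤ Op p M₁)
    (h3 : normalizer (Q : Set G) ≤ M₁) (h4 : Op p M₂ ⊓ M₁ ≤ Q) : False := by
  have n := h1.trans (le_normalizer_Op (p := p) le_normalizer)
  have l : Op p M₂ ≤ Q := by
    by_contra k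
    refine (lt_normalizer_inf (isPGroup_sup n ((Op_isPGroup p _).to_le h2) (Op_isPGroup p _))
      (lt_of_le_of_ne le_sup_left fun e => k (le_sup_right.trans e.ge))).not_ge ?_
    refine (inf_le_inf_right _ h3).trans ?_
    rw [inf_comm, inf_sup_of_le_normalizer n (h2.trans (Op_le _ _))]
    exact sup_le le_rfl h4
  obtain ⟨g, e⟩ := h.cg
  have e2 : Q = Op p M₂ := le_antisymm (h2.trans (eq_of_le_of_card_ge (l.trans h2)
    (by rw [e, ← cj_Op, card_cj])).ge) l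
  exact h.not_le ((e2 ▸ le_normalizer_Op le_normalizer).trans h3)

theorem inf_le_Op_inf : Op p M₂ ⊓ M₁ ≤ Op p (M₁ ⊓ M₂) :=
  (le_inf inf_le_left (le_inf inf_le_right (inf_le_left.trans (Op_le _ _)))).trans
    (Op_inf_le_Op (inf_le_right.trans le_normalizer))

theorem TW.pg [Fact p.Prime] (h : TW M₁ M₂) (s : SC M₁ M₂ A B) (k : Op p M₂ ≠ ⊥) : IsPGroup p A := by
  rw [← Oup_eq_bot_iff]
  by_contra n
  have nX := h.n1 _ n ((Oup_le _).trans (s.le.trans s.l1)) (le_normalizer_Oup s.n1)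
  have l : ncl M₂ (Op p (M₂ ⊓ M₁)) ≤ M₂ ⊓ M₁ := ncl_le_iff.2 fun y hy => le_inf
    (cj_le_of_mem hy ((Op_le _ _).trans inf_le_left)) (by
      have e := cj_eq_of_mem_normalizer (s.n2 (inv_mem hy))
      have : Sn (cj y⁻¹ A) (M₂ ⊓ M₁) := (Sn.of_normal (e ▸ cj_mono _ s.le) (by
        rw [← cj_normalizer, ← e]; exact cj_mono _ (s.l1.trans s.n1))).trans
          (.of_normal (le_inf s.l2 s.l1) (inf_le_left.trans s.n2))
      have := Op_le_normalizer_Oup (p := p) this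
      rw [← cj_Oup, ← cj_normalizer] at this
      exact (cj_mono _ (this.trans (cj_mono _ nX))).trans (cj_cj_inv y M₁).le)
  refine h.symm.grow (Q := Op p M₂) ((Op_le_normalizer_Oup s.sn).trans nX) le_rfl
    (h.symm.n1 _ k (Op_le _ _) (le_normalizer_Op le_normalizer)) (inf_le_Op_inf.trans (le_Op ?_
      (Op_isPGroup p _)))
  exact (Sn.of_normal (le_ncl _ _) (l.trans (le_normalizer_Op le_normalizer))).trans
    (sn_ncl_self ((Op_le _ _).trans inf_le_left))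

theorem Lay_le_normalizer_of_sn (h : Sn A M) : Lay M ≤ normalizer (A : Set G) :=
  Lay_le_iff.2 fun _ k => (k.le_or_comm h).elim (·.trans le_normalizer) le_normalizer_of_commutator_eq_bot

theorem TW.Fit_eq [Fact p.Prime] (h : TW M₁ M₂) (s : SC M₁ M₂ A B) (h0 : A ≠ ⊥) (k : Op p M₂ ≠ ⊥) :
    Fit M₂ = Op p M₂ := le_antisymm (Fit_le_of fun q _ => by
  by_cases e : q = p
  · rw [e]
  · by_cases k2 : Op q M₂ = ⊥
    · exact k2 ▸ bot_le
    · exact absurd (isPGroup_coprime_eq_bot (h.pg s k) (coprime_of_isPGroup_ne e (h.pg s k2))) h0)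
  (Op_le_Fit p _)

theorem TW.lay {A' B' : Subgroup G} (h : TW M₁ M₂) (s : SC M₁ M₂ A B) (h0 : A ≠ ⊥)
    (s' : SC M₂ M₁ A' B') (h0' : A' ≠ ⊥) : Lay M₂ = ⊥ := by
  have nA := h.n1 _ h0 (s.le.trans s.l1) s.n1
  have l2 := (Lay_le_normalizer_of_sn s.sn).trans nA
  have l1 := (Lay_le_normalizer_of_sn s'.sn).trans (h.symm.n1 _ h0' (s'.le.trans s'.l1) s'.n1)
  have l : Lay M₁ ≤ Lay M₂ := Lay_le_iff.2 fun K k => by
    have kD := k.mono (le_inf k.le (k.le_Lay.trans l1)) inf_le_left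
    refine (kD.le_or_comm (.of_normal (le_inf l2 (Lay_le _)) (inf_le_right.trans
      (le_normalizer_Lay le_normalizer)))).resolve_right fun c => ?_
    haveI := Fit_nilpotent M₂
    refine k.qs.not_le_solvable (inferInstance : Group.IsSolvable (Fit M₂))
      (le_Fit_of_comm_Fs' (k.le_Lay.trans l1) (Fs_eq M₂ ▸ comm_bot_sup_right c ?_))
    by_cases f : Fit M₂ = ⊥
    · rw [f, commutator_bot_right]
    obtain ⟨p, hp, f⟩ := exists_Op_ne_bot_of_Fit f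
    haveI := Fact.mk hp
    have pA := h.pg s f
    rw [h.Fit_eq s h0 f, ← Oup_eq_self_of_perfect (p := p) k.perf]
    refine pxq pA (Op_isPGroup p _) (comm_bot_mono k.comm_Fit le_rfl (le_Fit (.of_normal
      (s.le.trans s.l1) s.n1) pA.isNilpotent)) (s.sn.le.trans (le_normalizer_Op le_normalizer))
      ((k.le_Lay.trans l1).trans (le_normalizer_Op le_normalizer)) (comm_bot_mono kD.comm_Fit le_rfl ?_)
    exact ((inf_le_inf_left _ ((centralizer_le_normalizer _).trans nA)).trans inf_le_Op_inf).trans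
      (Op_le_Fit p _)
  obtain ⟨g, e⟩ := h.cg
  have e2 := eq_of_le_of_card_ge l (by rw [e, ← cj_Lay, card_cj])
  exact by_contra fun n => h.not_le ((le_normalizer_Lay le_normalizer).trans (e2 ▸ h.n1 _ (e2 ▸ n)
    (Lay_le _) (le_normalizer_Lay le_normalizer)))

theorem TW.main {A' B' : Subgroup G} (h : TW M₁ M₂) (s : SC M₁ M₂ A B) (h0 : A ≠ ⊥)
    (s' : SC M₂ M₁ A' B') (h0' : A' ≠ ⊥) : ∃ p : ℕ, p.Prime ∧ IsPGroup p A ∧ IsPGroup p A' ∧
      Fs M₁ = Op p M₁ ∧ Fs M₂ = Op p M₂ := by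
  have e2 := Fs_eq_Fit_iff.2 (h.lay s h0 s' h0')
  have e1 := Fs_eq_Fit_iff.2 (h.symm.lay s' h0' s h0)
  obtain ⟨p, hp, f⟩ := exists_Op_ne_bot_of_Fit (e1 ▸ mt Fs_eq_bot_iff.1 fun e =>
    h0 (eq_bot_iff.2 (e ▸ s.le.trans s.l1)))
  haveI := Fact.mk hp
  exact ⟨p, hp, h.pg s (h.Op_ne f), h.symm.pg s' f, e1.trans (h.symm.Fit_eq s' h0' f),
    e2.trans (h.Fit_eq s h0 (h.Op_ne f))⟩

omit [Finite G] in
theorem sc_co (M₁ M₂ : Subgroup G) :
    SC M₁ M₂ (co M₁ (co M₁ (M₁ ⊓ M₂) ⊓ co M₂ (M₁ ⊓ M₂))) (co M₂ (M₁ ⊓ M₂)) :=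
  ⟨(co_le _ _).trans (inf_le_left.trans inf_le_right), (co_le _ _).trans (inf_le_left.trans inf_le_left),
    (co_le _ _).trans inf_le_right, co_norm _ _, co_norm _ _⟩

omit [Finite G] in
theorem sc_co' (M₁ M₂ : Subgroup G) :
    SC M₂ M₁ (co M₂ (co M₁ (M₁ ⊓ M₂) ⊓ co M₂ (M₁ ⊓ M₂))) (co M₁ (M₁ ⊓ M₂)) := by
  rw [inf_comm M₁, inf_comm (co M₁ _)]; exact sc_co _ _

omit [Finite G] in
theorem relIndex_dvd_of_norm (h1 : A ≤ B) (h2 : B ≤ normalizer (X : Set G)) [Finite G] :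
    X.relIndex A ∣ X.relIndex B := by
  rw [← relIndex_sup_of_le_normalizer (h1.trans h2), ← relIndex_sup_of_le_normalizer h2]
  exact relIndex_dvd_of_le_of_le le_sup_right (sup_le_sup_right h1 _)

theorem relIndex_inf_dvd {ι : Type*} (N : ι → Subgroup G) (hN : ∀ i, A ≤ normalizer (N i : Set G))
    (s : Finset ι) : (A ⊓ s.inf N).relIndex A ∣ ∏ i ∈ s, (N i).relIndex A := by
  classical
  induction s using Finset.induction_on with
  | empty => simp
  | insert i s hi ih =>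
    rw [Finset.inf_insert, Finset.prod_insert hi, inf_left_comm, ← relIndex_inf_mul_relIndex,
      inf_eq_left.2 inf_le_left]
    exact mul_dvd_mul (relIndex_dvd_of_norm inf_le_left (hN i)) ih

theorem co_co_index {d : ℕ} (h1 : M₂.relIndex M₁ = d) (h2 : M₁.relIndex M₂ = d) :
    (co M₁ (co M₁ (M₁ ⊓ M₂) ⊓ co M₂ (M₁ ⊓ M₂))).relIndex M₁ ∣ d.factorial * (d - 1).factorial ^ d := by
  classical
  set A := co M₁ (M₁ ⊓ M₂)
  set B := co M₂ (M₁ ⊓ M₂)
  have lA : A ≤ M₁ ⊓ M₂ := (co_le _ _).trans inf_le_left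
  have lB : B ≤ M₁ ⊓ M₂ := (co_le _ _).trans inf_le_left
  have nB : M₁ ⊓ M₂ ≤ normalizer (B : Set G) := inf_le_right.trans (co_norm _ _)
  have d0 : 0 < d := h1 ▸ Nat.pos_of_ne_zero (index_ne_zero_of_finite (H := M₂.subgroupOf M₁))
  have iB : B.relIndex A ∣ (d - 1).factorial := by
    have := co_index M₂ (M₁ ⊓ M₂)
    rw [← relIndex_mul_relIndex _ _ _ lB inf_le_right, inf_relIndex_right, h2,
      ← Nat.mul_factorial_pred d0.ne', mul_comm] at this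
    exact (relIndex_dvd_of_norm lA nB).trans (Nat.dvd_of_mul_dvd_mul_left d0 this)
  haveI := Fintype.ofFinite (M₁ ⧸ M₂.subgroupOf M₁)
  let N : M₁ ⧸ M₂.subgroupOf M₁ → Subgroup G := fun i => cj (i.out : G) B
  have cA : ∀ m : M₁, cj (m : G) A = A := fun m => cj_eq_of_mem_normalizer (co_norm _ _ m.2)
  have i2 := relIndex_inf_dvd N (A := A) (fun i => by
    rw [← cj_normalizer, ← cA i.out]; exact cj_mono _ (lA.trans nB)) Finset.univ
  rw [Finset.prod_congr rfl (g := fun _ => B.relIndex A) fun i _ => by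
    conv_lhs => rw [← cA i.out]
    exact relIndex_map_map_of_injective (f := (MulAut.conj (i.out : G)).toMonoidHom) _ _
      (MulAut.conj _).injective,
    Finset.prod_const, Finset.card_univ, ← Nat.card_eq_fintype_card,
    show Nat.card (M₁ ⧸ M₂.subgroupOf M₁) = d from h1] at i2
  have l : A ⊓ Finset.univ.inf N ≤ co M₁ (A ⊓ B) := fun x hx => ⟨⟨x, (lA hx.1).1⟩, fun b => by
    refine ⟨(mem_normalizer_iff.1 (co_norm _ _ b.2) x).1 hx.1, ?_⟩
    obtain ⟨k, e⟩ := QuotientGroup.mk_out_eq_mul (M₂.subgroupOf M₁) b⁻¹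
    have := Finset.inf_le (f := N) (Finset.mem_univ (QuotientGroup.mk b⁻¹)) hx.2
    simp only [N, e] at this
    rw [coe_mul, ← cj_cj, cj_eq_of_mem_normalizer (nB ⟨k.1.2, k.2⟩), mem_cj] at this
    simpa using this, rfl⟩
  refine (relIndex_dvd_of_le_left _ l).trans ?_
  rw [← relIndex_mul_relIndex _ _ _ inf_le_left (lA.trans inf_le_left), mul_comm]
  refine mul_dvd_mul ?_ (i2.trans (pow_dvd_pow_of_dvd iB d))
  have := co_index M₁ (M₁ ⊓ M₂)
  rwa [inf_relIndex_left, h1] at this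

theorem TW.relIndex_eq (h : TW M₁ M₂) : M₁.relIndex M₂ = M₂.relIndex M₁ := by
  obtain ⟨g, e⟩ := h.cg
  have e1 := card_inf_mul_relIndex M₁ M₂
  have e2 := card_inf_mul_relIndex M₂ M₁
  rw [inf_comm, ← card_cj g M₁, ← e, ← e1] at e2
  exact (Nat.eq_of_mul_eq_mul_left Nat.card_pos e2).symm

theorem TW.cases (h : TW M₁ M₂) {d : ℕ} (h1 : M₂.relIndex M₁ = d) :
    Nat.card M₁ ∣ d.factorial * (d - 1).factorial ^ d ∨
      (co M₁ (co M₁ (M₁ ⊓ M₂) ⊓ co M₂ (M₁ ⊓ M₂)) ≠ ⊥ ∧ co M₂ (co M₁ (M₁ ⊓ M₂) ⊓ co M₂ (M₁ ⊓ M₂)) ≠ ⊥) := by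
  have h2 := h.relIndex_eq.trans h1
  by_contra! k
  refine k.1 ?_
  by_cases e : co M₁ (co M₁ (M₁ ⊓ M₂) ⊓ co M₂ (M₁ ⊓ M₂)) = ⊥
  · simpa [e] using co_co_index h1 h2
  · obtain ⟨g, e2⟩ := h.cg
    have := co_co_index h2 h1
    rwa [inf_comm M₂, inf_comm (co M₂ _), k.2 e, relIndex_bot_left, e2, card_cj] at this

open MulAction in
theorem tw_perm {Ω : Type*} [MulAction G Ω] [FaithfulSMul G Ω] (hprim : IsPreprimitive G Ω) (a b : Ω)
    {d : ℕ} (hd : Nat.card (orbit (stabilizer G a) b) = d) (h2 : 2 ≤ d) :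
    TW (stabilizer G a) (stabilizer G b) ∧ (stabilizer G b).relIndex (stabilizer G a) = d := by
  have i : (stabilizer G b).relIndex (stabilizer G a) = d := by
    rw [← hd, Nat.card_coe_set_eq, ← index_stabilizer]; rfl
  have n : stabilizer G a ≠ stabilizer G b := fun e => by
    rw [e, relIndex_self] at i; omega
  haveI : Nontrivial Ω := ⟨a, b, fun e => n (by rw [e])⟩
  obtain ⟨g, rfl⟩ := hprim.exists_smul_eq a b
  refine ⟨tw_of_coatom (IsPreprimitive.isCoatom_stabilizer_of_isPreprimitive G a)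
    (eq_bot_iff.2 fun x hx => eq_of_smul_eq_smul (α := Ω) fun w => ?_) n
    (stabilizer_smul_eq_stabilizer_map_conj g a), i⟩
  obtain ⟨k, rfl⟩ := hprim.exists_smul_eq a w
  have : (k⁻¹ * x * k⁻¹⁻¹) • a = a := hx k⁻¹
  rwa [inv_inv, mul_smul, mul_smul, inv_smul_eq_iff, ← one_smul G (k • a), smul_smul, mul_one] at this

end CfsgH9
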