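import Mathlib

/-! Hall-Higman Theorem B: linear algebra (Schur, Fourier inversion, the critical case, Clifford). -/

set_option autoImplicit false
open Module Function
open LinearMap hiding smul_apply add_apply comp_apply

namespace CfsgTB

section alg
variable {K A : Type*} [Field K] [Ring A] [Algebra K A] {p : ℕ} [hp : Fact p.Prime] [CharP K p]

include K in
theorem geom_eq (a : A) (k : ℕ) : ∑ i ∈ Finset.range (p ^ k), a ^ i = (a - 1) ^ (p ^ k - 1) := by
  have h : ∑ i ∈ Finset.range (p ^ k), (Polynomial.X : Polynomial K) ^ i =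
      (Polynomial.X - 1) ^ (p ^ k - 1) := by
    refine mul_right_cancel₀ (Polynomial.X_sub_C_ne_zero (1 : K)) ?_
    rw [Polynomial.C_1, geom_sum_mul, ← pow_succ, Nat.sub_add_cancel (Nat.one_le_pow _ _ hp.out.pos),
      sub_pow_char_pow, one_pow]
  simpa using congrArg (Polynomial.aeval a) h

include K in
theorem sub_one_pow (a : A) (k : ℕ) : (a - 1) ^ p ^ k = a ^ p ^ k - 1 := by
  rw [← geom_sum_mul, geom_eq (K := K), ← pow_succ, Nat.sub_add_cancel (Nat.one_le_pow _ _ hp.out.pos)]

end alg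

variable {K U V : Type*} [Field K] [AddCommGroup U] [Module K U] [AddCommGroup V] [Module K V]

theorem tr_kill {p k s : ℕ} [hp : Fact p.Prime] [CharP K p] {T : End K U} (hT : T ^ p ^ k = 1)
    (hs : (T - 1) ^ s = 0) (ψ : End K U) {w : U} (hw : ((T - 1) ^ (p ^ k - s)) w = 0) :
    ∑ i ∈ Finset.range (p ^ k), (T ^ i * ψ * T ^ (p ^ k - i)) w = 0 := by
  obtain ⟨h, hh⟩ : ∃ h, p ^ k = h + 1 := ⟨_, (Nat.sub_add_cancel (Nat.one_le_pow _ _ hp.out.pos)).symm⟩
  let L : End K U →* End K (End K U) := Algebra.lmul K (End K U)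
  let R : End K U → End K (End K U) := mulRight K
  have c : ∀ a b, Commute (L a) (R b) := fun a b => by ext1 x; exact (mul_assoc a x b).symm
  have r : ∀ a i, R a ^ i = R (a ^ i) := fun a i => pow_mulRight K _ a i
  have e : L T * R (T ^ h) - 1 = (L (T - 1) + -R (T - 1)) * R (T ^ h) := by
    ext1 x
    have : T ^ h * T = 1 := by rw [← pow_succ, ← hh, hT]
    simp [L, R, mul_sub, sub_mul, mul_assoc, this]
  have := congrArg (fun φ : End K (End K U) => φ ψ w) (geom_eq (K := K) (p := p) (L T * R (T ^ h)) k)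
  rw [e, Commute.mul_pow, (c _ _).neg_right.add_pow', hh, Nat.add_sub_cancel] at this
  swap
  · have z : Commute (R (T - 1)) (R (T ^ h)) := LinearMap.ext fun x => by
      simp [R, mul_assoc, (((Commute.refl T).sub_right (.one_right T)).pow_left h).eq]
    exact (c _ _).add_left z.neg_left
  simp only [LinearMap.sum_apply, Finset.sum_mul] at this ⊢
  rw [hh]
  refine (Finset.sum_congr rfl fun i hi => ?_).trans (this.trans (Finset.sum_eq_zero fun m hm => ?_))
  · rw [(c _ _).mul_pow, r, ← map_pow, ← pow_mul]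
    have : T ^ (h * i) = T ^ (h + 1 - i) := by
      have a : T ^ (h + 1 - i) * T ^ i = 1 := by
        rw [← pow_add, Nat.sub_add_cancel (Finset.mem_range.1 hi).le, ← hh, hT]
      have b : T ^ i * T ^ (h * i) = 1 := by
        rw [← pow_add, show i + h * i = (h + 1) * i by ring, pow_mul, ← hh, hT, one_pow]
      rw [← one_mul (T ^ (h * i)), ← a, mul_assoc, b, mul_one]
    simp [L, R, this, mul_assoc]
  · rw [neg_pow, r, r, ← map_pow]
    rw [Finset.HasAntidiagonal.mem_antidiagonal] at hm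
    by_cases a : s ≤ m.1
    · simp [pow_eq_zero_of_le a hs, L]
    obtain ⟨j, hj⟩ : ∃ j, m.2 = j + (p ^ k - s) := ⟨m.2 - (p ^ k - s), by omega⟩
    have b : ((T ^ h) ^ h * (T - 1) ^ m.2) w = 0 := by rw [hj, pow_add, ← mul_assoc, End.mul_apply, hw, map_zero]
    rw [End.mul_apply] at b
    rcases neg_one_pow_eq_or (End K (End K U)) m.2 with z | z <;> simp [z, L, R, b]

theorem tr1 [FiniteDimensional K U] (f : Dual K U) (v : U) : trace K U (f.smulRight v) = f v :=
  (congrArg _ (by ext; simp)).trans (trace_eq_contract_apply K U (f ⊗ₜ v))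

section irr
variable [IsAlgClosed K] [FiniteDimensional K U] [Nontrivial U] {Q : Type*} [Group Q]
  {σ : Representation K Q U} (hi : ∀ W : Submodule K U, (∀ g, ∀ v ∈ W, σ g v ∈ W) → W = ⊥ ∨ W = ⊤)
include hi

theorem schur {φ : End K U} (h : ∀ g, φ * σ g = σ g * φ) : ∃ c : K, ∀ v, φ v = c • v := by
  obtain ⟨c, hc⟩ := End.exists_eigenvalue φ
  refine ⟨c, fun v => End.mem_eigenspace_iff.1 ?_⟩
  rw [(hi (φ.eigenspace c) fun g v hv => ?_).resolve_left hc]
  · trivial
  · rw [End.mem_eigenspace_iff] at hv ⊢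
    rw [← End.mul_apply, h, End.mul_apply, hv, map_smul]

theorem fourier [Fintype Q] (hQ : (Fintype.card Q : K) ≠ 0) :
    ∃ κ : K, ∀ φ : End K U, φ = ∑ g, (κ * trace K U (φ * σ g⁻¹)) • σ g := by
  have key : ∀ (f : Dual K U) (w : U), ∃ c : K, (∀ v, ∑ g, f (σ g⁻¹ v) • σ g w = c • v) ∧
      c * finrank K U = Fintype.card Q * f w := fun f w => by
    obtain ⟨c, hc⟩ := schur hi (φ := ∑ g, σ g * f.smulRight w * σ g⁻¹) fun h => by
      rw [Finset.sum_mul, Finset.mul_sum]
      exact Fintype.sum_equiv (Equiv.mulLeft h⁻¹) _ _ fun g => by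
        simp [← mul_assoc, ← map_mul, mul_assoc _ (σ g⁻¹)]
    refine ⟨c, fun v => by simpa using hc v, ?_⟩
    have := congrArg (trace K U) (LinearMap.ext hc : _ = c • LinearMap.id)
    rw [map_sum, Finset.sum_congr rfl fun g _ => trace_mul_comm K _ _, map_smul, trace_id] at this
    simpa [← mul_assoc, ← map_mul, tr1] using this.symm
  have d0 : (finrank K U : K) ≠ 0 := fun e => by
    obtain ⟨w, hw⟩ := exists_ne (0 : U)
    obtain ⟨f, hf⟩ := Projective.exists_dual_eq_one K hw
    obtain ⟨c, -, hc⟩ := key f w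
    simp [e, hf, hQ.symm] at hc
  refine ⟨finrank K U / Fintype.card Q, fun φ => ?_⟩
  obtain ⟨t, rfl⟩ := (dualTensorHomEquiv K U U).surjective φ
  induction t using TensorProduct.induction_on with
  | zero => simp
  | add a b ha hb =>
    simp only [map_add, add_mul, mul_add, add_smul, Finset.sum_add_distrib, ← ha, ← hb]
  | tmul f v =>
    ext w
    obtain ⟨c, c1, c2⟩ := key f w
    have e : ∀ g, dualTensorHomEquiv K U U (f ⊗ₜ v) * σ g = smulRight (f ∘ₗ σ g) v := fun g => by
      ext; simp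
    simp only [e, tr1, LinearMap.sum_apply, LinearMap.smul_apply, mul_smul, ← Finset.smul_sum, LinearMap.comp_apply, c1]
    rw [smul_smul, div_mul_eq_mul_div, mul_comm, c2, mul_div_cancel_left₀ _ hQ]
    simp

theorem rank_one (h : ∀ a b, σ a * σ b = σ b * σ a) : finrank K U = 1 := by
  obtain ⟨w, hw⟩ := exists_ne (0 : U)
  rw [← finrank_top, ← (hi (K ∙ w) fun g v hv => ?_).resolve_left (by simpa), finrank_span_singleton hw]
  obtain ⟨c, hc⟩ := schur hi (h g)
  exact hc v ▸ Submodule.smul_mem _ _ hv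

theorem crit [Finite Q] (hQ : (Nat.card Q : K) ≠ 0) {p k s : ℕ} [hp : Fact p.Prime] [CharP K p]
    (α : MulAut Q) {T : End K U} (hT : ∀ g, T * σ g = σ (α g) * T) (h1 : T ^ p ^ k = 1)
    (hα : α ^ p ^ k = 1) (hf : ∀ g i, 0 < i → i < p ^ k → (α ^ i) g = g → ∃ c : K, ∀ v, σ g v = c • v)
    (hs : (T - 1) ^ s = 0) (T1 : T ≠ 1) : p ^ k ≤ s ∨ s + 1 = p ^ k ∧ finrank K U = s := by
  classical
  haveI := Fintype.ofFinite Q
  obtain ⟨κ, hκ⟩ := fourier hi (by rwa [← Nat.card_eq_fintype_card])
  have hp0 : 0 < p ^ k := Nat.pos_of_ne_zero (pow_ne_zero _ hp.out.ne_zero)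
  have u : ∀ i ≤ p ^ k, T ^ i * T ^ (p ^ k - i) = 1 := fun i a => by
    rw [← pow_add, Nat.add_sub_cancel' a, h1]
  have t : ∀ i g, T ^ i * σ g = σ ((α ^ i) g) * T ^ i := fun i g => by
    induction i with
    | zero => simp
    | succ i ih => rw [pow_succ', mul_assoc, ih, ← mul_assoc, hT, pow_succ', mul_assoc]; rfl
  have t' : ∀ i ≤ p ^ k, ∀ g, σ ((α ^ i) g) = T ^ i * σ g * T ^ (p ^ k - i) := fun i a g => by
    rw [t, mul_assoc, u i a, mul_one]
  have key : ∀ s, (T - 1) ^ s = 0 → ∀ φ : End K U, Commute T φ →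
      ∃ c : K, ∀ w, ((T - 1) ^ (p ^ k - s)) w = 0 → φ w = c • w := by
    intro s hs φ hφ
    let P : Q → Prop := fun g => ∃ c : K, ∀ v, σ g v = c • v
    have P1 : ∀ i g, P g → P ((α ^ i) g) := fun i g ⟨c, hc⟩ => ⟨c, fun v => by
      rw [pow_eq_pow_mod i hα, t' _ (Nat.mod_lt _ hp0).le, End.mul_apply, End.mul_apply, hc,
        map_smul, ← End.mul_apply, u _ (Nat.mod_lt _ hp0).le, End.one_apply]⟩
    have P2 : ∀ i ≤ p ^ k, ∀ g, P ((α ^ i) g) → P g := fun i a g h => by
      have := P1 (p ^ k - i) _ h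
      rwa [← MulAut.mul_apply, ← pow_add, Nat.sub_add_cancel a, hα] at this
    choose! c hc using fun g (h : P g) => h
    refine ⟨∑ g with P g, κ * trace K U (φ * σ g⁻¹) * c g, fun w hw => ?_⟩
    refine (LinearMap.congr_fun (hκ φ) w).trans ?_
    rw [← Finset.sum_filter_add_sum_filter_not _ P, LinearMap.add_apply, LinearMap.sum_apply,
      LinearMap.sum_apply, Finset.sum_smul, Finset.sum_cancels_of_partition_cancels
      (s := Finset.filter (¬ P ·) _) (MulAction.orbitRel (Subgroup.zpowers α) Q) fun g hg => ?_, add_zero]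
    · exact Finset.sum_congr rfl fun g hg => by rw [LinearMap.smul_apply, hc g (by simpa using hg), smul_smul]
    have hg : ¬ P g := by simpa using hg
    have := congrArg ((κ * trace K U (φ * σ g⁻¹)) • ·) (tr_kill h1 hs (σ g) hw)
    simp only [smul_zero, Finset.smul_sum] at this
    refine (Finset.sum_bij (fun i _ => (α ^ i) g) (fun i a => ?_) (fun i a j b e => ?_) (fun y a => ?_)
      fun i a => ?_).symm.trans this
    · simp only [Finset.mem_filter, Finset.mem_univ, true_and]
      exact ⟨mt (P2 i (Finset.mem_range.1 a).le g) hg, ⟨⟨_, Subgroup.npow_mem_zpowers α i⟩, rfl⟩⟩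
    · wlog l : i < j generalizing i j
      · exact (not_lt.1 l).eq_or_lt.elim Eq.symm fun l => (this j b i a e.symm l).symm
      rw [Finset.mem_range] at a b
      refine (hg (P2 i a.le g (hf _ (j - i) (by omega) (by omega) ?_))).elim
      rw [← MulAut.mul_apply, ← pow_add, Nat.sub_add_cancel l.le, e]
    · obtain ⟨⟨_, hm⟩, rfl⟩ := (Finset.mem_filter.1 a).2
      obtain ⟨m, rfl⟩ := (mem_powers_iff_mem_zpowers.2 hm)
      exact ⟨m % p ^ k, Finset.mem_range.2 (Nat.mod_lt _ hp0), by rw [← pow_eq_pow_mod m hα]; rfl⟩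
    · have a := (Finset.mem_range.1 a).le
      rw [LinearMap.smul_apply, ← map_inv, t' i a, t' i a, ← mul_assoc, ← mul_assoc, ← (hφ.pow_left i).eq,
        trace_mul_comm K _ (T ^ _), ← mul_assoc, ← mul_assoc, ← pow_add, Nat.sub_add_cancel a, h1, one_mul]
  generalize hN : T - 1 = N at *
  have cN : Commute T N := hN ▸ (Commute.refl T).sub_right (.one_right T)
  have N0 : N ≠ 0 := fun e => T1 (sub_eq_zero.1 (hN.trans e))
  have ex : ∃ s, N ^ s = 0 := ⟨s, hs⟩
  obtain ⟨m, m1, m2⟩ : ∃ m, N ^ (m + 1) ≠ 0 ∧ N ^ (m + 2) = 0 := by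
    have a := Nat.find_spec ex
    have b : 2 ≤ Nat.find ex := (Nat.le_find_iff _ _).2 fun i hi => by interval_cases i <;> simpa
    exact ⟨Nat.find ex - 2, Nat.find_min ex (by omega), by rwa [Nat.sub_add_cancel b]⟩
  obtain ⟨v, hv⟩ : ∃ v, (N ^ (m + 1)) v ≠ 0 := by
    by_contra! a; exact m1 (LinearMap.ext a)
  have kl : ∀ {i j w}, i ≤ j → (N ^ i) w = 0 → (N ^ j) w = 0 := fun {i j w} a b => by
    rw [← Nat.sub_add_cancel a, pow_add, End.mul_apply, b, map_zero]
  have k1 : (N ^ 1) ((N ^ (m + 1)) v) = 0 := by rw [← End.mul_apply, ← pow_add, add_comm, m2]; rfl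
  have ms : m + 2 ≤ s := by
    by_contra a; exact m1 (pow_eq_zero_of_le (by omega) hs)
  refine (le_or_gt _ _).imp_right fun l => ?_
  have k2 : m + 3 = p ^ k := by
    by_contra a
    obtain ⟨c, hc⟩ := key _ m2 N cN
    have b := hc _ (kl (by omega) k1)
    rw [show N _ = 0 by simpa using k1, eq_comm, smul_eq_zero, or_iff_left hv] at b
    have := hc ((N ^ m) v) (kl (i := 2) (by omega) (by rw [← End.mul_apply, ← pow_add, add_comm, m2]; rfl))
    rw [b, zero_smul, ← End.mul_apply, ← pow_succ'] at this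
    exact hv this
  obtain rfl : s = m + 2 := by omega
  refine ⟨k2, le_antisymm ?_ ?_⟩
  · obtain ⟨f, hf⟩ := Projective.exists_dual_eq_one K hv
    let φ : End K U := ∑ i ∈ Finset.range (m + 2), smulRight (f ∘ₗ N ^ (m + 1 - i)) ((N ^ i) v)
    have c : N * φ = φ * N := by
      let a := fun i => smulRight (f ∘ₗ N ^ (m + 2 - i)) ((N ^ i) v)
      have := (Finset.sum_range_succ' a (m + 2)).symm.trans (Finset.sum_range_succ a (m + 2))
      rw [show a 0 = 0 by ext; simp [a, hs], show a (m + 2) = 0 by ext; simp [a, hs], add_zero,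
        add_zero] at this
      rw [Finset.mul_sum, Finset.sum_mul]
      refine (Finset.sum_congr rfl fun i _ => ?_).trans (this.trans (Finset.sum_congr rfl fun i hi => ?_))
      · ext; simp [a, pow_succ']
      · ext w
        simp [a, show m + 2 - i = m + 1 - i + 1 by have := Finset.mem_range.1 hi; omega, pow_succ]
    obtain ⟨e, he⟩ := key _ hs φ (by
      rw [← sub_add_cancel T 1, hN]; exact Commute.add_left c (.one_left _))
    rw [← k2, show m + 3 - (m + 2) = 1 by omega] at he
    have e1 : e = 1 := by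
      have := he _ k1
      rw [LinearMap.sum_apply, Finset.sum_range_succ, Finset.sum_eq_zero fun i hi => ?_] at this
      · simpa [hf, hv] using (smul_left_injective K hv ((one_smul _ _).trans (by simpa [hf] using this))).symm
      · have := Finset.mem_range.1 hi
        simp [kl (show 1 ≤ m + 1 - i by omega) k1]
    have inj : Injective φ := (injective_iff_map_eq_zero _).2 fun w hw => by
      have ex : ∃ j, (N ^ j) w = 0 := ⟨_, by rw [hs]; rfl⟩
      obtain ⟨j, hj⟩ : ∃ j, Nat.find ex = j := ⟨_, rfl⟩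
      have a := hj ▸ Nat.find_spec ex
      rcases j with _ | j
      · exact a
      have := he ((N ^ j) w) (by rwa [← End.mul_apply, ← pow_add, add_comm])
      rw [← End.mul_apply, ← (Commute.pow_left c j).eq, End.mul_apply, hw, map_zero, e1, one_smul] at this
      exact (Nat.find_min ex (by omega) this.symm).elim
    refine (finrank_le_of_span_eq_top (v := fun i : Fin (m + 2) => (N ^ i.1) v) ?_).trans (by simp)
    rw [eq_top_iff, ← range_eq_top.2 (injective_iff_surjective.1 inj)]
    rintro _ ⟨w, rfl⟩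
    rw [LinearMap.sum_apply]
    exact sum_mem fun i hi => Submodule.smul_mem _ _ (Submodule.subset_span
      ⟨⟨i, Finset.mem_range.1 hi⟩, rfl⟩)
  · by_contra a
    have := aeval_self_charpoly N
    rw [(isNilpotent_iff_charpoly N).1 ex, map_pow, Polynomial.aeval_X] at this
    exact m1 (pow_eq_zero_of_le (by omega) this)

end irr

end CfsgTB
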