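import Cfsg.Agent.H9.Tb1
import Cfsg.Agent.H9.Cp4

/-! Hall-Higman Theorem B: Clifford theory for a cyclic top, and the main estimate. -/

set_option autoImplicit false
open Subgroup Cfsg CfsgH2 Function Module CfsgCP
open scoped commutatorElement IsMulCommutative

namespace CfsgTB

variable {K V : Type*} [Field K] [AddCommGroup V] [Module K V] {G : Type*} [Group G] [Finite G]
  {ρ : Representation K G V} {Q A B M : Subgroup G} {U W : Submodule K V} {x u : G} {φ π : End K V}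

/-- a submonoid of a finite group as a subgroup. -/
def sg (S : Submonoid G) : Subgroup G where
  toSubmonoid := S
  inv_mem' {x} h := (Submonoid.powers_le.2 h : _ ≤ S) (mem_powers_iff_mem_zpowers.2 (inv_mem (mem_zpowers x)))

/-- the stabilizer of a subspace. -/
def St (ρ : Representation K G V) (U : Submodule K V) : Subgroup G := sg
  { carrier := {g | ∀ v ∈ U, ρ g v ∈ U}
    one_mem' := fun v h => by simpa using h
    mul_mem' := fun a b v h => by simpa using a _ (b v h) }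

/-- the pointwise stabilizer of a subspace. -/
def Fx (ρ : Representation K G V) (U : Submodule K V) : Subgroup G := sg
  { carrier := {g | ∀ v ∈ U, ρ g v = v}
    one_mem' := fun v _ => by simp
    mul_mem' := fun a b v h => by simp [b v h, a v h] }

theorem St_le_norm : St ρ U ≤ N[Fx ρ U] := fun u hu => mem_norm_of_conj fun x hx v hv => by
  simp [hx _ (inv_mem hu v hv)]

theorem map_eq_of_St (h : u ∈ St ρ U) : U.map (ρ u) = U :=
  le_antisymm (Submodule.map_le_iff_le_comap.2 h) fun v hv => ⟨_, inv_mem h v hv, by simp⟩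

/-- irreducible `Q`-submodules. -/
structure Ir (ρ : Representation K G V) (Q : Subgroup G) (U : Submodule K V) : Prop where
  iv : Q ≤ St ρ U
  ne : U ≠ ⊥
  min : ∀ W ≤ U, Q ≤ St ρ W → W = ⊥ ∨ W = U

/-- `Q`-endomorphisms. -/
def Cm (ρ : Representation K G V) (Q : Subgroup G) (φ : End K V) : Prop := ∀ g ∈ Q, φ * ρ g = ρ g * φ

omit [Finite G] in
theorem Cm.app (h : Cm ρ Q φ) (hx : x ∈ Q) (v : V) : φ (ρ x v) = ρ x (φ v) := LinearMap.congr_fun (h x hx) v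

omit [Finite G] in
theorem Cm.mul (h : Cm ρ Q φ) (h' : Cm ρ Q π) : Cm ρ Q (φ * π) := fun g hg => by
  rw [mul_assoc, h' g hg, ← mul_assoc, h g hg, mul_assoc]

omit [Finite G] in
theorem Cm.conj (h : Cm ρ Q φ) (hu : u ∈ N[Q]) : Cm ρ Q (ρ u * φ * ρ u⁻¹) := fun g hg => by
  have := h _ (conj_mem_of_norm' hu hg)
  rw [mul_assoc, ← map_mul, show u⁻¹ * g = u⁻¹ * g * u * u⁻¹ by group, map_mul, mul_assoc, ← mul_assoc φ,
    this, ← mul_assoc, ← mul_assoc, ← map_mul, ← mul_assoc (ρ g), ← mul_assoc (ρ g), ← map_mul]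
  congr 3
  group

theorem Cm.St_map (h : Cm ρ Q φ) (hU : Q ≤ St ρ U) : Q ≤ St ρ (U.map φ) := by
  rintro g hg _ ⟨v, hv, rfl⟩
  exact ⟨_, hU hg v hv, h.app hg v⟩

theorem St_map (hu : u ∈ N[Q]) (hU : Q ≤ St ρ U) : Q ≤ St ρ (U.map (ρ u)) := by
  rintro g hg _ ⟨v, hv, rfl⟩
  exact ⟨_, hU (conj_mem_of_norm' hu hg) v hv, by simp⟩

theorem Ir.map (h : Ir ρ Q U) (hφ : Cm ρ Q φ) (h0 : U.map φ ≠ ⊥) : Ir ρ Q (U.map φ) :=
  ⟨hφ.St_map h.iv, h0, fun W hW iW => (h.min (U ⊓ W.comap φ) inf_le_left fun g hg v hv =>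
    ⟨h.iv hg v hv.1, by simpa [hφ.app hg] using iW hg _ hv.2⟩).imp (fun e => by
      rw [eq_bot_iff]
      intro w hw
      obtain ⟨v, hv, rfl⟩ := hW hw
      rw [(Submodule.mem_bot K).1 (e.le ⟨hv, hw⟩), map_zero]
      exact zero_mem _) fun e => le_antisymm hW (Submodule.map_le_iff_le_comap.2 (e.ge.trans inf_le_right))⟩

theorem exists_proj (hQ : (o[Q] : K) ≠ 0) (hU : Q ≤ St ρ U) :
    ∃ π, Cm ρ Q π ∧ (∀ v, π v ∈ U) ∧ ∀ v ∈ U, π v = v := by
  haveI := Fintype.ofFinite Q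
  obtain ⟨W, hW⟩ := U.exists_isCompl
  let π₀ : End K V := U.subtype ∘ₗ U.projectionOnto W hW
  refine ⟨(o[Q] : K)⁻¹ • ∑ g : Q, ρ g * π₀ * ρ (g⁻¹ : Q), fun h hh => ?_, fun v => ?_, fun v hv => ?_⟩
  · rw [smul_mul_assoc, mul_smul_comm, Finset.sum_mul, Finset.mul_sum]
    exact congrArg _ (Fintype.sum_equiv (Equiv.mulLeft (⟨h, hh⟩⁻¹ : Q)) _ _ fun g => by
      simp [← mul_assoc, ← map_mul, mul_assoc _ (ρ (g : G)⁻¹)])
  · rw [LinearMap.smul_apply, LinearMap.sum_apply]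
    exact U.smul_mem _ (sum_mem fun g _ => hU g.2 _ (Subtype.prop _))
  · rw [LinearMap.smul_apply, LinearMap.sum_apply, Finset.sum_congr rfl (g := fun _ => v) fun g _ => by
      have := congrArg Subtype.val (Submodule.projectionOnto_apply_left hW ⟨_, hU (inv_mem g.2) v hv⟩)
      simp [π₀, this]]
    simp [← Nat.cast_smul_eq_nsmul K, smul_smul, ← Nat.card_eq_fintype_card, hQ]

/-- the inertia group of an irreducible submodule. -/
def II (ρ : Representation K G V) (Q : Subgroup G) (U : Submodule K V) : Subgroup G := sg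
  { carrier := {u | u ∈ N[Q] ∧ ∃ φ, Cm ρ Q φ ∧ U.map φ = U.map (ρ u)}
    one_mem' := ⟨one_mem _, 1, fun _ _ => by simp, by simp⟩
    mul_mem' := fun {a b} ⟨a1, φ, a2, a3⟩ ⟨b1, ψ, b2, b3⟩ => ⟨mul_mem a1 b1, _, (b2.conj a1).mul a2, by
      simp only [End.mul_eq_comp, Submodule.map_comp, a3, map_mul, ← b3]
      rw [← Submodule.map_comp (ρ a), ← End.mul_eq_comp, ← map_mul]
      simp [End.one_eq_id]⟩ }

theorem le_II (h1 : A ≤ N[Q]) (h2 : A ≤ St ρ U) : A ≤ II ρ Q U := fun u hu =>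
  ⟨h1 hu, 1, fun _ _ => by simp, by simp [map_eq_of_St (h2 hu), End.one_eq_id]⟩

theorem Ir.proj (h : Ir ρ Q U) (h1 : Cm ρ Q π) (h2 : ∀ v, π v ∈ U) (hu : u ∈ N[Q]) (h0 : u ∉ II ρ Q U)
    {v : V} (hv : v ∈ U) : π (ρ u v) = 0 := by
  rcases h.min _ (Submodule.map_le_iff_le_comap.2 fun v _ => h2 v) (h1.St_map (St_map hu h.iv)) with a | a
  · exact (Submodule.mem_bot K).1 (a.le ⟨_, ⟨v, hv, rfl⟩, rfl⟩)
  · refine (h0 (inv_mem_iff.1 ⟨inv_mem hu, _, h1.conj (inv_mem hu), ?_⟩)).elim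
    simp only [End.mul_eq_comp, Submodule.map_comp, inv_inv, a]

variable [FiniteDimensional K V]

theorem exists_ir (hW : Q ≤ St ρ W) (h0 : W ≠ ⊥) : ∃ U ≤ W, Ir ρ Q U := by
  obtain ⟨U, ⟨a, b, c⟩, d⟩ := (wellFounded_lt (α := Submodule K V)).has_min
    {U | U ≤ W ∧ Q ≤ St ρ U ∧ U ≠ ⊥} ⟨W, le_rfl, hW, h0⟩
  exact ⟨U, a, b, c, fun X x1 x2 => or_iff_not_imp_left.2 fun e =>
    x1.eq_of_not_lt (d X ⟨x1.trans a, x2, e⟩)⟩

variable [IsAlgClosed K]

theorem Ir.exists_inv (h : Ir ρ Q U) (hQ : (o[Q] : K) ≠ 0) (hu : u ∈ II ρ Q U) (hW : U ≤ W)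
    (uW : u ∈ St ρ W) : ∃ U' ≤ W, Ir ρ Q U' ∧ u ∈ St ρ U' := by
  obtain ⟨π, p1, p2, p3⟩ := exists_proj hQ h.iv
  obtain ⟨u1, φ, f1, f2⟩ := hu
  let H : Submodule K (End K V) :=
    { carrier := {ψ | Cm ρ Q ψ ∧ ψ * π = ψ ∧ ∀ v, ψ v ∈ W}
      add_mem' := fun a b => ⟨fun g hg => by rw [add_mul, mul_add, a.1 g hg, b.1 g hg],
        by rw [add_mul, a.2.1, b.2.1], fun v => add_mem (a.2.2 v) (b.2.2 v)⟩
      zero_mem' := ⟨fun _ _ => by simp, by simp, by simp⟩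
      smul_mem' := fun c _ a => ⟨fun g hg => by rw [smul_mul_assoc, a.1 g hg, mul_smul_comm],
        by rw [smul_mul_assoc, a.2.1], fun v => W.smul_mem c (a.2.2 v)⟩ }
  have pp : π * π = π := LinearMap.ext fun v => p3 _ (p2 v)
  obtain ⟨v, v1, v2⟩ := (Submodule.ne_bot_iff _).1 h.ne
  haveI : Nontrivial H := ⟨⟨π, p1, pp, fun v => hW (p2 v)⟩, 0, fun e => v2 (by
    rw [← p3 v v1, show π = 0 from congrArg Subtype.val e]; rfl)⟩
  obtain ⟨c, hc⟩ := End.exists_eigenvalue ((LinearMap.mulLeftRight K (ρ u, ρ u⁻¹ * φ * π)).restrict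
    (p := H) (q := H) fun ψ a => ⟨by
      simpa [mul_assoc] using ((a.1.conj u1).mul f1).mul p1, by simp [mul_assoc, pp],
      fun v => uW _ (a.2.2 _)⟩)
  obtain ⟨⟨ψ, s1, s2, s3⟩, t1, t2⟩ := hc.exists_hasEigenvector
  have t3 : ρ u * ψ * (ρ u⁻¹ * φ * π) = c • ψ := congrArg Subtype.val (End.mem_eigenspace_iff.1 t1)
  refine ⟨U.map ψ, Submodule.map_le_iff_le_comap.2 fun v _ => s3 v, h.map s1 fun e => t2 (Subtype.ext
    (s2.symm.trans (LinearMap.ext fun v => (Submodule.mem_bot K).1 (e.le ⟨_, p2 v, rfl⟩)))), ?_⟩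
  rintro _ ⟨v, hv, rfl⟩
  obtain ⟨w, w1, w2⟩ := f2.ge ⟨v, hv, rfl⟩
  exact ⟨c • w, U.smul_mem c w1, by simpa [p3 w w1, w2] using (LinearMap.congr_fun t3 w).symm⟩

theorem clifford (hQ : (o[Q] : K) ≠ 0) (hx : x ∈ N[Q]) (hW : Q ≤ St ρ W) (xW : x ∈ St ρ W) (h0 : W ≠ ⊥) :
    ∃ U ≤ W, ∃ e : ℕ, Ir ρ Q U ∧ x ^ e ∈ St ρ U ∧ (∀ m : ℕ, x ^ m ∈ Q → e ∣ m) ∧
      ∀ w : ℕ → V, (∀ i, w i ∈ U) → ∑ i ∈ Finset.range e, ρ (x ^ i) (w i) = 0 → ∀ i < e, w i = 0 := by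
  obtain ⟨U₀, u0⟩ := exists_ir hW h0
  obtain ⟨_, ⟨U₁, ⟨u1, u2⟩, rfl⟩, hm⟩ := (Set.toFinite {B | ∃ U, (U ≤ W ∧ Ir ρ Q U) ∧
    II ρ Q U ⊓ zpowers x = B}).exists_maximal ⟨_, U₀, u0, rfl⟩
  obtain ⟨⟨b, b0⟩, hb⟩ := (isCyclic_of_le (K := zpowers x) inferInstance
    (inf_le_right (a := II ρ Q U₁))).exists_generator
  have l := zpowers_le.2 hx
  obtain ⟨U, u3, u4, u5⟩ := u2.exists_inv hQ b0.1 u1 (zpowers_le.2 xW b0.2)
  have e1 : II ρ Q U₁ ⊓ zpowers x ≤ St ρ U := fun g hg => by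
    obtain ⟨m, hm⟩ := hb ⟨g, hg⟩
    rw [← show b ^ m = g from congrArg Subtype.val hm]
    exact zpow_mem u5 m
  have e2 := (hm ⟨U, ⟨u3, u4⟩, rfl⟩ (le_inf (le_II (inf_le_right.trans l) e1) inf_le_right)).trans e1
  have ex : ∃ e, 0 < e ∧ x ^ e ∈ II ρ Q U := ⟨_, orderOf_pos x, by simp⟩
  classical
  obtain ⟨e3, e4⟩ := Nat.find_spec ex
  have e5 : ∀ m < Nat.find ex, x ^ m ∈ II ρ Q U → m = 0 := fun m a b =>
    by_contra fun c => Nat.find_min ex a ⟨Nat.pos_of_ne_zero c, b⟩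
  refine ⟨U, u3, _, u4, e2 ⟨e4, npow_mem_zpowers _ _⟩, fun m hm => Nat.dvd_of_mod_eq_zero
    (e5 _ (Nat.mod_lt _ e3) ?_), fun w w1 w2 j hj => ?_⟩
  · have := le_II le_normalizer u4.iv hm
    rwa [← Nat.div_add_mod m (Nat.find ex), pow_add, pow_mul, mul_mem_cancel_left (pow_mem e4 _)] at this
  obtain ⟨π, p1, p2, p3⟩ := exists_proj hQ u4.iv
  have := congrArg (fun v => π (ρ (x ^ j)⁻¹ v)) w2
  simp only [map_sum, map_zero] at this
  rw [Finset.sum_eq_single_of_mem j (Finset.mem_range.2 hj) fun i hi ij => ?_] at this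
  · rwa [← End.mul_apply (ρ _), ← map_mul, inv_mul_cancel, map_one, End.one_apply, p3 _ (w1 j)] at this
  rw [← End.mul_apply (ρ _), ← map_mul]
  refine u4.proj p1 p2 (mul_mem (inv_mem (pow_mem hx _)) (pow_mem hx _)) (fun a => ?_) (w1 i)
  rw [Finset.mem_range] at hi
  rcases lt_or_gt_of_ne ij with c | c
  · rw [← inv_mem_iff, mul_inv_rev, inv_inv, ← Nat.add_sub_cancel' c.le, pow_add, inv_mul_cancel_left] at a
    have := e5 _ (by omega) a
    omega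
  · rw [← Nat.add_sub_cancel' c.le, pow_add, inv_mul_cancel_left] at a
    have := e5 _ (by omega) a
    omega

theorem Ir.dim {q : ℕ} [hq : Fact q.Prime] (h0 : (q : K) ≠ 0) (Q : Subgroup G) :
    PG[q, Q] → ∀ U, Ir ρ Q U → ∃ b, finrank K U = q ^ b := by
  induction Q using WellFoundedLT.induction with
  | _ Q ih =>
  intro hQ U h
  by_cases z : Q = ⊥
  · obtain ⟨v, v1, v2⟩ := (Submodule.ne_bot_iff _).1 h.ne
    rw [← (h.min _ ((Submodule.span_singleton_le_iff_mem _ _).2 v1) (z ▸ bot_le)).resolve_left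
      (by simpa), finrank_span_singleton v2]
    exact ⟨0, rfl⟩
  obtain ⟨M, -, m1, m2, m3⟩ := exists_maximal_sub hQ (bot_lt_iff_ne_bot.2 z)
  have m4 : M < Q := m1.lt_of_ne fun e => hq.out.ne_one (by rw [← m3, e, relIndex_self])
  obtain ⟨g, g1, g2⟩ := SetLike.exists_of_lt m4
  obtain ⟨k, hk⟩ := exists_card_eq_pow (hQ.to_le m1)
  obtain ⟨U', u1, e, u2, u3, u4, u5⟩ := clifford (ρ := ρ) (by rw [hk]; simp [h0]) (m2 g1) (m1.trans h.iv)
    (h.iv g1) h.ne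
  obtain ⟨b, hb⟩ := ih M m4 (hQ.to_le m1) U' u2
  have e1 := (Nat.dvd_prime hq.out).1 (u4 q (m3 ▸ pow_relIndex_mem' m2 g1))
  let Ψ : (Fin e → U') →ₗ[K] V := ∑ i : Fin e, ρ (g ^ i.1) ∘ₗ U'.subtype ∘ₗ LinearMap.proj i
  have inj : Injective Ψ := (injective_iff_map_eq_zero _).2 fun w hw => funext fun j => by
    have := u5 (fun i => if c : i < e then w ⟨i, c⟩ else 0) (fun i => by split_ifs <;> simp)
      (by simpa [Ψ, Finset.sum_range] using hw) j j.2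
    simpa using this
  have r : LinearMap.range Ψ = U := by
    let S : Submodule K V := ⨆ i : ℕ, U'.map (ρ (g ^ i))
    have s1 : U = S := ((h.min S (iSup_le fun i => Submodule.map_le_iff_le_comap.2 fun v hv =>
      h.iv (pow_mem g1 i) v (u1 hv)) ?_).resolve_left fun a => u2.ne (le_bot_iff.1 (le_trans ?_ a.le))).symm
    · refine le_antisymm ?_ (s1.le.trans (iSup_le fun i => ?_))
      · rintro _ ⟨w, rfl⟩
        rw [LinearMap.sum_apply]
        exact sum_mem fun i _ => h.iv (pow_mem g1 _) _ (u1 (w i).2)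
      · rintro _ ⟨v, hv, rfl⟩
        have e0 : 0 < e := by have := hq.out.pos; omega
        refine ⟨Pi.single ⟨i % e, Nat.mod_lt _ e0⟩ ⟨_, pow_mem u3 (i / e) v hv⟩, ?_⟩
        rw [LinearMap.sum_apply, Finset.sum_eq_single ⟨i % e, Nat.mod_lt _ e0⟩ (fun j _ a => by simp [a])
          (by simp)]
        simp [← End.mul_apply, ← map_mul, ← pow_mul, ← pow_add, Nat.mod_add_div]
    · rw [← CfsgH1.sup_zpowers_eq_of_prime (m3 ▸ hq.out) m1 g1 g2]
      refine sup_le (fun m hm => ?_) (zpowers_le.2 ?_) <;>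
        refine (iSup_le fun i => ?_ : S ≤ S.comap (ρ _))
      · exact fun v hv => le_iSup (fun i => U'.map (ρ (g ^ i))) i (St_map (pow_mem (m2 g1) i) u2.iv hm v hv)
      · rintro _ ⟨v, hv, rfl⟩
        exact le_iSup (fun i => U'.map (ρ (g ^ i))) (i + 1) ⟨v, hv, by simp [pow_succ']⟩
    · exact le_trans (by simp [End.one_eq_id]) (le_iSup _ 0)
  rw [← r, LinearMap.finrank_range_of_inj inj, finrank_pi_fintype, Finset.sum_const, Finset.card_fin, hb]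
  rcases e1 with rfl | rfl
  · exact ⟨b, one_smul _ _⟩
  · exact ⟨b + 1, (pow_succ' _ _).symm⟩

end CfsgTB
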