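import Cfsg.Agent.H9.Tb2

/-! Hall-Higman Theorem B. -/

set_option autoImplicit false
open Subgroup Cfsg CfsgH2 Function Module CfsgCP
open scoped commutatorElement IsMulCommutative

namespace CfsgTB

variable {K V : Type*} [Field K] [AddCommGroup V] [Module K V] {G : Type*} [Group G] [Finite G]
  {ρ : Representation K G V} {Q A B M Y : Subgroup G} {U W : Submodule K V} {x u : G} {φ π : End K V}
  {p q n r s k : ℕ}

/-- restriction to an invariant subspace. -/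
def res (ρ : Representation K G V) (U : Submodule K V) : Representation K (St ρ U) U :=
  Representation.subrepresentation (ρ.comp (St ρ U).subtype) U fun g v hv => g.2 v hv

theorem res_apply (g : St ρ U) (v : U) : (res ρ U g v : V) = ρ g v := rfl

theorem res_pow (g : St ρ U) (s : ℕ) (v : U) : (((res ρ U g - 1) ^ s) v : V) = ((ρ g - 1) ^ s) v := by
  induction s with
  | zero => rfl
  | succ s ih => simp [pow_succ', ih, res_apply]

theorem Ir.hi (h : Ir ρ Q U) (W : Submodule K U)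
    (hW : ∀ g : Q, ∀ v ∈ W, ((res ρ U).comp (inclusion h.iv)) g v ∈ W) : W = ⊥ ∨ W = ⊤ :=
  (h.min (W.map U.subtype) (Submodule.map_subtype_le _ _) (by
    rintro g hg _ ⟨v, hv, rfl⟩
    exact ⟨_, hW ⟨g, hg⟩ v hv, rfl⟩)).imp (fun e => Submodule.map_injective_of_injective U.injective_subtype
      (by rw [e, Submodule.map_bot])) fun e => Submodule.map_injective_of_injective U.injective_subtype
        (by rw [e, Submodule.map_subtype_top])

theorem Ir.nt (h : Ir ρ Q U) : Nontrivial U := Submodule.nontrivial_iff_ne_bot.2 h.ne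

theorem exists_W (hQ : (o[Q] : K) ≠ 0) (h : ∃ g ∈ Q, ρ g ≠ 1) :
    ∃ W, W ≠ ⊥ ∧ N[Q] ≤ St ρ W ∧ ∀ U ≤ W, Q ≤ Fx ρ U → U = ⊥ := by
  haveI := Fintype.ofFinite Q
  obtain ⟨g, g1, g2⟩ := h
  refine ⟨LinearMap.ker (∑ a : Q, ρ a), fun e => g2 (LinearMap.ext fun v => sub_eq_zero.1
    ((Submodule.mem_bot K).1 (e.le ?_))), fun u hu v hv => ?_, fun U h1 h2 => eq_bot_iff.2 fun v hv => ?_⟩
  · rw [LinearMap.mem_ker, map_sub, sub_eq_zero, ← End.mul_apply, Finset.sum_mul]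
    exact LinearMap.congr_fun (Fintype.sum_equiv (Equiv.mulRight ⟨g, g1⟩) _ _ fun a => by simp) v
  · rw [LinearMap.mem_ker] at hv ⊢
    rw [← End.mul_apply, Finset.sum_mul, ← map_zero (ρ u), ← hv, ← End.mul_apply, Finset.mul_sum]
    exact LinearMap.congr_fun (Fintype.sum_equiv (Q.normalizerMonoidHom ⟨u, hu⟩).toEquiv _ _ fun a => by
      rw [← map_mul, ← map_mul]; exact congrArg ρ (inv_mul_cancel_right _ _).symm).symm v
  · have := h1 hv
    rw [LinearMap.mem_ker, LinearMap.sum_apply, Finset.sum_congr rfl fun a _ => h2 a.2 v hv] at this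
    simpa [← Nat.cast_smul_eq_nsmul K, ← Nat.card_eq_fintype_card, hQ] using this

theorem lift_pow [hp : Fact p.Prime] [CharP K p] {j : ℕ} (hx : x ^ p ^ j ∈ St ρ U)
    (h : ∀ w : ℕ → V, (∀ i, w i ∈ U) → ∑ i ∈ Finset.range (p ^ j), ρ (x ^ i) (w i) = 0 → ∀ i < p ^ j, w i = 0)
    (hr : (ρ x - 1) ^ r = 0) : ∀ v ∈ U, ((ρ (x ^ p ^ j) - 1) ^ (r / p ^ j)) v = 0 := fun v hv => by
  have h0 : 0 < p ^ j := Nat.pos_of_ne_zero (pow_ne_zero _ hp.out.ne_zero)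
  refine h (fun _ => _) (fun _ => res_pow ⟨_, hx⟩ _ ⟨v, hv⟩ ▸ Subtype.prop _) ?_ 0 h0
  simp only [map_pow]
  rw [← LinearMap.sum_apply, geom_eq (K := K), ← sub_one_pow (K := K), ← End.mul_apply, ← pow_mul, ← pow_add,
    pow_eq_zero_of_le _ hr, LinearMap.zero_apply]
  have := Nat.div_add_mod r (p ^ j)
  have := Nat.mod_lt r h0
  omega

section cl
variable [FiniteDimensional K V] [IsAlgClosed K]

theorem Ir.scalar (h : Ir ρ Q U) (h1 : u ∈ St ρ U) (h2 : u ∈ C[Q]) : ∃ c : K, ∀ v ∈ U, ρ u v = c • v := by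
  haveI := h.nt
  obtain ⟨c, hc⟩ := schur h.hi (φ := res ρ U ⟨u, h1⟩) fun g => by
    rw [MonoidHom.comp_apply, ← map_mul, ← map_mul]
    exact congrArg _ (Subtype.ext (h2 g g.2).symm)
  exact ⟨c, fun v hv => congrArg Subtype.val (hc ⟨v, hv⟩)⟩

theorem Ir.comm_le (h : Ir ρ Q U) (h1 : A ≤ St ρ U ⊓ C[Q]) (h2 : B ≤ St ρ U) : ⁅A, B⁆ ≤ Fx ρ U :=
  commutator_le.2 fun a ha b hb v hv => by
    obtain ⟨c, hc⟩ := h.scalar (h1 ha).1 (h1 ha).2
    have m := inv_mem (mem_inf.1 (h1 ha)).1 _ (inv_mem (h2 hb) v hv)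
    rw [commutatorElement_def, map_mul, map_mul, map_mul, End.mul_apply, End.mul_apply, End.mul_apply,
      hc _ (h2 hb _ m), ← map_smul, ← hc _ m]
    simp

theorem Ir.rank_one (h : Ir ρ Q U) (h1 : ⁅Q, Q⁆ ≤ Fx ρ U) : finrank K U = 1 := by
  haveI := h.nt
  refine CfsgTB.rank_one h.hi fun a b => LinearMap.ext fun v => Subtype.ext ?_
  have := h1 (commutator_mem_commutator a.2 b.2) _ (h.iv (mul_mem b.2 a.2) v v.2)
  rw [← End.mul_apply, ← map_mul, commutatorElement_def,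
    show a.1 * b * a.1⁻¹ * b.1⁻¹ * (b * a) = a * b by group, map_mul, map_mul] at this
  exact this

variable [hp : Fact p.Prime] [CharP K p]

theorem Ir.crit (h : Ir ρ Q U) (hQ : (o[Q] : K) ≠ 0) (hx : x ∈ N[Q]) (xU : x ∈ St ρ U)
    (h1 : x ^ p ^ k = 1) (hf : ∀ i, 0 < i → i < p ^ k → Q ⊓ C1[x ^ i] ≤ C[Q])
    (hs : ∀ v ∈ U, ((ρ x - 1) ^ s) v = 0) (T1 : x ∉ Fx ρ U) :
    p ^ k ≤ s ∨ s + 1 = p ^ k ∧ finrank K U = s ∧ 1 < s := by
  haveI := h.nt
  have hs' : (res ρ U ⟨x, xU⟩ - 1) ^ s = 0 :=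
    LinearMap.ext fun v => Subtype.ext ((res_pow _ _ _).trans (hs _ v.2))
  have T2 : res ρ U ⟨x, xU⟩ ≠ 1 := fun e => T1 fun v hv =>
    congrArg Subtype.val (LinearMap.congr_fun e ⟨v, hv⟩)
  refine (CfsgTB.crit h.hi hQ (Q.normalizerMonoidHom ⟨x, hx⟩) (fun g => ?_) ?_ ?_ (fun g i a b c => ?_)
    hs' T2).imp_right fun a => ⟨a.1, a.2, ?_⟩
  · rw [MonoidHom.comp_apply, MonoidHom.comp_apply, ← map_mul, ← map_mul]
    exact congrArg _ (Subtype.ext (inv_mul_cancel_right _ _).symm)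
  · rw [← map_pow, ← map_one (res ρ U)]; exact congrArg _ (Subtype.ext h1)
  · rw [← map_pow, ← map_one Q.normalizerMonoidHom]; exact congrArg _ (Subtype.ext h1)
  · rw [← map_pow] at c
    obtain ⟨e, he⟩ := h.scalar (h.iv g.2) (hf i a b ⟨g.2, mem_centralizer_singleton_iff.2
      (mul_inv_eq_iff_eq_mul.1 (congrArg Subtype.val c)).symm⟩)
    exact ⟨e, fun v => Subtype.ext (he _ v.2)⟩
  · by_contra c
    exact T2 (sub_eq_zero.1 (by simpa using pow_eq_zero_of_le (not_lt.1 c) hs'))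

end cl

/-- the conclusion of Theorem B. -/
def TB (p n r q : ℕ) (Q : Subgroup G) (x : G) : Prop :=
  p ^ (n + 1) ≤ r ∨ ∃ j ≤ n, ∃ m, 1 ≤ m ∧ p ^ (n + 1 - j) - 1 = q ^ m ∧
    ¬ ⁅Q, Q⁆ ≤ ⁅Z[Q], zpowers (x ^ p ^ j)⁆ ∧ p ^ j * (p ^ (n + 1 - j) - 1) ≤ r

variable [FiniteDimensional K V] [hp : Fact p.Prime] [CharP K p] [hq : Fact q.Prime]

omit [FiniteDimensional K V] in
theorem card_ne (hQ : PG[q, Q]) (hpq : p ≠ q) : (o[Q] : K) ≠ 0 := fun e =>
  not_dvd_pg hQ hpq ((CharP.cast_eq_zero_iff K p _).1 e)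

theorem core [IsAlgClosed K] (hQ : PG[q, Q]) (hpq : p ≠ q) (hx : x ∈ N[Q]) (hn : orderOf x = p ^ (n + 1))
    (h1 : Q ⊓ C[zpowers (x ^ p ^ n)] ≤ C[Q]) (h2 : ⁅Q, zpowers (x ^ p ^ n)⁆ = Q)
    (h3 : ∃ g ∈ Q, ρ g ≠ 1) (hr : (ρ x - 1) ^ r = 0) : TB p n r q Q x := by
  have c := card_ne (K := K) hQ hpq
  have y := cy_of_order hn
  obtain ⟨W, w1, w2, w3⟩ := exists_W c h3
  obtain ⟨U, u1, e, u2, u3, u4, u5⟩ := clifford c hx (le_normalizer.trans w2) (w2 hx) w1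
  obtain ⟨j, j1, rfl⟩ := (Nat.dvd_prime_pow hp.out).1 (u4 (p ^ (n + 1)) (by
    rw [← hn, pow_orderOf_eq_one]; exact one_mem _))
  have s := lift_pow u3 u5 hr
  have l := Nat.mul_div_le r (p ^ j)
  rcases j1.eq_or_lt with rfl | j2
  · refine .inl ((Nat.le_mul_of_pos_right _ (Nat.pos_of_ne_zero fun z => u2.ne ?_)).trans l)
    exact eq_bot_iff.2 fun v hv => by simpa [z] using s v hv
  have e : p ^ j * p ^ (n + 1 - j) = p ^ (n + 1) := by rw [← pow_add, Nat.add_sub_cancel' j1]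
  have f : x ^ p ^ j ∉ Fx ρ U := fun a => u2.ne (w3 U u1 (h2.ge.trans ((commutator_mono le_rfl
    (zpowers_le.2 (by
      rw [← Nat.add_sub_cancel' (Nat.le_of_lt_succ j2), pow_add, pow_mul]; exact pow_mem a _))).trans
        (comm_le_right (u2.iv.trans St_le_norm)))))
  rcases u2.crit c (pow_mem hx _) u3 (k := n + 1 - j) (by rw [← pow_mul, e, ← hn, pow_orderOf_eq_one])
    (fun i a b => (inf_le_inf_left _ (y.cent (pow_mem (npow_mem_zpowers _ _) _) fun z => by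
      rw [← pow_mul, ← orderOf_dvd_iff_pow_eq_one, hn, ← e,
        Nat.mul_dvd_mul_iff_left (pow_pos hp.out.pos _)] at z
      exact (Nat.le_of_dvd a z).not_gt b)).trans h1) s f with a | ⟨a, b, d⟩
  · exact .inl (e.ge.trans ((Nat.mul_le_mul_left _ a).trans l))
  obtain ⟨m, hm⟩ := Ir.dim (fun z => hpq ((Nat.prime_dvd_prime_iff_eq hp.out hq.out).1
    ((CharP.cast_eq_zero_iff K p _).1 z))) Q hQ U u2
  rw [b] at hm
  refine .inr ⟨j, Nat.le_of_lt_succ j2, m, Nat.pos_of_ne_zero fun z => by simp [z] at hm; omega,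
    by omega, fun z => ?_, by rwa [← a, Nat.add_sub_cancel]⟩
  have := u2.rank_one (z.trans (u2.comm_le (inf_le_inf_right _ u2.iv) (zpowers_le.2 u3)))
  omega

omit hp hq [CharP K p] [Finite G] in
theorem exists_cl (K V : Type*) [Field K] [AddCommGroup V] [Module K V] [FiniteDimensional K V] :
    ∃ Θ : End K V →+* End (AlgebraicClosure K) (Fin (finrank K V) → AlgebraicClosure K), Injective Θ :=
  ⟨(Matrix.toLinAlgEquiv' : Matrix _ _ (AlgebraicClosure K) ≃ₐ[AlgebraicClosure K] _).toRingEquiv.toRingHom.comp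
    ((algebraMap K _).mapMatrix.comp (LinearMap.toMatrixAlgEquiv (finBasis K V)).toRingEquiv.toRingHom),
    fun _ _ e => (LinearMap.toMatrixAlgEquiv (finBasis K V)).injective (Matrix.map_injective
      (algebraMap K (AlgebraicClosure K)).injective (Matrix.toLinAlgEquiv'.injective e))⟩

theorem core' (hQ : PG[q, Q]) (hpq : p ≠ q) (hx : x ∈ N[Q]) (hn : orderOf x = p ^ (n + 1))
    (h1 : Q ⊓ C[zpowers (x ^ p ^ n)] ≤ C[Q]) (h2 : ⁅Q, zpowers (x ^ p ^ n)⁆ = Q)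
    (h3 : ∃ g ∈ Q, ρ g ≠ 1) (hr : (ρ x - 1) ^ r = 0) : TB p n r q Q x := by
  obtain ⟨Θ, i⟩ := exists_cl K V
  obtain ⟨g, g1, g2⟩ := h3
  refine core (ρ := Θ.toMonoidHom.comp ρ) hQ hpq hx hn h1 h2 ⟨g, g1, fun e => g2 (i (e.trans Θ.map_one.symm))⟩ ?_
  simpa using congrArg Θ hr

omit hq [FiniteDimensional K V] in
theorem exists_sp (hG : IsPSolvable p G) (hO : pCore p G = ⊥) (hA : PG[p, A]) (hY : Y ≤ A)
    (nY : A ≤ N[Y]) (h0 : Y ≠ ⊥) : ∃ (q : ℕ) (_ : Fact q.Prime) (Q : Subgroup G), p ≠ q ∧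
      Q ≤ pPrimeCore p G ∧ A ≤ N[Q] ∧ SP q Q Y := by
  have c := coprime_of_pgroup hA (not_dvd_pPrimeCore (p := p) (G := G))
  have a : ¬ pPrimeCore p G ≤ C[Y] := fun a => h0 (inf_eq_bot_of_coprime' (c.coprime_dvd_left
    (card_dvd_of_le hY)) ▸ (inf_of_le_left ((le_centralizer_iff.1 a).trans ?_)).symm)
  · by_contra hn
    refine a (le_of_syl fun q _ b => ?_)
    have pq : p ≠ q := fun e => not_dvd_pPrimeCore (e ▸ b)
    obtain ⟨P, p1, p2⟩ := exists_inv_syl q le_normalizer_of_normal c (.inl (isSolvable_of_pgroup hA))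
    refine ⟨P, p1, by_contra fun z => ?_⟩
    obtain ⟨Q, q1, q2, q3⟩ := exists_SP p1.pg p2 hY nY (not_dvd_pg (hA.to_le hY) pq.symm)
      (mt le_centralizer_iff.1 z)
    exact hn ⟨q, ‹_›, Q, pq, q1.trans p1.le, q2, q3⟩
  · have := CfsgH1.centralizer_piCore_le (π := {p}ᶜ) (G := G) (by
      rw [compl_compl, Set.pair_comm]; exact (CfsgH1.isPSolvable_iff hp.out).1 hG)
      (by rw [compl_compl, ← hO, pCore_eq])
    rwa [← pPrimeCore_eq] at this

omit hq in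
theorem thmB (hi : Injective ρ) (hG : IsPSolvable p G) (hO : pCore p G = ⊥) (hn : orderOf x = p ^ (n + 1))
    (hr : (ρ x - 1) ^ r = 0) : ∃ (q : ℕ) (_ : Fact q.Prime) (Q : Subgroup G), p ≠ q ∧ x ∈ N[Q] ∧
      SP q Q (zpowers (x ^ p ^ n)) ∧ TB p n r q Q x := by
  have y := cy_of_order hn
  obtain ⟨q, _, Q, a, -, b, s⟩ := exists_sp hG hO y.pg y.le (y.le_cent.trans (cent_le_norm _))
    fun e => hp.out.ne_one (by rw [← y.card, e, card_bot])
  obtain ⟨g, g1, g2⟩ := exists_ne_one s.ne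
  exact ⟨q, ‹_›, Q, a, b (mem_zpowers x), s, core' s.pg a (b (mem_zpowers x)) hn (s.cen.le.trans s.phi)
    s.comm ⟨g, g1, fun e => g2 (hi (e.trans ρ.map_one.symm))⟩ hr⟩

end CfsgTB
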