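import Cfsg.Agent.H9.Tb3
import Cfsg.Agent.H2.PL1

/-! The lower `p`-series and `p`-length. -/

set_option autoImplicit false
open Subgroup Cfsg CfsgH2 Function Module CfsgCP
open scoped commutatorElement IsMulCommutative

namespace CfsgTB

universe u
variable {G : Type u} [Group G] {H K N P S A V X : Subgroup G} {p q k n r : ℕ} {π : Set ℕ} {x : G}

/-- the lower `p`-series. -/
def LP (p : ℕ) : ℕ → Subgroup G → Subgroup G
  | 0, H => piRes {p}ᶜ H
  | k + 1, H => piRes {p}ᶜ (piRes {p} (LP p k H))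

theorem LP_le : ∀ k, LP p k H ≤ H
  | 0 => piRes_le
  | k + 1 => piRes_le.trans (piRes_le.trans (LP_le k))

theorem LP_mono (h : H ≤ K) : ∀ k, LP p k H ≤ LP p k K
  | 0 => piRes_mono h
  | k + 1 => piRes_mono (piRes_mono (LP_mono h k))

theorem piRes_LP : ∀ k, piRes {p}ᶜ (LP p k H) = LP p k H
  | 0 => piRes_piRes
  | _ + 1 => piRes_piRes

theorem LP_add (a b : ℕ) : LP p (a + b) H = LP p a (LP p b H) := by
  induction a with
  | zero => rw [zero_add]; exact (piRes_LP b).symm
  | succ a ih => rw [add_right_comm]; exact congrArg (fun X => piRes {p}ᶜ (piRes {p} X)) ih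

theorem LP_piRes (k : ℕ) : LP p k (piRes {p}ᶜ H) = LP p k H := (LP_add k 0).symm

theorem LP_succ' (k : ℕ) : LP p (k + 1) H = LP p k (piRes {p} (piRes {p}ᶜ H)) :=
  (LP_add k 1).trans (LP_piRes k)

theorem LP_anti (h : k ≤ n) : LP p n H ≤ LP p k H := by
  rw [← Nat.sub_add_cancel h, LP_add]; exact LP_le _

theorem mk_bot [N.Normal] : K.map (QuotientGroup.mk' N) = ⊥ ↔ K ≤ N := by
  rw [Subgroup.map_eq_bot_iff, QuotientGroup.ker_mk']

variable [Finite G]

theorem map_LP {G' : Type*} [Group G'] (f : G →* G') (H : Subgroup G) :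
    ∀ k, (LP p k H).map f = LP p k (H.map f)
  | 0 => map_piRes f
  | k + 1 => by rw [LP, map_piRes, map_piRes, map_LP f H k, LP]

theorem norm_le_norm_LP : ∀ k, N[H] ≤ N[LP p k H]
  | 0 => norm_le_norm_piRes
  | k + 1 => (norm_le_norm_LP k).trans (norm_le_norm_piRes.trans norm_le_norm_piRes)

theorem le_comap_core [N.Normal] (hK : ⊤ ≤ N[K]) :
    K ≤ (piCore π (G ⧸ N)).comap (QuotientGroup.mk' N) ↔ piRes π K ≤ N := by
  rw [← map_le_iff_le_comap, ← mk_bot (N := N), map_piRes, ← piCoreOf_top]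
  exact ⟨fun h => piRes_eq_bot' (piN_of_le piN_piCoreOf h), fun h => le_piCoreOf le_top
    (map_mk_top N ▸ map_le_norm_map _ hK) (by simpa using piN_relIndex_of_piRes_le h.le)⟩

variable [hp : Fact p.Prime]

theorem ups_odd (k : ℕ) : (upperPSeries p G (2 * k + 1)).1 = (piCore {p}ᶜ
    (G ⧸ (upperPSeries p G (2 * k)).1)).comap (QuotientGroup.mk' _) := by
  rw [← pPrimeCore_eq, upperPSeries, if_pos (even_two_mul k)]

theorem ups_even (k : ℕ) : (upperPSeries p G (2 * k + 2)).1 = (piCore {p}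
    (G ⧸ (upperPSeries p G (2 * k + 1)).1)).comap (QuotientGroup.mk' _) := by
  rw [← pCore_eq, upperPSeries, if_neg (by simp [parity_simps])]

theorem le_ups (k : ℕ) : ∀ K : Subgroup G, ⊤ ≤ N[K] →
    (K ≤ (upperPSeries p G (2 * k + 1)).1 ↔ LP p k K = ⊥) := by
  induction k with
  | zero => exact fun K hK => by rw [ups_odd, le_comap_core hK]; exact le_bot_iff
  | succ k ih =>
    intro K hK
    have a := hK.trans (norm_le_norm_piRes (π := {p}ᶜ))
    rw [ups_odd, le_comap_core hK, mul_add, mul_one, ups_even, le_comap_core a,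
      ih _ (a.trans norm_le_norm_piRes), LP_succ']

theorem plen_iff : PLengthLE p k G ↔ LP p k (⊤ : Subgroup G) = ⊥ :=
  eq_top_iff.trans (le_ups k ⊤ le_normalizer)

theorem LP_of_npc (h : LP p k H ≤ X) (hX : NPC p X) : LP p (k + 1) H = ⊥ :=
  piRes_eq_bot' ((piN_compl_singleton hp.out).2 (NPC.iff_piRes.1 (hX.mono h)))

theorem LP_of_not_dvd (h : LP p k H ≤ X) (hX : ¬ p ∣ o[X]) : LP p k H = ⊥ :=
  (piRes_LP k).symm.trans (piRes_eq_bot' (piN_of_le ((piN_compl_singleton hp.out).2 hX) h))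

theorem le_core_of_phi (hG : IsPSolvable p G) (h0 : pPrimeCore p G = ⊥)
    (hA : ⁅pCore p G, A⁆ ≤ Φ[pCore p G]) : A ≤ pCore p G := by
  have n : Φ[pCore p G].Normal := top_le_norm_iff.1 (le_normalizer_of_normal.trans norm_le_norm_phi)
  let f := QuotientGroup.mk' Φ[pCore p G]
  have k : ∀ B : Subgroup G, B ≤ C[(pCore p G).map f].comap f ↔ ⁅pCore p G, B⁆ ≤ Φ[pCore p G] := fun B => by
    rw [← map_le_iff_le_comap, le_centralizer_iff, ← comm_eq_bot_iff, ← map_commutator,
      Subgroup.map_eq_bot_iff, QuotientGroup.ker_mk']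
  haveI := CfsgH1.normal_map_mk' Φ[pCore p G] (pCore p G)
  refine ((k A).2 hA).trans (CfsgH1.le_pCore (isPGroup_of_piRes (isPGroup_pCore.to_le
    ((piRes_le_cent_of_phi isPGroup_pCore le_normalizer_of_normal ((k _).1 le_rfl)).trans
      (CfsgH1.centralizer_pCore_le hG h0)))))

/-- the basic configuration. -/
structure BC (p : ℕ) (V : Subgroup G) [V.Normal] : Prop where
  sol : IsPSolvable p G
  el : IsElementaryAbelian p V
  cent : C[V] ≤ V
  core : pCore p (G ⧸ V) = ⊥

theorem exists_BC (hG : IsPSolvable p G) : ∃ (G' : Type u) (_ : Group G') (_ : Finite G') (f : G →* G')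
    (V : Subgroup G') (_ : V.Normal), Surjective f ∧ BC p V ∧ V.comap f = pPrimePCore p G := by
  let G₀ := G ⧸ pPrimeCore p G
  have s : IsPSolvable p G₀ := CfsgH1.IsPSolvable.quotient' hG _
  have n : Φ[pCore p G₀].Normal := top_le_norm_iff.1 (le_normalizer_of_normal.trans norm_le_norm_phi)
  let f := QuotientGroup.mk' Φ[pCore p G₀]
  have sf : Surjective f := QuotientGroup.mk'_surjective _
  haveI := CfsgH1.normal_map_mk' Φ[pCore p G₀] (pCore p G₀)
  have e : ((pCore p G₀).map f).comap f = pCore p G₀ := by rw [comap_map_mk, sup_of_le_left phi_le]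
  refine ⟨_, _, inferInstance, f.comp (QuotientGroup.mk' _), (pCore p G₀).map f, this,
    sf.comp (QuotientGroup.mk'_surjective _), ⟨CfsgH1.IsPSolvable.quotient' s _,
      elem_of_phi_eq_bot (isPGroup_pCore.map f) ?_, ?_, ?_⟩, by rw [← comap_comap, e]; rfl⟩
  · rw [← map_phi f isPGroup_pCore, Subgroup.map_eq_bot_iff, QuotientGroup.ker_mk']
  · rw [← map_comap_eq_self_of_surjective sf C[_]]
    refine map_mono (le_core_of_phi s (CfsgH1.pPrimeCore_quotient_pPrimeCore p) ?_)
    rw [← mk_bot, map_commutator, map_comap_eq_self_of_surjective sf]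
    exact comm_eq_bot_iff.2 (le_centralizer_iff.1 le_rfl)
  · let g := QuotientGroup.mk' ((pCore p G₀).map f)
    have k : (g.comp f).ker = pCore p G₀ := by rw [← MonoidHom.comap_ker, QuotientGroup.ker_mk', e]
    have sg : Surjective (g.comp f) := (QuotientGroup.mk'_surjective _).comp sf
    rw [← map_comap_eq_self_of_surjective sg (pCore p _), Subgroup.map_eq_bot_iff, k]
    exact CfsgH1.le_pCore (isPGroup_pCore.comap_of_ker_isPGroup _ (by rw [k]; exact isPGroup_pCore))

theorem plen_ind (Φ : ℕ → ∀ (G : Type u) [Group G], Prop)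
    (hq : ∀ k (G G' : Type u) [Group G] [Group G'] [Finite G] [Finite G'] (f : G →* G'), Surjective f →
      Φ k G → Φ k G') (h0 : ∀ (G : Type u) [Group G] [Finite G], Φ 0 G → ¬ p ∣ Nat.card G)
    (hs : ∀ k (G : Type u) [Group G] [Finite G] (V : Subgroup G) [V.Normal], BC p V → Φ (k + 1) G →
      Φ k (G ⧸ V)) (k : ℕ) :
    ∀ (G : Type u) [Group G] [Finite G], IsPSolvable p G → Φ k G → PLengthLE p k G := by
  induction k with
  | zero => exact fun G _ _ _ h => plen_iff.2 (LP_of_not_dvd le_top (by simpa using h0 G h))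
  | succ k ih =>
  intro G _ _ hG h
  obtain ⟨G', _, _, f, V, _, a, b, c⟩ := exists_BC hG
  have := plen_iff.1 (ih _ (CfsgH1.IsPSolvable.quotient' b.sol V) (hs k G' V b (hq _ G G' f a h)))
  rw [← map_mk_top, ← map_top_of_surjective f a, ← map_LP, ← map_LP, Subgroup.map_eq_bot_iff,
    QuotientGroup.ker_mk', map_le_iff_le_comap, c, ← Opp_top] at this
  exact plen_iff.2 (LP_of_npc this npc_Opp)

omit [Finite G] in
theorem exists_rep {W : Type*} [AddCommGroup W] [Module (ZMod p) W] (r : G →* AddMonoid.End W) :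
    ∃ ρ : Representation (ZMod p) G W, (∀ g w, ρ g w = r g w) ∧
      ((∀ g, (∀ w, r g w = w) → g = 1) → Injective ρ) :=
  ⟨{ toFun := fun g => AddMonoidHom.toZModLinearMap p (r g)
     map_one' := by rw [map_one]; rfl
     map_mul' := fun a b => by rw [map_mul]; rfl }, fun _ _ => rfl,
    fun h => (injective_iff_map_eq_one _).2 fun g a => h g (LinearMap.congr_fun a)⟩

theorem BC.rep [V.Normal] (h : BC p V) : ∃ (W : Type u) (_ : AddCommGroup W) (_ : Module (ZMod p) W)
    (_ : Finite W) (ρ : Representation (ZMod p) (G ⧸ V) W) (e : Multiplicative W →* G), Injective ρ ∧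
      Injective e ∧ e.range = V ∧ ∀ (g : G) w, e (.ofAdd (ρ g w)) = g * e (.ofAdd w) * g⁻¹ := by
  haveI := h.el.1
  letI : Module (ZMod p) (Additive V) := AddCommGroup.zmodModule fun x =>
    Additive.toMul.injective (Subtype.ext (h.el.2 _ x.toMul.2))
  let r := QuotientGroup.lift V ((CfsgH1.conjEnd V).comp ((MonoidHom.id G).codRestrict _ fun g =>
    le_normalizer_of_normal (mem_top g))) fun g hg => AddMonoidHom.ext fun v => Additive.toMul.injective
      (Subtype.ext (mul_inv_eq_iff_eq_mul.2 (le_cent_self h.el.1 hg _ v.toMul.2).symm))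
  obtain ⟨ρ, hρ, hi⟩ := exists_rep (p := p) r
  refine ⟨Additive V, _, _, inferInstance, ρ, V.subtype.comp (MulEquiv.multiplicativeAdditive V), ?_,
    fun a b c => Subtype.ext c, ?_, fun g w => by rw [hρ]; rfl⟩
  · refine hi fun g => QuotientGroup.induction_on g fun g a => ?_
    refine (QuotientGroup.eq_one_iff g).2 (h.cent fun v hv => (mul_inv_eq_iff_eq_mul.1 ?_).symm)
    exact congrArg (fun w : Additive V => (w.toMul : G)) (a (.ofMul ⟨v, hv⟩))
  · ext v
    exact ⟨fun ⟨w, a⟩ => a ▸ Subtype.prop _, fun a => ⟨.ofAdd (.ofMul ⟨v, a⟩), rfl⟩⟩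

omit [Finite G] in
theorem mul_pow_eq {W : Type*} [AddCommGroup W] [Module (ZMod p) W] [V.Normal]
    {ρ : Representation (ZMod p) (G ⧸ V) W} {e : Multiplicative W →* G}
    (h : ∀ (g : G) w, e (.ofAdd (ρ g w)) = g * e (.ofAdd w) * g⁻¹) (w : W) (x : G) (m : ℕ) :
    (e (.ofAdd w) * x) ^ m = e (.ofAdd ((∑ i ∈ Finset.range m, ρ x ^ i) w)) * x ^ m := by
  induction m with
  | zero => simp
  | succ m ih =>
    rw [pow_succ, ih, Finset.sum_range_succ, LinearMap.add_apply, ofAdd_add, map_mul, ← map_pow,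
      ← QuotientGroup.mk_pow, h]
    group

end CfsgTB
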