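import Cfsg.Agent.H9.Tb4
import Cfsg.Agent.H2.S4F

/-! Bounds on the `p`-length. -/

set_option autoImplicit false
open Subgroup Cfsg CfsgH2 Function Module CfsgCP
open scoped commutatorElement IsMulCommutative

namespace CfsgTB

universe u
variable {G : Type u} [Group G] {H K N P Q S A B V X : Subgroup G} {p q k n r : ℕ} {π : Set ℕ} {x : G}

/-- the derived series of a subgroup. -/
def DS : ℕ → Subgroup G → Subgroup G
  | 0, H => H
  | k + 1, H => ⁅DS k H, DS k H⁆

theorem map_DS {G' : Type*} [Group G'] (f : G →* G') (H : Subgroup G) :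
    ∀ k, (DS k H).map f = DS k (H.map f)
  | 0 => rfl
  | k + 1 => by rw [DS, map_commutator, map_DS f H k, DS]

theorem DS_top : ∀ k, DS k (⊤ : Subgroup G) = derivedSeries G k
  | 0 => rfl
  | k + 1 => by rw [DS, DS_top k, derivedSeries_succ]

theorem DS_iff : derivedSeries H k = ⊥ ↔ DS k H = ⊥ := by
  rw [← DS_top, ← map_eq_bot_iff_of_injective _ H.subtype_injective, map_DS, map_subtype_top]

theorem DS_mono (h : H ≤ K) : ∀ k, DS k H ≤ DS k K
  | 0 => h
  | k + 1 => commutator_mono (DS_mono h k) (DS_mono h k)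

theorem DS_le : ∀ k, DS k H ≤ H
  | 0 => le_rfl
  | k + 1 => commutator_self_le.trans (DS_le k)

theorem DS_add (a b : ℕ) : DS (a + b) H = DS a (DS b H) := by
  induction a with
  | zero => rw [zero_add]; rfl
  | succ a ih => rw [add_right_comm, DS, ih, DS]

theorem norm_DS : ∀ k, N[H] ≤ N[DS k H]
  | 0 => le_rfl
  | k + 1 => le_norm_commutator (norm_DS k) (norm_DS k)

variable [Finite G]

theorem plen_prod {ι : Type*} (q l : ι → ℕ) [Fact p.Prime] (s : Finset ι) :
    ∀ (G : Type u) [Group G] [Finite G] (K : Subgroup G), (∀ t, t.Prime → t ∣ o[K] → t ≠ p → ∃ i ∈ s, q i = t) →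
      (∀ i ∈ s, (q i).Prime ∧ q i ≠ p ∧ LP (q i) (l i) K = ⊥) → LP p (∏ i ∈ s, (1 + l i)) K = ⊥ := by
  classical
  induction s using Finset.induction_on with
  | empty => exact fun G _ _ K h _ => LP_of_npc (k := 0) (LP_le 0) (NPC.of_pgroup (isPGroup_iff_piN.2
      fun t a b => by_contra fun c => by simpa using h t a b c))
  | insert i s hi ih =>
  intro G _ _ K h1 h2
  obtain ⟨a, b, c⟩ := h2 i (Finset.mem_insert_self _ _)
  have A : ∀ L ≤ K, LP p (∏ i ∈ s, (1 + l i)) L ≤ piRes {q i}ᶜ L := fun L hL => by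
    let M := piRes {q i}ᶜ L
    haveI := (normal_subgroupOf_iff' (piRes_le : M ≤ L)).2 le_norm_piRes
    let f := QuotientGroup.mk' (M.subgroupOf L)
    have := ih _ (map f ⊤) (fun t t1 t2 t3 => ?_) fun j hj => ?_
    · rw [← map_LP, mk_bot, ← map_le_map_iff_of_injective L.subtype_injective, map_LP,
        map_subtype_top] at this
      exact this.trans (map_subgroupOf_eq_of_le piRes_le).le
    · obtain ⟨j, j1, rfl⟩ := h1 t t1 (t2.trans ((card_map_dvd _ _).trans (card_top.dvd.trans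
        (card_dvd_of_le hL)))) t3
      refine ⟨j, (Finset.mem_insert.1 j1).resolve_left ?_, rfl⟩
      rintro rfl
      rw [map_mk_top, card_top] at t2
      exact piN_relIndex_piRes _ t1 t2 rfl
    · obtain ⟨a, b, c⟩ := h2 j (Finset.mem_insert_of_mem hj)
      refine ⟨a, b, ?_⟩
      rw [← map_LP, (map_eq_bot_iff_of_injective (LP (q j) (l j) ⊤) L.subtype_injective).1 (by
        rw [map_LP, map_subtype_top]; exact le_bot_iff.1 ((LP_mono hL _).trans c.le)), Subgroup.map_bot]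
  have B : ∀ k, LP p ((∏ i ∈ s, (1 + l i)) * (k + 1)) K ≤ LP (q i) k K := fun k => by
    induction k with
    | zero => rw [zero_add, mul_one]; exact A K le_rfl
    | succ k ih =>
      rw [mul_add, mul_one, add_comm, LP_add]
      refine (LP_mono ih _).trans ((LP_piRes _).ge.trans ((LP_mono (piRes_le_of le_norm_piRes
        (piN_relIndex_piRes.mono (by simpa using b.symm))) _).trans (A _ (piRes_le.trans (LP_le k)))))
  rw [Finset.prod_insert hi, mul_comm, add_comm]
  exact le_bot_iff.1 ((B _).trans c.le)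

variable [hp : Fact p.Prime]

theorem pg_lift {G' : Type*} [Group G'] [Finite G'] {f : G →* G'} (hf : Surjective f) {P : Subgroup G'}
    (h : PG[p, P]) : ∃ S, Syl p S ⊤ ∧ P ≤ S.map f := by
  obtain ⟨S, hS⟩ := exists_syl p (⊤ : Subgroup G)
  obtain ⟨_, ⟨g, -, rfl⟩, a⟩ := (hS.map f).exists_le_conj h (map_top_of_surjective f hf ▸ le_top)
  exact ⟨_, hS.map_cj_mem (mem_top g), by rwa [← map_map_cj] at a⟩

omit hp in
theorem der_len {ι : Type*} [Fintype ι] (q d : ι → ℕ) (hq : ∀ i, (q i).Prime) (m : ℕ) :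
    ∀ (G : Type u) [Group G] [Finite G] (l : ι → ℕ), Nat.card G = m → Group.IsSolvable G →
      (∀ t, t.Prime → t ∣ Nat.card G → ∃ i, q i = t) → (∀ i (P : Subgroup G), PG[q i, P] → DS (d i) P = ⊥) →
      (∀ i, LP (q i) (l i) (⊤ : Subgroup G) = ⊥) → DS (∑ i, d i * l i) (⊤ : Subgroup G) = ⊥ := by
  classical
  induction m using Nat.strong_induction_on with
  | _ m ih =>
  intro G _ _ l hm hs h1 h2 h3
  have IH : ∀ (N : Subgroup G) [N.Normal] (l : ι → ℕ), N ≠ ⊥ → (∀ i, LP (q i) (l i) ⊤ ≤ N) →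
      DS (∑ i, d i * l i) ⊤ ≤ N := fun N _ l n h => by
    rw [← mk_bot, map_DS, map_mk_top]
    refine ih _ (hm ▸ CfsgH1.card_quotient_lt n) _ l rfl inferInstance (fun t a b => h1 t a
      (b.trans (card_quotient_dvd_card N))) (fun i P hP => ?_) fun i => ?_
    · haveI := Fact.mk (hq i)
      obtain ⟨S, a, b⟩ := pg_lift (QuotientGroup.mk'_surjective N) hP
      exact le_bot_iff.1 ((DS_mono b _).trans (by rw [← map_DS, h2 i S a.pg, Subgroup.map_bot]))
    · rw [← map_mk_top, ← map_LP, mk_bot]; exact h i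
  by_contra hn
  obtain ⟨t, ht, a⟩ : ∃ (t : ℕ) (_ : Fact t.Prime), O[{t}, (⊤ : Subgroup G)] ≠ ⊥ := by
    by_contra! a
    exact fit_ne_bot (isSolvable_top_iff.2 hs) (fun e => hn (le_bot_iff.1 ((DS_le _).trans e.le)))
      (le_bot_iff.1 (fit_le_of_cores fun t _ _ => (a t ‹_›).le))
  obtain ⟨i, rfl⟩ := h1 t ht.out ((dvd_card_of_pgroup isPGroup_piCoreOf a).trans (card_subgroup_dvd_card _))
  have n : ∀ π, O[π, (⊤ : Subgroup G)].Normal := fun π => top_le_norm_iff.1 le_norm_piCoreOf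
  by_cases b : O[{q i}ᶜ, (⊤ : Subgroup G)] = ⊥
  · obtain ⟨k, hk⟩ : ∃ k, l i = k + 1 := Nat.exists_eq_succ_of_ne_zero fun z => a (le_bot_iff.1
      ((le_piRes le_top (by rw [compl_compl]; exact piN_piCoreOf)).trans (by
        have := h3 i
        rw [z] at this
        exact this.le)))
    have := IH _ (update l i k) a fun j => by
      by_cases c : j = i
      · subst c
        rw [update_self, ← Opp_eq_core b]
        refine le_Opp le_top (le_normalizer.trans (norm_le_norm_LP k)) (NPC.of_piRes ?_)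
        have := h3 j
        rw [hk] at this
        simpa using (piN_compl_singleton (hq j)).1 (piN_relIndex_of_piRes_le this.le)
      · rw [update_of_ne c, h3]; exact bot_le
    refine hn (le_bot_iff.1 (le_trans (le_of_eq ?_) ((DS_mono this _).trans (h2 i _ isPGroup_piCoreOf).le)))
    rw [← DS_add, ← Finset.add_sum_erase _ _ (Finset.mem_univ i), ← Finset.add_sum_erase _ _
      (Finset.mem_univ i), update_self, hk, Finset.sum_congr rfl (f := fun j => d j * update l i k j)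
        fun j hj => by rw [update_of_ne (Finset.ne_of_mem_erase hj)]]
    congr 1
    ring
  · exact hn (le_bot_iff.1 ((le_inf (IH _ l a fun j => (h3 j).le.trans bot_le) (IH _ l b fun j =>
      (h3 j).le.trans bot_le)).trans (inf_eq_bot_of_piN piN_piCoreOf piN_piCoreOf).le))

theorem BC.le [V.Normal] (h : BC p V) (hS : Syl p S ⊤) : V ≤ S :=
  hS.le_of_norm (elem_pgroup h.el) le_top le_normalizer_of_normal

theorem plen_syl (Ψ : ℕ → ∀ (G : Type u) [Group G], Subgroup G → Prop)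
    (hq : ∀ k (G G' : Type u) [Group G] [Group G'] [Finite G] [Finite G'] (f : G →* G') (S : Subgroup G),
      Surjective f → Ψ k G S → Ψ k G' (S.map f))
    (h0 : ∀ (G : Type u) [Group G] [Finite G] (S : Subgroup G), Ψ 0 G S → S = ⊥)
    (hs : ∀ k (G : Type u) [Group G] [Finite G] (V S : Subgroup G) [V.Normal], BC p V → Syl p S ⊤ →
      Ψ (k + 1) G S → Ψ k (G ⧸ V) (S.map (QuotientGroup.mk' V)))
    (hG : IsPSolvable p G) (hS : Syl p S ⊤) (h : Ψ k G S) : PLengthLE p k G :=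
  plen_ind (fun k G _ => ∃ S, Syl p S ⊤ ∧ Ψ k G S) (fun k G G' _ _ _ _ f a ⟨S, b, c⟩ =>
    ⟨_, map_top_of_surjective f a ▸ b.map f, hq k G G' f S a c⟩) (fun G _ _ ⟨S, b, c⟩ => by
      simpa [h0 G S c] using b.nd) (fun k G _ _ V _ a ⟨S, b, c⟩ =>
        ⟨_, CfsgH1.Syl.map_mk_top b V, hs k G V S a b c⟩) k G hG ⟨S, hS, h⟩

theorem plen_class (hG : IsPSolvable p G) (hS : Syl p S ⊤) (h : S.lowerCentralSeries k = ⊥) :
    PLengthLE p k G :=
  plen_syl (fun k _ _ S => S.lowerCentralSeries k = ⊥) (fun _ _ _ _ _ _ _ f S _ a => by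
    rw [← map_lowerCentralSeries, a, Subgroup.map_bot]) (fun _ _ _ _ a => a) (fun _ _ _ _ V S _ a b c => by
      rw [← map_lowerCentralSeries, mk_bot]
      exact (comm_eq_bot_iff.1 c).trans ((cent_anti (a.le b)).trans a.cent)) hG hS h

/-- no exceptional case can occur. -/
def NE (p : ℕ) (G : Type u) [Group G] : Prop :=
  ∀ (q k m : ℕ) [Fact q.Prime], 1 ≤ k → 1 ≤ m → p ^ k - 1 = q ^ m → ∀ Q : Subgroup G, PG[q, Q] → Ab[Q]

omit hp in
theorem NE.map {G' : Type u} [Group G'] [Finite G'] (h : NE p G) {f : G →* G'} (hf : Surjective f) :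
    NE p G' := fun q k m _ a b c _ d =>
  let ⟨S, s1, s2⟩ := pg_lift hf d
  isMulComm_of_le (isMulComm_map f (h q k m a b c S s1.pg)) s2

omit hp [Finite G] in
theorem TB.le [Fact q.Prime] (h : TB p n r q Q x) (hG : NE p G) (hQ : PG[q, Q]) : p ^ (n + 1) ≤ r :=
  h.resolve_right fun ⟨_, a, m, b, c, d, _⟩ => d ((comm_self_eq_bot_iff.2
    (hG q _ m (by omega) b c Q hQ)).le.trans bot_le)

theorem plen_exp (hG : IsPSolvable p G) (hS : Syl p S ⊤) (h1 : NE p G) (h : ∀ x ∈ S, x ^ p ^ k = 1) :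
    PLengthLE p k G := by
  refine plen_syl (fun k G _ S => NE p G ∧ ∀ x ∈ S, x ^ p ^ k = 1) (fun _ _ _ _ _ _ _ f S a b =>
    ⟨b.1.map a, ?_⟩) (fun _ _ _ _ a => eq_bot_iff.2 fun x hx => by simpa using a.2 x hx)
    (fun k G _ _ V S _ a b c => ?_) hG hS ⟨h1, h⟩
  · rintro _ ⟨x, hx, rfl⟩
    rw [← map_pow, b.2 x hx, map_one]
  have n := c.1.map (QuotientGroup.mk'_surjective V)
  refine ⟨n, ?_⟩
  rintro _ ⟨x, hx, rfl⟩
  by_contra z
  obtain ⟨W, _, _, _, ρ, e, r1, r2, r3, r4⟩ := a.rep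
  obtain ⟨q, _, Q, -, -, s, t⟩ := thmB (x := (x : G ⧸ V)) (r := p ^ (k + 1) - 1) r1
    (CfsgH1.IsPSolvable.quotient' a.sol V) a.core (orderOf_eq_prime_pow z (by
      rw [← QuotientGroup.mk_pow, c.2 x hx]; rfl)) (LinearMap.ext fun w => by
        have := mul_pow_eq r4 w x (p ^ (k + 1))
        rw [c.2 x hx, c.2 _ (mul_mem (a.le b (r3.le ⟨_, rfl⟩)) hx), mul_one, geom_eq (K := ZMod p)] at this
        exact r2 (this.symm.trans e.map_one.symm))
  have := t.le n s.pg
  have := pow_pos hp.out.pos (k + 1)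
  omega

omit [Finite G] in
theorem ne_of_odd (hp2 : p ≠ 2) (h : (¬ ∃ k, p = 2 ^ k + 1) ∨ ∀ Q : Subgroup G, PG[2, Q] → Ab[Q]) :
    NE p G := fun q k m hq a b c Q d => by
  have o := (hp.out.eq_two_or_odd'.resolve_left hp2).pow (n := k)
  have e : q = 2 := hq.out.eq_two_or_odd'.resolve_right fun z => by
    have := (c ▸ z.pow : Odd (p ^ k - 1))
    rw [Nat.odd_iff] at *
    omega
  subst e
  refine h.resolve_left (fun z => z ?_) Q d
  obtain ⟨j, -, e⟩ := (Nat.dvd_prime_pow Nat.prime_two).1 (c ▸ Nat.sub_one_dvd_pow_sub_one p k)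
  exact ⟨j, by have := hp.out.pos; omega⟩

theorem plen_one (hS : Syl p S ⊤) (h : S ≤ pPrimePCore p G) : PLengthLE p 1 G :=
  pl1_top_iff.2 (pl1_of_syl hS (by rwa [Opp_top]))

end CfsgTB
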