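import Cfsg.Agent.H9.Tb5

/-! Normal subgroups of a Sylow subgroup lying in `O_{p',p}`. -/

set_option autoImplicit false
open Subgroup Cfsg CfsgH2 Function Module CfsgCP
open scoped commutatorElement IsMulCommutative

namespace CfsgTB

universe u
variable {G : Type u} [Group G] [Finite G] {H K N P Q S A B V X Z : Subgroup G} {p q k n r : ℕ} {x : G}
  [hp : Fact p.Prime]

theorem card_dvd_of_cyc (h1 : Cyc[Z]) (h2 : ∀ z ∈ Z, z ^ p = 1) : o[Z] ∣ p := by
  obtain ⟨g, hg⟩ := h1.exists_ofOrder_eq_natCard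
  rw [← hg]
  exact orderOf_dvd_of_pow_eq_one (Subtype.ext (h2 g g.2))

theorem le_cent_of_card (h : o[Z] ∣ p) (hS : PG[p, S]) (hn : S ≤ N[Z]) : Z ≤ C[S] := by
  rcases (Nat.dvd_prime hp.out).1 h with a | a
  · rw [card_eq_one.1 a]; exact bot_le
  obtain ⟨z, z1, z2⟩ := exists_ne_one (inf_cent_ne_bot hS hn a.symm.dvd)
  exact (zpowers_eq_of_prime (a ▸ hp.out) z1.1 z2).ge.trans (zpowers_le.2 z1.2)

theorem BC.le_of_normal [V.Normal] (h : BC p V) [A.Normal] (hA : PG[p, A]) : A ≤ V :=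
  haveI := CfsgH1.normal_map_mk' V A
  mk_bot.1 (le_bot_iff.1 ((CfsgH1.le_pCore (hA.map _)).trans h.core.le))

theorem exists_order [V.Normal] (hA : PG[p, A]) (h : ¬ A ≤ V) : ∃ a ∈ A, a ∉ V ∧ a ^ p ∈ V := by
  obtain ⟨L, l1, l2, l3, l4, -⟩ := exists_step hA hA (inf_le_left.lt_of_ne fun e => h (e.ge.trans
    (inf_le_right (b := V)))) (le_norm_inf le_normalizer le_normalizer_of_normal) le_normalizer
  obtain ⟨a, a1, a2⟩ := SetLike.exists_of_lt (l1.lt_of_ne fun e => hp.out.ne_one (by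
    rw [← l4, e, relIndex_self]))
  exact ⟨a, l2 a1, fun b => a2 ⟨l2 a1, b⟩, (l4 ▸ pow_relIndex_mem' l3 a1).2⟩

theorem order_mk [V.Normal] (h1 : x ∉ V) (h2 : x ^ p ∈ V) : orderOf (x : G ⧸ V) = p ^ (0 + 1) := by
  simpa using orderOf_eq_prime ((QuotientGroup.eq_one_iff _).2 h2) (mt (QuotientGroup.eq_one_iff _).1 h1)

theorem BC.cyc_le [V.Normal] (h : BC p V) (hS : Syl p S ⊤) (hA : A ≤ S) (nA : S ≤ N[A]) (cA : Cyc[A])
    (h4 : p ≠ 2 ∨ ¬ I4 (⊤ : Subgroup G)) : A ≤ V := by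
  by_contra hn
  have pV := elem_pgroup h.el
  have c : o[A ⊓ V] ∣ p := card_dvd_of_cyc (isCyclic_of_le cA inf_le_left) fun z hz => h.el.2 z hz.2
  have c1 : ⁅V, A⁆ ≤ A ⊓ V := le_inf (comm_le_right ((h.le hS).trans nA))
    (comm_le_left le_normalizer_of_normal)
  obtain ⟨a, a1, a2, a3⟩ := exists_order (hS.pg.to_le hA) hn
  let f := QuotientGroup.mk' V
  have y := cy_of_order (order_mk a2 a3)
  rw [pow_zero, pow_one] at y
  obtain ⟨q, _, Q, pq, -, q2, s⟩ := exists_sp (CfsgH1.IsPSolvable.quotient' h.sol V) h.core y.pg le_rfl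
    le_normalizer fun e => hp.out.ne_one (by rw [← y.card, e, card_bot])
  obtain ⟨T, hT⟩ := exists_syl q (Q.comap f)
  have sf := map_comap_eq_self_of_surjective (QuotientGroup.mk'_surjective V) Q
  have t1 : T.map f = Q := ((hT.map f).eq_of_pgroup (by rw [sf]; exact s.pg)).trans sf
  have t2 : Q.comap f = V ⊔ T := by rw [← t1, comap_map_mk, sup_comm]
  have cT := coprime_of_pgroup hT.pg (not_dvd_pg pV pq.symm)
  obtain ⟨k, k1, m₀, m1, e⟩ := hT.frattini (comap_norm_ge f Q (x := a) (q2 (mem_zpowers _)))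
  obtain ⟨v, v1, t, t0, rfl⟩ := (mem_sup_of_norm' le_normalizer_of_normal).1 (t2.le k1)
  obtain ⟨m, hm⟩ : ∃ m, m = t * m₀ := ⟨_, rfl⟩
  have m2 : m ∈ N[T] := hm ▸ mul_mem (le_normalizer t0) m1
  have m3 : m = v⁻¹ * a := by rw [e, hm]; group
  have m4 : f m = f a := by
    rw [m3, map_mul, show f v⁻¹ = 1 from (QuotientGroup.eq_one_iff _).2 (inv_mem v1), one_mul]
  have ab := isMulComm_of_cyclic cA
  have cv : ∀ w ∈ V, ⁅w, a⁆ ∈ A ⊓ V := fun w hw => c1 (commutator_mem_commutator hw a1)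
  by_cases p2 : p = 2
  · subst p2
    obtain ⟨_, ⟨t, t0, rfl⟩, g2⟩ : ∃ g ∈ T.map f, ⁅g, f a⁆ ≠ 1 := by
      by_contra! z
      exact s.ne (s.comm.symm.trans (comm_eq_bot_iff.2 (t1 ▸ fun g hg => cent_zpowers (f a) ▸
        mem_centralizer_singleton_iff.2 (commutatorElement_eq_one_iff_mul_comm.1 (z g hg)))))
    have x1 : ⁅t, m⁆ ∈ T := comm_le_left (zpowers_le.2 m2) (commutator_mem_commutator t0 (mem_zpowers m))
    refine h4.resolve_left (by simp) (i4_dih h.el.1 pV le_top (a := a) (x := ⁅t, m⁆)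
      ⟨trivial, le_normalizer_of_normal (mem_top _)⟩ ⟨trivial, le_normalizer_of_normal (mem_top _)⟩
      ((coprime_of_pgroup hT.pg fun z => pq ((Nat.prime_dvd_prime_iff_eq Fact.out Nat.prime_two).1
        z).symm).coprime_dvd_left (orderOf_dvd_of_mem x1)) (le_cent_self h.el.1
          ((QuotientGroup.eq_one_iff _).1 ?_)) (fun z => g2 ?_) ((relIndex_cent1_le cv).trans
            (Nat.le_of_dvd two_pos c)))
    · have : f a * f a = 1 := by rw [← map_mul, ← sq]; exact (QuotientGroup.eq_one_iff _).2 a3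
      change f _ = 1
      simp only [map_mul, map_inv, commutatorElement_def, m4, inv_eq_of_mul_eq_one_right this]
      simp only [mul_assoc, ← mul_assoc (f a) (f a), this, one_mul, inv_mul_cancel_left, mul_inv_cancel_left]
    · rw [← m4, ← map_commutatorElement]
      exact (QuotientGroup.eq_one_iff _).2 (h.cent z)
  have z0 : A ⊓ V ≠ ⊥ := fun z => hn ((le_centralizer_iff.1 (comm_eq_bot_iff.1 (le_bot_iff.1
    (c1.trans z.le)))).trans h.cent)
  have z1 := ((Nat.dvd_prime hp.out).1 c).resolve_left (mt card_eq_one.1 z0)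
  have z2 : a ^ p ≠ 1 := fun z => a2 ((le_of_card_dvd_of_cyclic cA (zpowers_le.2 a1) inf_le_left (by
    rw [z1, Nat.card_zpowers]; exact orderOf_dvd_of_pow_eq_one z)) (mem_zpowers a)).2
  have z3 : m ^ p = a ^ p := by
    have b : a⁻¹ * v * a * v⁻¹ ∈ A ⊓ V := by
      simpa [commutatorElement_def] using ((commutator_comm A V).le.trans c1)
        (commutator_mem_commutator (inv_mem a1) v1)
    obtain ⟨j, hj⟩ := dvd_choose_two p2
    rw [m3, mul_pow_class2 (c := a⁻¹ * v * a * v⁻¹) (by group) (comm_of_isMulComm h.el.1 b.2 (inv_mem v1))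
      (comm_of_isMulComm ab b.1 a1), hj, pow_mul, h.el.2 _ b.2, h.el.2 _ (inv_mem v1)]
    simp
  have z4 : A ⊓ V ≤ C[T] := by
    rw [← zpowers_eq_of_prime (z1 ▸ hp.out) (mem_inf.2 ⟨pow_mem a1 p, a3⟩) z2, ← comm_eq_bot_iff,
      eq_bot_iff, ← inf_eq_bot_of_coprime' cT]
    exact le_inf (comm_le_right (zpowers_le.2 (z3 ▸ pow_mem m2 p))) ((commutator_mono (zpowers_le.2 a3)
      le_rfl).trans (comm_le_left le_normalizer_of_normal))
  have n1 := le_norm_commutator (le_normalizer_of_normal (H := V)) (zpowers_le.2 m2)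
  have l1 : ⁅V, T⁆ ≤ V := comm_le_left le_normalizer_of_normal
  have z5 : zpowers m ≤ C[⁅V, T⁆] := zpowers_le.2 fun w hw => by
    have b : ⁅w, m⁆ = ⁅w, a⁆ := by
      rw [m3, commutatorElement_def, ← mul_assoc, comm_of_isMulComm h.el.1 (l1 hw) (inv_mem v1),
        show v⁻¹ * w * a * w⁻¹ * (v⁻¹ * a)⁻¹ = v⁻¹ * ⁅w, a⁆ * v by simp [commutatorElement_def, mul_assoc],
        comm_of_isMulComm h.el.1 (inv_mem v1) (cv w (l1 hw)).2, inv_mul_cancel_right]
    exact commutatorElement_eq_one_iff_mul_comm.1 (mem_bot.1 ((coprime_comm_inf_cent h.el.1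
      le_normalizer_of_normal cT).le ⟨comm_le_left n1 (commutator_mem_commutator hw (mem_zpowers m)),
        b ▸ z4 (cv w (l1 hw))⟩))
  refine s.ne (s.comm.symm.trans ?_)
  rw [← t1, show (a : G ⧸ V) = f m from m4.symm, ← MonoidHom.map_zpowers, ← map_commutator, mk_bot]
  refine le_trans ?_ h.cent
  rw [← coprime_comm_sup_cent le_normalizer_of_normal cT (.inl (isSolvable_of_pgroup hT.pg)), cent_sup]
  exact le_inf (comm_le_cent_of_norm le_norm_comm_right z5) ((comm_le_left (zpowers_le.2 m2)).trans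
    (le_centralizer_iff.1 inf_le_right))

theorem lin_chain {F W : Type*} [Field F] [AddCommGroup W] [Module F W] [FiniteDimensional F W]
    (N : End F W) (k : ℕ) : ∀ w, (N ^ k) w ≠ 0 → (N ^ (k + 1)) w = 0 → ∃ B : Submodule F W, w ∈ B ∧
      (∀ x ∈ B, N x ∈ B) ∧ finrank F B = k + 1 ∧ (∀ x ∈ B, (N ^ (k + 1)) x = 0) ∧
        ∀ x ∈ B, N x = 0 → x ∈ F ∙ (N ^ k) w := by
  induction k with
  | zero =>
    intro w a b
    have c : ∀ x ∈ F ∙ w, N x = 0 := fun x hx => by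
      obtain ⟨c, rfl⟩ := Submodule.mem_span_singleton.1 hx
      simpa using .inr b
    exact ⟨F ∙ w, Submodule.mem_span_singleton_self w, fun x hx => c x hx ▸ zero_mem _,
      finrank_span_singleton a, by simpa using c, fun x hx _ => hx⟩
  | succ k ih =>
    intro w a b
    obtain ⟨B, b1, b2, b3, b4, b5⟩ := ih (N w) (by rwa [← End.mul_apply, ← pow_succ])
      (by rwa [← End.mul_apply, ← pow_succ])
    have c : ∀ x ∈ B ⊔ F ∙ w, ∃ y ∈ B, ∃ c : F, x = y + c • w := fun x hx => by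
      obtain ⟨y, y1, _, z1, rfl⟩ := Submodule.mem_sup.1 hx
      obtain ⟨c, rfl⟩ := Submodule.mem_span_singleton.1 z1
      exact ⟨y, y1, c, rfl⟩
    refine ⟨B ⊔ F ∙ w, Submodule.mem_sup_right (Submodule.mem_span_singleton_self w), fun x hx => ?_,
      by rw [Submodule.finrank_sup_span_singleton fun z => a (b4 w z), b3], fun x hx => ?_, fun x hx z => ?_⟩
    all_goals obtain ⟨y, y1, c, rfl⟩ := c x hx
    · exact Submodule.mem_sup_left (by simpa using add_mem (b2 y y1) (B.smul_mem c b1))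
    · rw [map_add, map_smul, b, pow_succ', End.mul_apply, b4 y y1]; simp
    · have := congrArg (N ^ k) z
      rw [← End.mul_apply, ← pow_succ, map_add, b4 y y1, zero_add, map_smul, map_zero,
        smul_eq_zero, or_iff_left a] at this
      rw [this, zero_smul, add_zero] at z ⊢
      simpa [pow_succ] using b5 y y1 z

/-- the wreath product `C_p ≀ C_p`. -/
def Wr (p : ℕ) (W : Type*) [Group W] : Prop :=
  ∃ (B : Subgroup W) (t : W), B.Normal ∧ IsMulCommutative B ∧ (∀ b ∈ B, b ^ p = 1) ∧ Nat.card B = p ^ p ∧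
    orderOf t = p ∧ t ∉ B ∧ Nat.card W = p ^ (p + 1) ∧ Nat.card ↥(B ⊓ C1[t]) = p

theorem wr_sec {t : G} (hB : IsElementaryAbelian p B) (h1 : o[B] = p ^ p) (h2 : t ∈ N[B])
    (h3 : B ⊓ zpowers (t ^ p) = ⊥) (h4 : t ^ p ∈ C[B]) (h5 : o[B ⊓ C1[t]] = p)
    (h6 : B ⊔ zpowers t ≤ S) :
    ∃ (W : Type) (_ : Group W) (_ : Finite W), Wr p W ∧ Sec S (⊤ : Subgroup W) := by
  let L := B ⊔ zpowers t
  have l1 : B ≤ L := le_sup_left
  have l2 : t ∈ L := mem_sup_right (mem_zpowers t)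
  haveI := (normal_subgroupOf_iff' (zpowers_le.2 (pow_mem l2 p))).2 ((sup_le (le_centralizer_iff.1
    (zpowers_le.2 h4)) (cent_anti (zpowers_le.2 (npow_mem_zpowers t p)) |> (le_cent_self
      inferInstance).trans)).trans (cent_le_norm _))
  obtain ⟨W, _, _, ⟨ε⟩⟩ := Finite.exists_type_univ_nonempty_mulEquiv.{_, 0}
    (L ⧸ (zpowers (t ^ p)).subgroupOf L)
  let φ := ε.toMonoidHom.comp (QuotientGroup.mk' _)
  have sφ : Surjective φ := ε.surjective.comp (QuotientGroup.mk'_surjective _)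
  have kφ : ∀ g, φ g = 1 ↔ g.1 ∈ zpowers (t ^ p) := fun g =>
    (map_eq_one_iff _ ε.injective).trans (QuotientGroup.eq_one_iff _)
  have nB := (normal_subgroupOf_iff' l1).2 (sup_le le_normalizer (zpowers_le.2 h2))
  have cd : ∀ D ≤ B, o[(D.subgroupOf L).map φ] = o[D] := fun D hD => by
    rw [← card_subgroupOf (hD.trans l1), ← CfsgH2.card_map_mul_card_inf_ker φ, show D.subgroupOf L ⊓ φ.ker = ⊥
      from eq_bot_iff.2 fun g hg => Subtype.ext (mem_bot.1 (h3.le ⟨hD hg.1, (kφ g).1 hg.2⟩)), card_bot, mul_one]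
  have ct : (B.subgroupOf L).map φ ⊓ C1[φ ⟨t, l2⟩] = ((B ⊓ C1[t]).subgroupOf L).map φ := by
    refine le_antisymm ?_ (map_le_iff_le_comap.2 fun g hg => ⟨mem_map_of_mem _ hg.1,
      mem_centralizer_singleton_iff.2 (by
        rw [← map_mul, ← map_mul]; exact congrArg φ (Subtype.ext (mem_centralizer_singleton_iff.1 hg.2)))⟩)
    rintro _ ⟨⟨g, hg, rfl⟩, a⟩
    replace a := mem_centralizer_singleton_iff.1 a
    rw [← commutatorElement_eq_one_iff_mul_comm, ← map_commutatorElement, kφ] at a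
    exact mem_map_of_mem _ ⟨hg, mem_centralizer_singleton_iff.2 (commutatorElement_eq_one_iff_mul_comm.1
      (mem_bot.1 (h3.le ⟨comm_le_left (zpowers_le.2 h2) (commutator_mem_commutator hg (mem_zpowers t)), a⟩)))⟩
  have ab : Ab[(B.subgroupOf L).map φ] := isMulComm_map φ ((inj_isMulComm L.subtype_injective).1
    (by rw [map_subgroupOf_eq_of_le l1]; exact hB.1))
  have tp : φ ⟨t, l2⟩ ^ p = 1 := by rw [← map_pow, kφ]; exact mem_zpowers _
  have tB : φ ⟨t, l2⟩ ∉ (B.subgroupOf L).map φ := fun a => by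
    rw [inf_of_le_left (le_cent1_iff.2 (le_cent_self ab a))] at ct
    have := (cd B le_rfl).symm.trans (ct ▸ cd _ inf_le_left)
    rw [h1, h5] at this
    exact (Nat.lt_pow_self hp.out.one_lt).ne' this
  haveI := nB.map φ sφ
  refine ⟨W, _, inferInstance, ⟨_, φ ⟨t, l2⟩, this, ab, ?_, (cd B le_rfl).trans h1, orderOf_eq_prime tp
    fun a => tB (a ▸ one_mem _), tB, ?_, by rw [ct, cd _ inf_le_left, h5]⟩,
    L, _, inclusion h6, φ, inclusion_injective h6, map_top_of_surjective φ sφ⟩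
  · rintro _ ⟨g, hg, rfl⟩
    rw [← map_pow, show g ^ p = 1 from Subtype.ext (hB.2 _ hg), map_one]
  · rw [← card_top, ← map_top_of_surjective φ sφ, ← map_injective L.subtype_injective
      (show (B.subgroupOf L ⊔ zpowers ⟨t, l2⟩).map L.subtype = map L.subtype ⊤ by
        rw [Subgroup.map_sup, map_subgroupOf_eq_of_le l1, MonoidHom.map_zpowers, map_subtype_top]; rfl),
      Subgroup.map_sup, MonoidHom.map_zpowers, card_sup_zpowers_prime hp.out (le_normalizer_of_normal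
        (mem_top _)) (tp ▸ one_mem _) tB, cd B le_rfl, h1, pow_succ]

theorem BC.wr [V.Normal] (h : BC p V) (hS : Syl p S ⊤) (hp2 : p ≠ 2) (hf : ¬ ∃ k, p = 2 ^ k + 1)
    (hn : ¬ S ≤ V) : ∃ (W : Type) (_ : Group W) (_ : Finite W), Wr p W ∧ Sec S (⊤ : Subgroup W) := by
  obtain ⟨a, a1, a2, a3⟩ := exists_order hS.pg hn
  obtain ⟨W, _, _, _, ρ, e, r1, r2, r3, r4⟩ := h.rep
  haveI : Module.Finite (ZMod p) W := Module.Finite.of_finite
  have p1 : p - 1 + 1 = p := Nat.sub_add_cancel hp.out.pos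
  have g1 : (ρ a - 1) ^ p = ρ a ^ p - 1 := by simpa using sub_one_pow (K := ZMod p) (p := p) (ρ a) 1
  have g2 : ∑ i ∈ Finset.range p, ρ a ^ i = (ρ a - 1) ^ (p - 1) := by
    simpa using geom_eq (K := ZMod p) (p := p) (ρ a) 1
  obtain ⟨w, hw⟩ : ∃ w, ((ρ a - 1) ^ (p - 1)) w ≠ 0 := by
    by_contra! z
    obtain ⟨q, _, Q, -, -, s, t⟩ := thmB r1 (CfsgH1.IsPSolvable.quotient' h.sol V) h.core
      (order_mk a2 a3) (LinearMap.ext z)
    have := t.le (ne_of_odd hp2 (.inl hf)) s.pg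
    simp at this
    omega
  obtain ⟨B₀, b1, b2, b3, -, b5⟩ := lin_chain _ _ w hw (by
    rw [p1, g1, ← map_pow, ← QuotientGroup.mk_pow, (QuotientGroup.eq_one_iff _).2 a3]; simp)
  let τ := fun U : Submodule (ZMod p) W => (AddSubgroup.toSubgroup U.toAddSubgroup).map e
  have cd : ∀ U, o[τ U] = p ^ finrank (ZMod p) U := fun U => by
    rw [card_map_of_injective r2]
    exact (natCard_eq_pow_finrank (K := ZMod p) (V := U)).trans (by rw [Nat.card_zmod])
  have lV : τ B₀ ≤ V := r3 ▸ map_le_range _ _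
  have cm : ∀ v ∈ V, ∀ x, v * a * e (.ofAdd x) * (v * a)⁻¹ = e (.ofAdd (ρ a x)) := fun v hv x => by
    rw [← r4, QuotientGroup.mk_mul, (QuotientGroup.eq_one_iff _).2 hv, one_mul]
  obtain ⟨v, v1, v2⟩ : ∃ v ∈ τ B₀, τ B₀ ⊓ zpowers ((v * a) ^ p) = ⊥ := by
    by_cases c : a ^ p ∈ τ B₀
    · obtain ⟨x, x1, x2⟩ := c
      obtain ⟨c, hc⟩ := Submodule.mem_span_singleton.1 (b5 x.toAdd x1 (sub_eq_zero.2 (r2 (a₁ := .ofAdd
        (ρ a x.toAdd)) (a₂ := x) (by rw [r4, ofAdd_toAdd, x2]; group))))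
      refine ⟨_, ⟨.ofAdd (-c • w), B₀.smul_mem _ b1, rfl⟩, ?_⟩
      rw [mul_pow_eq r4, g2, map_smul, neg_smul, hc, ← x2]
      simp
    · refine ⟨1, one_mem _, eq_bot_iff.2 fun g hg => by_contra fun z => c ?_⟩
      rw [one_mul] at hg
      exact (zpowers_eq_of_prime (by
        rw [card_zpowers_eq hp.out (h.el.2 _ a3) (fun y => c (y ▸ one_mem _))]; exact hp.out)
        hg.2 z).ge.trans (zpowers_le.2 hg.1) (mem_zpowers _)
  have l := lV.trans (h.le hS)
  have nn : v * a ∈ N[τ B₀] := mem_norm_of_conj (by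
    rintro _ ⟨x, hx, rfl⟩
    exact ⟨_, by simpa using add_mem (b2 x.toAdd hx) (show x.toAdd ∈ B₀ from hx), (cm v (lV v1) x.toAdd).symm⟩)
  refine wr_sec (elem_of_le h.el lV) (by rw [cd, b3, p1]) nn v2 (cent_anti lV
    (le_cent_self h.el.1 ((QuotientGroup.eq_one_iff _).1 ?_))) ?_ (sup_le l (zpowers_le.2 (mul_mem (l v1) a1)))
  · rw [QuotientGroup.mk_pow, QuotientGroup.mk_mul, (QuotientGroup.eq_one_iff _).2 (lV v1), one_mul,
      ← QuotientGroup.mk_pow, (QuotientGroup.eq_one_iff _).2 a3]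
  · refine (Nat.dvd_prime hp.out).1 (((card_dvd_of_le (K := τ (ZMod p ∙ _)) ?_).trans (by
      rw [cd, finrank_span_singleton hw, pow_one]))) |>.resolve_left (mt card_eq_one.1 (cent_zpowers (v * a) ▸ inf_cent_ne_bot
        (hS.pg.to_le (zpowers_le.2 (mul_mem (l v1) a1))) (zpowers_le.2 nn) (by
          rw [cd, b3]; exact dvd_pow_self _ (by omega))))
    rintro _ ⟨⟨x, hx, rfl⟩, c⟩
    exact ⟨x, b5 _ hx (sub_eq_zero.2 (r2 (a₁ := .ofAdd (ρ a x.toAdd)) (a₂ := x) (by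
      rw [← cm v (lV v1), ofAdd_toAdd, ← mem_centralizer_singleton_iff.1 c, mul_inv_cancel_right]))), rfl⟩

end CfsgTB
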