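import Cfsg.Agent.H9.Tb6

/-! `p`-length and the derived length of a Sylow subgroup. -/

set_option autoImplicit false
open Subgroup Cfsg CfsgH2 Function Module CfsgCP
open scoped commutatorElement IsMulCommutative

namespace CfsgTB

section lin
variable {K V : Type*} [Field K] [AddCommGroup V] [Module K V] [FiniteDimensional K V]

theorem idx_le [IsAlgClosed K] [Nontrivial V] {Q : Type*} [Group Q] [Finite Q] {σ : Representation K Q V}
    (hi : ∀ W : Submodule K V, (∀ g, ∀ v ∈ W, σ g v ∈ W) → W = ⊥ ∨ W = ⊤)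
    (hc : ∀ a b : Q, ∃ c : K, ∀ v, σ ⁅a, b⁆ v = c • v) (hd : (finrank K V : K) ≠ 0) {Z : Subgroup Q}
    (hZ : ∀ g, (∃ c : K, ∀ v, σ g v = c • v) → g ∈ Z) : Z.index ≤ finrank K V * finrank K V := by
  have t : ∀ g ∉ Z, LinearMap.trace K V (σ g) = 0 := fun g hg => by_contra fun z =>
    hg (hZ g (schur hi fun h => by
      obtain ⟨c, e⟩ := hc g h
      have a : σ g * σ h = c • (σ h * σ g) := LinearMap.ext fun v => by
        rw [LinearMap.smul_apply, ← e, ← End.mul_apply, ← map_mul, ← map_mul, ← map_mul]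
        simp [commutatorElement_def, mul_assoc]
      have b := congrArg (fun φ => LinearMap.trace K V (φ * σ h⁻¹)) a
      simp only [smul_mul_assoc, map_smul] at b
      rw [mul_assoc, ← map_mul, mul_inv_cancel, map_one, mul_one, LinearMap.trace_mul_cycle, ← map_mul,
        inv_mul_cancel, map_one, one_mul, smul_eq_mul] at b
      rw [a, (mul_eq_right₀ z).1 b.symm, one_smul]))
  have := Fintype.ofFinite (Q ⧸ Z)
  have l : LinearIndependent K fun c : Q ⧸ Z => σ c.out := linearIndependent_iff'.2 fun s g h i hi => by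
    have := congrArg (fun φ => LinearMap.trace K V (σ i.out⁻¹ * φ)) h
    simp only [Finset.mul_sum, mul_smul_comm, map_sum, map_smul, ← map_mul, mul_zero, map_zero] at this
    rw [Finset.sum_eq_single_of_mem i hi fun j _ ij => by
      rw [t _ fun a => ij (by simpa using (QuotientGroup.eq.2 a).symm), smul_zero]] at this
    simpa [hd] using this
  simpa [index_eq_card, finrank_linearMap] using l.fintype_card_le_finrank

variable {G : Type*} [Group G] [Finite G] {ρ : Representation K G V} {Q A B : Subgroup G}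
  {U : Submodule K V} {y : G} {p q r : ℕ}

/-- elements acting as scalars on a subspace. -/
def Sc (ρ : Representation K G V) (U : Submodule K V) : Subgroup G := sg
  { carrier := {g | ∃ c : K, ∀ v ∈ U, ρ g v = c • v}
    one_mem' := ⟨1, by simp⟩
    mul_mem' := fun ⟨a, ha⟩ ⟨b, hb⟩ => ⟨b * a, fun v hv => by simp [hb v hv, ha v hv, mul_smul]⟩ }

omit [FiniteDimensional K V] in
theorem II_le_norm : II ρ Q U ≤ N[Q ⊓ Sc ρ U] := fun u ⟨a, φ, b, c⟩ => inv_mem_iff.1
  (mem_norm_of_conj fun g ⟨g1, d, e⟩ => ⟨conj_mem_of_norm (inv_mem a) g1, d, fun v hv => by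
    obtain ⟨w, w1, w2⟩ := c.ge ⟨v, hv, rfl⟩
    rw [inv_inv, map_mul, map_mul, End.mul_apply, End.mul_apply, ← w2, ← b.app g1, e w w1, map_smul, w2]
    simp⟩)

theorem Ir.idx [IsAlgClosed K] (h : Ir ρ Q U) (hc : ⁅Q, Q⁆ ≤ C[Q]) (hd : (finrank K U : K) ≠ 0) :
    (Q ⊓ Sc ρ U).relIndex Q ≤ finrank K U * finrank K U := by
  haveI := h.nt
  refine idx_le h.hi (fun a b => ?_) hd fun g ⟨c, e⟩ => ⟨g.2, c, fun v hv => congrArg Subtype.val (e ⟨v, hv⟩)⟩
  obtain ⟨c, e⟩ := h.scalar (h.iv ⁅a, b⁆.2) (hc (commutator_mem_commutator a.2 b.2))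
  exact ⟨c, fun v => Subtype.ext (e _ v.2)⟩

variable [hp : Fact p.Prime] [CharP K p] [hq : Fact q.Prime]

theorem core1 [IsAlgClosed K] (s : SP q Q (zpowers y)) (hpq : p ≠ q) (hx : y ∈ N[Q]) (hn : y ^ p = 1)
    (h3 : ∃ g ∈ Q, ρ g ≠ 1) (hr : (ρ y - 1) ^ r = 0) (lt : r < p) :
    ∃ U, Ir ρ Q U ∧ y ∈ St ρ U ∧ y ∉ Fx ρ U ∧ r + 1 = p ∧ finrank K U = r ∧ 1 < r := by
  have c := card_ne (K := K) s.pg hpq
  obtain ⟨W, w1, w2, w3⟩ := exists_W c h3
  obtain ⟨U, u1, e, u2, u3, u4, u5⟩ := clifford c hx (le_normalizer.trans w2) (w2 hx) w1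
  rcases (Nat.dvd_prime hp.out).1 (u4 p (hn ▸ one_mem _)) with rfl | rfl
  swap
  · have := lift_pow (j := 1) (by rwa [pow_one]) (by rwa [pow_one]) hr
    exact (u2.ne (eq_bot_iff.2 fun v hv => by simpa [Nat.div_eq_of_lt lt] using this v hv)).elim
  rw [pow_one] at u3
  have f : y ∉ Fx ρ U := fun a => u2.ne (w3 U u1 (s.comm.ge.trans ((commutator_mono le_rfl
    (zpowers_le.2 a)).trans (comm_le_right (u2.iv.trans St_le_norm)))))
  have := u2.crit c hx u3 (k := 1) (by rwa [pow_one]) (fun i a b => (inf_le_inf_left _ (by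
    rw [← cent_zpowers]
    refine cent_anti (zpowers_le.2 (mem_of_pow_mem_coprime (mem_zpowers _) ?_))
    exact (Nat.coprime_of_lt_prime a.ne' (by simpa using b) hp.out).coprime_dvd_left
      (orderOf_dvd_of_pow_eq_one hn))).trans (s.cen.le.trans s.phi)) (fun v _ => by rw [hr]; rfl) f
  rw [pow_one] at this
  exact ⟨U, u2, u3, f, this.resolve_left lt.not_ge⟩

theorem quad_der [IsAlgClosed K] (hp2 : p ≠ 2) (s : SP q Q (zpowers y)) (hpq : p ≠ q) (hB : PG[p, B])
    (nB : B ≤ N[Q]) (hy : y ∈ ⁅B, B⁆) (cy : y ∈ C[B]) (hn : y ^ p = 1) (h3 : ∃ g ∈ Q, ρ g ≠ 1)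
    (h2 : (ρ y - 1) ^ 2 = 0) (h : ∀ b ∈ B, (ρ y - 1) * (ρ b - 1) ^ 2 = 0) : False := by
  obtain ⟨U, u1, u2, u3, rfl, u5, -⟩ := core1 s hpq (nB (commutator_self_le hy)) hn h3 h2
    (hp.out.two_le.lt_of_ne' hp2)
  have ob : ¬ 2 ∣ o[B] := not_dvd_pg hB (by decide)
  have l : B ≤ II ρ Q U := fun b hb => by_contra fun z => u3 fun v hv => by
    obtain ⟨π, p1, p2, p3⟩ := exists_proj (card_ne s.pg hpq) u1.iv
    have m := sub_mem (u2 v hv) hv
    have a := u1.proj p1 p2 (nB hb) z m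
    have c := u1.proj p1 p2 (nB (pow_mem hb 2)) (fun c => z (mem_of_pow_mem_coprime c
      (((Nat.Prime.coprime_iff_not_dvd Nat.prime_two).2 ob).symm.coprime_dvd_left (orderOf_dvd_of_mem hb)))) m
    have d : Commute (ρ y) (ρ b) := by rw [Commute, SemiconjBy, ← map_mul, ← map_mul, cy b hb]
    have e := congrArg (fun φ => π (φ v)) (h b hb)
    rw [(((d.sub_left (Commute.one_left _)).sub_right (Commute.one_right _)).pow_right 2).eq] at e
    simp only [sq, map_mul, End.mul_apply, LinearMap.sub_apply, End.one_apply, map_sub (ρ b)] at e c a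
    rw [map_sub, map_sub π (_ - _) (_ - _), map_sub π (_ - _) (_ - _), c, a, p3 _ m] at e
    simpa [sub_eq_zero] using e
  have n := l.trans II_le_norm
  have nQ : Q ≤ N[Q ⊓ Sc ρ U] := (le_II le_normalizer u1.iv).trans II_le_norm
  have i := u1.idx ((comm_le_phi (nil_of_pg s.pg)).trans s.phi) (by
    rw [u5, Ne, CharP.cast_eq_zero_iff K (2 + 1)]; decide)
  rw [u5, ← card_qt nQ] at i
  have nn := qt_le_norm (K := Q ⊓ Sc ρ U) nB
  have c : ⁅qt (Q ⊓ Sc ρ U) B, qt (Q ⊓ Sc ρ U) B⁆ ≤ C[qt (Q ⊓ Sc ρ U) Q] := by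
    rcases i.eq_or_lt with e | e
    · by_contra z
      exact ob ((show 2 ∣ 6 by decide).trans ((idx_six e nn z).symm ▸ (relIndex_dvd_card _ _).trans card_qt_dvd))
    refine commutator_le_cent_of_cyclic ?_ nn
    have := card_pos' (qt (Q ⊓ Sc ρ U) Q)
    generalize e' : o[qt (Q ⊓ Sc ρ U) Q] = m at *
    interval_cases m
    · rw [card_eq_one.1 e']; infer_instance
    · exact isCyclic_of_prime_card (p := 2) e'
    · exact isCyclic_of_prime_card (p := 3) e'
  rw [← qt_commutator n n, qt_le_cent_iff (commutator_self_le.trans n) nQ] at c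
  have k : Q ≤ Sc ρ U := (s.comm.ge.trans ((commutator_comm _ _).le.trans
    ((commutator_mono (zpowers_le.2 hy) le_rfl).trans c))).trans inf_le_right
  have := u1.rank_one (commutator_le.2 fun a ha b hb v hv => by
    obtain ⟨c, e⟩ := k ha
    have m := u1.iv (inv_mem ha) _ (u1.iv (inv_mem hb) v hv)
    rw [commutatorElement_def, map_mul, map_mul, map_mul, End.mul_apply, End.mul_apply, End.mul_apply,
      e _ (u1.iv hb _ m), ← map_smul, ← e _ m]
    simp)
  omega

end lin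

universe u
variable {G : Type u} [Group G] [Finite G] {S A B V : Subgroup G} {p k : ℕ} [hp : Fact p.Prime]

omit [Finite G] in
theorem sub_one_eq {W : Type*} [AddCommGroup W] [Module (ZMod p) W] [V.Normal]
    {ρ : Representation (ZMod p) (G ⧸ V) W} {e : Multiplicative W →* G}
    (h : ∀ (g : G) w, e (.ofAdd (ρ g w)) = g * e (.ofAdd w) * g⁻¹) (w : W) (x : G) :
    e (.ofAdd ((ρ x - 1) w)) = ⁅x, e (.ofAdd w)⁆ := by
  rw [LinearMap.sub_apply, ofAdd_sub, map_div, h, div_eq_mul_inv]; rfl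

theorem BC.der_le [V.Normal] (h : BC p V) (hp2 : p ≠ 2) (hB : PG[p, B]) (nB : V ≤ N[B])
    (hA : Ab[⁅B, B⁆]) : ⁅B, B⁆ ≤ V := by
  by_contra hn
  let f := QuotientGroup.mk' V
  have pB := hB.map f
  obtain ⟨y, ⟨y1, y2⟩, y3⟩ := exists_prime_order_mem hp.out (dvd_card_of_pgroup (pB.to_le (inf_le_left.trans
    commutator_self_le)) (inf_cent_ne_bot' pB (pB.to_le commutator_self_le) le_norm_comm_left (by
      rw [← map_commutator]; exact mt mk_bot.1 hn)))
  obtain ⟨q, _, Q, pq, -, q2, s⟩ := exists_sp (CfsgH1.IsPSolvable.quotient' h.sol V) h.core pB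
    (zpowers_le.2 (commutator_self_le y1)) ((le_centralizer_iff.1 (zpowers_le.2 y2)).trans (cent_le_norm _))
    fun e => hp.out.ne_one (by rw [← y3, ← Nat.card_zpowers, e, card_bot])
  obtain ⟨W, _, _, _, ρ, e, r1, r2, r3, r4⟩ := h.rep
  haveI : Module.Finite (ZMod p) W := Module.Finite.of_finite
  obtain ⟨Θ, i⟩ := exists_cl (ZMod p) W
  obtain ⟨g, g1, g2⟩ := exists_ne_one s.ne
  obtain ⟨a, a1, rfl⟩ := (map_commutator B B f).ge y1
  have m : ∀ w, e w ∈ V := fun w => r3.le ⟨w, rfl⟩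
  have k : ∀ w, e (.ofAdd w) ∈ ⁅B, B⁆ → (ρ a - 1) w = 0 := fun w hw => r2 (a₁ := .ofAdd ((ρ a - 1) w))
    (a₂ := 1) (by
    rw [sub_one_eq r4, map_one, commutatorElement_eq_one_iff_mul_comm, comm_of_isMulComm hA a1 hw])
  refine quad_der (ρ := Θ.toMonoidHom.comp ρ) hp2 s pq pB q2 y1 y2 (y3 ▸ pow_orderOf_eq_one _)
    ⟨g, g1, fun z => g2 (r1 ((i (z.trans Θ.map_one.symm)).trans ρ.map_one.symm))⟩ ?_ ?_
  · have : (ρ a - 1) ^ 2 = 0 := (sq _).trans <| LinearMap.ext fun w => k _ (by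
      rw [sub_one_eq r4]
      exact comm_le_left (le_norm_commutator nB nB) (commutator_mem_commutator a1 (m _)))
    simpa [f] using congrArg Θ this
  · rintro _ ⟨b, hb, rfl⟩
    have : (ρ a - 1) * (ρ b - 1) ^ 2 = 0 := LinearMap.ext fun w => k _ (by
      rw [sq, End.mul_apply, sub_one_eq r4, sub_one_eq r4]
      exact commutator_mem_commutator hb (comm_le_left nB (commutator_mem_commutator hb (m _))))
    simpa [f] using congrArg Θ this

theorem plen_der (hp2 : p ≠ 2) (hG : IsPSolvable p G) (hS : Syl p S ⊤) (h : DS k S = ⊥) :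
    PLengthLE p k G :=
  plen_syl (fun k _ _ S => DS k S = ⊥) (fun _ _ _ _ _ _ _ f S _ a => by
    rw [← map_DS, a, Subgroup.map_bot]) (fun _ _ _ _ a => a) (fun k _ _ _ V S _ a b c => by
      rw [← map_DS, mk_bot]
      have d := comm_self_eq_bot_iff.1 c
      cases k with
      | zero => exact (le_cent_of_comm d (a.le b)).trans a.cent
      | succ k => exact a.der_le hp2 (b.pg.to_le (DS_le k)) ((a.le b).trans (le_normalizer.trans (norm_DS k))) d)
    hG hS h

end CfsgTB
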