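import Cfsg.Agent.H9.Tb7

/-! Primitive quotients of `p`-solvable groups. -/

set_option autoImplicit false
open Subgroup Cfsg CfsgH2 Function Module CfsgCP
open scoped commutatorElement IsMulCommutative

namespace CfsgTB

universe u
variable {G : Type u} [Group G] [Finite G] {T R : Subgroup G} {p : ℕ} [hp : Fact p.Prime]

theorem npc_iff_res : NPC p T ↔ piRes {p}ᶜ (piRes {p} T) = ⊥ :=
  ⟨fun h => piRes_eq_bot' ((piN_compl_singleton hp.out).2 (NPC.iff_piRes.1 h)), fun h =>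
    NPC.iff_piRes.2 ((piN_compl_singleton hp.out).1 (by simpa using piN_relIndex_of_piRes_le h.le))⟩

theorem prim_aux' (hG : IsPSolvable p G) (nT : ⊤ ≤ N[T]) (hR : R = piRes {p}ᶜ (piRes {p} T)) (h0 : R ≠ ⊥)
    (h : ∀ K : Subgroup G, ⊤ ≤ N[K] → K ≠ ⊥ → R ≤ K) : pCore p G = R ∧ C[R] ≤ R ∧ Ab[R] ∧
      ∃ M, IsCoatom M ∧ R ⊓ M = ⊥ ∧ R ⊔ M = ⊤ := by
  have nX := nT.trans (norm_le_norm_piRes (π := {p}))
  have nR : ⊤ ≤ N[R] := hR ▸ nX.trans norm_le_norm_piRes
  have o : ∀ K : Subgroup G, ⊤ ≤ N[K] → ¬ p ∣ o[K] → K = ⊥ := fun K a b => by_contra fun z => h0 (by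
    rw [hR, ← piRes_piRes, ← hR]
    exact piRes_eq_bot' (piN_of_le ((piN_compl_singleton hp.out).2 b) (h K a z)))
  have c := CfsgH1.centralizer_pCore_le hG (o _ le_normalizer_of_normal not_dvd_pPrimeCore)
  have pP : PG[p, pCore p G] := isPGroup_pCore
  have z := h Z[pCore p G] (le_normalizer_of_normal.trans norm_le_norm_center) (center_ne_bot pP fun e =>
    h0 (eq_bot_iff.2 (le_top.trans (cent_bot.ge.trans (e ▸ c)))))
  have pR := pP.to_le (z.trans inf_le_left)
  have ab := isMulComm_of_le (isMulComm_cent_inf _) z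
  haveI := top_le_norm_iff.1 nR
  obtain ⟨M, m1, m2⟩ := CfsgH1.exists_coatom_not_le (N := R) fun f => by
    have r : ¬ p ∣ R.relIndex (piRes {p} T) := (piN_compl_singleton hp.out).1 (hR ▸ piN_relIndex_piRes)
    obtain ⟨H, a, b, -, d⟩ := exists_compl (hR.le.trans piRes_le) (le_top.trans nR) (coprime_of_pgroup pR r)
    have cH : o[H].Coprime o[R] := d ▸ (coprime_of_pgroup pR r).symm
    have t : R ⊔ N[H] = ⊤ := eq_top_iff.2 fun g _ => by
      obtain ⟨y, hy, u⟩ := exists_conj_le_compl (B := H.map (cj g)) le_normalizer_of_normal cH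
        (by rwa [card_map_cj]) (.inr (isSolvable_of_pgroup pR)) (b ▸ map_cj_le_of_norm a (nX (mem_top g)))
      rw [map_cj_cj] at u
      rw [← inv_mul_cancel_left y g]
      exact mul_mem (mem_sup_left (inv_mem hy)) (mem_sup_right (mem_norm_of_map_le u))
    rw [o H (CfsgH1.eq_top_of_sup_le_frattini f t).ge (d ▸ r), sup_bot_eq] at b
    refine h0 (b.trans ?_)
    rw [← piRes_piRes, ← b]
    exact piRes_eq_bot' ((piN_singleton hp.out (card_pos' R).ne').2 (exists_card_eq_pow pR))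
  have s : R ⊔ M = ⊤ := m1.2 _ (right_lt_sup.2 m2)
  have k : pCore p G ⊓ M = ⊥ := by_contra fun e => m2 ((h _ (s.ge.trans (sup_le (le_norm_of_le_cent
    ((z.trans inf_le_right).trans (cent_anti inf_le_left))) (le_norm_inf le_normalizer_of_normal
      le_normalizer))) e).trans inf_le_right)
  have e : pCore p G = R := by
    rw [← top_inf_eq (pCore p G), ← s, sup_inf_of_norm (.inr le_normalizer_of_normal) (z.trans inf_le_left),
      inf_comm, k, sup_bot_eq]
  exact ⟨e, e ▸ c, ab, M, m1, e ▸ k, s⟩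

theorem exists_prim (hG : IsPSolvable p G) (nT : ⊤ ≤ N[T]) (h : ¬ NPC p T) :
    ∃ (N : Subgroup G) (_ : N.Normal) (V M : Subgroup (G ⧸ N)), ¬ NPC p (T.map (QuotientGroup.mk' N)) ∧
      pCore p (G ⧸ N) = V ∧ V ≠ ⊥ ∧ C[V] ≤ V ∧ Ab[V] ∧ IsCoatom M ∧ V ⊓ M = ⊥ ∧ V ⊔ M = ⊤ := by
  obtain ⟨N, -, ⟨n1, n2⟩, n3⟩ := exists_maximal_ge (fun N => ⊤ ≤ N[N] ∧ ¬ piRes {p}ᶜ (piRes {p} T) ≤ N)
    (H := ⊥) ⟨norm_bot.ge, fun a => h (npc_iff_res.2 (le_bot_iff.1 a))⟩
  haveI := top_le_norm_iff.1 n1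
  have a : piRes {p}ᶜ (piRes {p} (T.map (QuotientGroup.mk' N))) ≠ ⊥ := by
    rw [← map_piRes, ← map_piRes]; exact mt mk_bot.1 n2
  obtain ⟨b, c, d, M, e⟩ := prim_aux' (CfsgH1.IsPSolvable.quotient' hG N)
    (map_mk_top N ▸ map_le_norm_map _ nT) rfl a fun K k1 k2 => by
      rw [← map_piRes, ← map_piRes, map_le_iff_le_comap]
      haveI := top_le_norm_iff.1 k1
      by_contra z
      refine k2 ?_
      rw [← map_comap_eq_self_of_surjective (QuotientGroup.mk'_surjective N) K, mk_bot]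
      exact (n3 _ ⟨le_normalizer_of_normal, z⟩ ((QuotientGroup.ker_mk' N).ge.trans (ker_le_comap _ _))).le
  exact ⟨N, _, _, M, mt npc_iff_res.1 a, b, a, c, d, e⟩

theorem npc_max (hG : IsPSolvable p G) (h : ∀ M : Subgroup G, IsCoatom M → (∃ K : Subgroup M, K.Normal ∧
    ¬ p ∣ Nat.card K ∧ ∃ k : ℕ, K.index = p ^ k) ∨ M.index.Prime) :
    NPC p (piRes {p}ᶜ (piRes {p} (⊤ : Subgroup G))) := by
  by_contra z
  obtain ⟨N, _, V, M, a, rfl, b, c, -, d, e, f⟩ := exists_prim hG (le_normalizer.trans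
    (norm_le_norm_piRes.trans norm_le_norm_piRes)) z
  have s := QuotientGroup.mk'_surjective N
  refine a (NPC.of_pgroup (isPGroup_pCore.to_le ?_))
  rw [map_piRes, map_piRes, map_mk_top, ← mk_bot, map_piRes, map_piRes, ← npc_iff_res]
  rcases h _ (isCoatom_comap_of_surjective s d) with ⟨K, k1, k2, k, k3⟩ | k
  · rw [← f, Subgroup.map_sup, mk_bot.2 le_rfl, bot_sup_eq, ← map_comap_eq_self_of_surjective s M]
    refine ((NPC.of_sub (map_subtype_le K) (CfsgH1.le_normalizer_map_subtype K)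
      (by rwa [card_map_of_injective (subtype_injective _)]) ?_).map _).map _
    rw [relIndex, subgroupOf, comap_map_eq_self_of_injective (subtype_injective _), k3]
    exact (piN_singleton hp.out (pow_pos hp.out.pos _).ne').2 ⟨k, rfl⟩
  · rw [index_comap_of_surjective _ s] at k
    have g : o[pCore p (G ⧸ N)] = M.index := Nat.eq_of_mul_eq_mul_left (card_pos' M) (by
      rw [card_mul_index, mul_comm, ← card_sup_of_disj (.inr le_normalizer_of_normal) e, f, card_top])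
    haveI := Fact.mk k
    refine NPC.of_nilpotent (isNilpotent_of_comm (comm_self_eq_bot_iff.1 ?_))
    rw [← map_commutator, mk_bot]
    exact (commutator_le_cent_of_cyclic (isCyclic_of_prime_card g) le_normalizer_of_normal).trans c

end CfsgTB
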