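import Cfsg.Agent.H2.BG0
import Cfsg.Agent.H2.Trans
import Cfsg.Agent.H1.Misc1
import Cfsg.Agent.H9.Comp
import Cfsg.Agent.S0081

/-! Groups with a two-generated Sylow subgroup. -/

namespace CfsgTG
open Subgroup Cfsg CfsgH2 Function
open scoped commutatorElement

variable {G : Type*} [Group G] [Finite G] {p : ℕ} [hp : Fact p.Prime] {P M N X : Subgroup G}

theorem tate (hP : Syl p P M) (hN : N ≤ M) (hn : M ≤ N[N]) (h : N ⊓ P ≤ Φ[P]) : NPC p N := by
  obtain ⟨Q, rfl⟩ := hP.exists_sub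
  haveI : (N.subgroupOf M).Normal := (normal_subgroupOf_iff' hN).2 hn
  have h1 := Cfsg.Agent.S0081.result Q (N.subgroupOf M) (by
    intro x hx
    have h2 := h (⟨hx.1, x, hx.2, rfl⟩ : (x : G) ∈ N ⊓ (Q : Subgroup M).map M.subtype)
    rw [← map_phi M.subtype Q.isPGroup'] at h2
    obtain ⟨y, hy, e⟩ := h2
    have : y = x := Subtype.ext e
    exact this ▸ hy)
  have h2 := (inj_npc (subtype_injective M)).2 (npc_iff.1 h1)
  rwa [map_subgroupOf_eq_of_le hN] at h2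

theorem exists_sup (hi : Φ[P].relIndex P = p ^ 2) (hX : X ≤ P) (h : ¬ X ≤ Φ[P]) :
    ∃ y ∈ P, X ⊔ zpowers y = P := by
  have hY : Φ[P] ⊔ X ≤ P := sup_le phi_le hX
  have e := relIndex_mul_relIndex Φ[P] (Φ[P] ⊔ X) P le_sup_left hY
  rw [hi] at e
  obtain ⟨k, hk, e1⟩ := (Nat.dvd_prime_pow hp.out).1 (Dvd.intro_left _ e)
  have h1 : Φ[P].relIndex (Φ[P] ⊔ X) ≠ 1 := fun h1 => h (le_sup_right.trans (relIndex_eq_one.1 h1))
  interval_cases k
  · refine ⟨1, one_mem _, ?_⟩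
    rw [zpowers_one_eq_bot, sup_bot_eq]
    exact eq_of_le_phi_sup hX (relIndex_eq_one.1 e1)
  · rw [pow_one] at e1
    obtain ⟨y, y1, y2⟩ : ∃ y ∈ P, y ∉ Φ[P] ⊔ X := by
      by_contra hc
      push Not at hc
      exact hp.out.ne_one (e1.symm.trans (relIndex_eq_one.2 hc))
    have := CfsgH1.sup_zpowers_eq_of_prime (e1 ▸ hp.out) hY y1 y2
    rw [sup_assoc] at this
    exact ⟨y, y1, eq_of_phi_sup this⟩
  · rw [e1] at e
    exact absurd (Nat.eq_of_mul_eq_mul_right (pow_pos hp.out.pos 2) (e.trans (one_mul _).symm)) h1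

omit hp [Finite G] in
theorem cyc_qt {y : G} (hn : P ≤ N[N]) (h : X ≤ N) (e : X ⊔ zpowers y = P) : Cyc[qt N P] := by
  have hy : zpowers y ≤ N[N] := (le_sup_right.trans e.le).trans hn
  rw [← e, qt_sup (h.trans le_normalizer) hy, qt_eq_bot_of_le h, bot_sup_eq]
  exact isCyclic_qt inferInstance

theorem comm_le (hi : Φ[P].relIndex P = p ^ 2) (hn : P ≤ N[N]) (h : ¬ N ⊓ P ≤ Φ[P]) :
    ⁅P, P⁆ ≤ N := by
  obtain ⟨y, -, e⟩ := exists_sup hi inf_le_right h
  rw [← isMulComm_qt_iff hn]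
  haveI := cyc_qt hn inf_le_left e
  infer_instance

theorem cyc_cent {V : Subgroup G} (hP : Syl p P M) (hc : Cyc[P]) (hV : V ≤ P) (h0 : V ≠ ⊥)
    (hM : M ≤ C[V]) : NPC p M := by
  refine hP.npc_of_norm_le_cent fun x hx => ?_
  haveI := hc
  have ab : Ab[P] := inferInstance
  obtain ⟨a, ha, b, hb, rfl, h1, h2⟩ := exists_pi_parts {p} x
  have hz := zpowers_le.2 hx
  have s1 : Syl p P (M ⊓ N[P]) := hP.mono (le_inf hP.le le_normalizer) inf_le_left
  obtain ⟨k, hk⟩ := (piN_singleton hp.out (orderOf_pos a).ne').1 h1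
  have a1 : a ∈ P := s1.mem_of_norm inf_le_right (hz ha) (k := k) (by rw [← hk, pow_orderOf_eq_one])
  refine mul_mem (le_cent_self ab a1) ?_
  have n : zpowers b ≤ N[P] := zpowers_le.2 (hz hb).2
  have c : o[zpowers b].Coprime o[P] := by
    rw [Nat.card_zpowers]
    exact (coprime_of_pgroup hP.pg ((piN_compl_singleton hp.out).1 h2)).symm
  have h : zpowers b ≤ C[omegaOne p P] := by
    refine ((zpowers_le.2 (hz hb).1).trans hM).trans (cent_anti (omegaOne_le_of fun y hy h3 => ?_))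
    refine le_of_card_dvd_of_cyclic hc (zpowers_le.2 hy) hV ?_ (mem_zpowers y)
    rw [Nat.card_zpowers]
    exact (orderOf_dvd_of_pow_eq_one h3).trans (dvd_card_of_pgroup (hP.pg.to_le hV) h0)
  suffices zpowers b ≤ C[P] from this (mem_zpowers b)
  rw [le_centralizer_iff, ← comm_eq_bot_iff]
  by_contra f
  refine omegaOne_ne_bot hp.out (dvd_card_of_pgroup (hP.pg.to_le (comm_le_left n)) f)
    (le_bot_iff.1 ?_)
  rw [← coprime_comm_inf_cent ab n c]
  exact le_inf omegaOne_le ((omegaOne_mono (comm_le_left n)).trans (le_centralizer_iff.1 h))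

theorem pg_of_npc (h : NPC p N) (h0 : O[{p}ᶜ, N] = ⊥) : PG[p, N] := by
  rw [NPC, h0, relIndex_bot_left] at h
  exact isPGroup_iff_piN.2 h

end CfsgTG
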