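import Cfsg.Agent.H9.TwoG
import Cfsg.Agent.S4172

/-! A transfer computation and small lemmas on `p`-groups with `[P : P'] = p ^ 2`. -/

namespace CfsgTG
open Subgroup Cfsg CfsgH2 Function
open scoped commutatorElement

variable {G : Type*} [Group G] [Finite G] {p : ℕ} {P H W K Q : Subgroup G}

theorem transfer_single {A : Type*} [CommGroup A] (ϕ : H →* A) {s : G} (hs : s ∈ H)
    (h : ∀ g, g ∉ H → ∀ (m : ℕ) (hm : g⁻¹ * s ^ m * g ∈ H), ϕ ⟨_, hm⟩ = 1) :
    ϕ.transfer s = ϕ ⟨s, hs⟩ := by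
  classical
  haveI := Fintype.ofFinite (Quotient (MulAction.orbitRel (zpowers s) (G ⧸ H)))
  rw [MonoidHom.transfer_eq_prod_quotient_orbitRel_zpowers_quot,
    Finset.prod_eq_single (Quotient.mk _ ((1 : G) : G ⧸ H))]
  · set q : Quotient (MulAction.orbitRel (zpowers s) (G ⧸ H)) := Quotient.mk _ ((1 : G) : G ⧸ H)
    have h1 : q.out = ((1 : G) : G ⧸ H) := by
      obtain ⟨⟨y, hy⟩, e⟩ := MulAction.orbitRel_apply.1 (Quotient.exact q.out_eq)
      rw [← e]
      change ((y * 1 : G) : G ⧸ H) = _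
      rw [QuotientGroup.eq]
      simpa using zpowers_le.2 hs hy
    have h2 : q.out.out ∈ H := by
      have := q.out.out_eq'
      rw [h1] at this ⊢
      simpa using QuotientGroup.eq.1 this
    have h3 : Function.minimalPeriod (s • ·) q.out = 1 := by
      rw [Function.minimalPeriod_eq_one_iff_isFixedPt, h1]
      change ((s * 1 : G) : G ⧸ H) = _
      rw [QuotientGroup.eq]
      simpa using hs
    have e : (⟨q.out.out⁻¹ * s ^ Function.minimalPeriod (s • ·) q.out * q.out.out,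
        QuotientGroup.out_conj_pow_minimalPeriod_mem H s q.out⟩ : H) =
        ⟨_, h2⟩⁻¹ * ⟨s, hs⟩ * ⟨_, h2⟩ := Subtype.ext (by simp [h3])
    rw [e, map_mul, map_mul, map_inv, mul_comm, mul_inv_cancel_left]
  · intro q _ hq
    refine h _ (fun h1 => hq ?_) _ _
    rw [← q.out_eq, ← q.out.out_eq']
    congr 1
    exact QuotientGroup.eq.2 (by simpa using h1)
  · intro h1
    exact absurd (Finset.mem_univ _) h1

theorem tr_top (hW : W ≤ H) {s : G} (hs : s ∈ H) (hc : s ∈ commutator G)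
    (h : ∀ g, g ∉ H → ∀ m : ℕ, g⁻¹ * s ^ m * g ∈ H → g⁻¹ * s ^ m * g ∈ W) : s ∈ W ⊔ ⁅H, H⁆ := by
  let ϕ := (QuotientGroup.mk' ((W.subgroupOf H).map Abelianization.of)).comp Abelianization.of
  have h1 := transfer_single ϕ hs fun g hg m hm =>
    (QuotientGroup.eq_one_iff _).2 (mem_map_of_mem _ (h g hg m hm))
  rw [show ϕ.transfer s = 1 from commutator_le_ker _ hc, eq_comm] at h1
  have h2 : (⟨s, hs⟩ : H) ∈ ((W.subgroupOf H).map Abelianization.of).comap Abelianization.of :=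
    (QuotientGroup.eq_one_iff (Abelianization.of (⟨s, hs⟩ : H))).1 h1
  rw [comap_map_eq, Abelianization.ker_of] at h2
  have h3 := mem_map_of_mem H.subtype h2
  rwa [Subgroup.map_sup, map_subgroupOf_eq_of_le hW, map_subtype_commutator] at h3

theorem tr (hH : H ≤ P) (hW : W ≤ H) {s : G} (hs : s ∈ H) (hc : s ∈ ⁅P, P⁆)
    (h : ∀ g ∈ P, g ∉ H → ∀ m : ℕ, g⁻¹ * s ^ m * g ∈ H → g⁻¹ * s ^ m * g ∈ W) :
    s ∈ W ⊔ ⁅H, H⁆ := by
  rw [← map_subtype_commutator] at hc
  obtain ⟨s, hc, rfl⟩ := hc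
  have h1 := tr_top (H := H.subgroupOf P) (W := W.subgroupOf P) (fun x hx => hW hx) hs hc
    fun g hg m hm => h g g.2 hg m hm
  have h3 := mem_map_of_mem P.subtype h1
  rwa [Subgroup.map_sup, map_commutator, map_subgroupOf_eq_of_le hH,
    map_subgroupOf_eq_of_le (hW.trans hH)] at h3

variable [hp : Fact p.Prime]

theorem cyc_of_relIndex (hK : K ≤ Φ[P]) (h : K.relIndex P ∣ p) : Cyc[P] := by
  refine isCyclic_of_qt_phi (isCyclic_of_card_dvd_prime (p := p) ?_)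
  rw [card_qt le_norm_phi]
  exact (relIndex_dvd_of_le_left P hK).trans h

theorem card_cent (hP : PG[p, P]) (hi : ⁅P, P⁆.relIndex P = p ^ 2) (hna : ¬ Ab[P]) (hQ : Q ≤ P)
    (ab : Ab[Q]) (hq : Q.relIndex P = p) (hn : P ≤ N[Q]) {x : G} (hx : x ∈ P) (hx' : x ∉ Q) :
    o[P ⊓ C1[x]] = p ^ 2 := by
  obtain ⟨h1, h2⟩ := CfsgH1.center_of_abelian_index ab hQ hn (hq ▸ hp.out) hna
  have e : Q ⊔ zpowers x = P := CfsgH1.sup_zpowers_eq_of_prime (hq ▸ hp.out) hQ hx hx'
  have h3 := card_mul_relIndex (inf_le_left : Z[P] ≤ P)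
  have h4 := card_mul_relIndex (commutator_self_le : ⁅P, P⁆ ≤ P)
  rw [h2, hq] at h3
  rw [hi] at h4
  have h5 : o[Z[P]] = p := by
    refine Nat.eq_of_mul_eq_mul_right (Nat.mul_pos hp.out.pos (card_pos' ⁅P, P⁆)) ?_
    rw [h3, ← h4]; ring
  have h6 : (P ⊓ C1[x]) ⊓ Q = Z[P] := by
    refine le_antisymm (le_inf (inf_le_left.trans inf_le_left) ?_)
      (le_inf (inf_le_inf_left _ (cent_le_cent1 hx)) h1)
    rw [← e, cent_sup, cent_zpowers]
    exact le_inf (inf_le_right.trans (le_cent_self ab)) (inf_le_left.trans inf_le_right)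
  have h7 : (P ⊓ C1[x]) ⊔ Q = P := by
    refine le_antisymm (sup_le inf_le_left hQ) (e.ge.trans (sup_le le_sup_right ?_))
    exact le_sup_of_le_left (zpowers_le.2 ⟨hx, self_mem_cent1 x⟩)
  have h8 := card_sup_mul_card_inf (H := P ⊓ C1[x]) (K := Q) (inf_le_left.trans hn)
  have h9 := card_mul_relIndex hQ
  rw [h6, h7, h5, ← h9, hq] at h8
  refine Nat.eq_of_mul_eq_mul_right (card_pos' Q) ?_
  rw [← h8]; ring

end CfsgTG
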