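import Mathlib
import Cfsg.Agent.H2.Syl

/-! Two-elements of symmetric groups lying in a unique Sylow two-subgroup. -/

set_option autoImplicit false

namespace CfsgUq
open Subgroup CfsgH2 Equiv MulAction

variable {Ω : Type} [Fintype Ω] [DecidableEq Ω]

/-- an involution (or the identity) with at most one fixed point -/
def NearFree (σ : Perm Ω) : Prop := σ * σ = 1 ∧ ∀ a b, σ a = a → σ b = b → a = b

def Good (x : Perm Ω) : Prop :=
  (∀ a b c, x a = a → x b = b → x c = c → a = b ∨ a = c ∨ b = c) ∧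
    ∀ a b, x a ≠ a → period x a = period x b → x.SameCycle a b

theorem odd_df (k : ℕ) : Odd (Nat.doubleFactorial (2 * k + 1)) := by
  induction k with
  | zero => simp
  | succ k ih =>
    rw [show 2 * (k + 1) + 1 = (2 * k + 1) + 2 by ring, Nat.doubleFactorial_add_two]
    exact Odd.mul ⟨k + 1, by ring⟩ ih

theorem fact_eq (n : ℕ) : ∃ m, Odd m ∧ n.factorial = 2 ^ (n / 2) * (n / 2).factorial * m := by
  rw [← Nat.doubleFactorial_two_mul]
  obtain ⟨k, rfl | rfl⟩ := Nat.even_or_odd' n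
  · rw [show 2 * k / 2 = k by omega]
    cases k with
    | zero => exact ⟨1, odd_one, by simp⟩
    | succ k =>
      exact ⟨_, odd_df k, by
        rw [show 2 * (k + 1) = (2 * k + 1) + 1 by ring, Nat.factorial_eq_mul_doubleFactorial]⟩
  · rw [show (2 * k + 1) / 2 = k by omega, Nat.factorial_eq_mul_doubleFactorial]
    exact ⟨_, odd_df k, mul_comm _ _⟩

theorem exists_sigma0 : ∃ σ : Perm Ω, NearFree σ ∧ ¬ 2 ∣ (C1[σ]).index := by
  set n := Fintype.card Ω with hn
  obtain ⟨σ, hσ⟩ := (Perm.exists_with_cycleType_iff Ω (m := Multiset.replicate (n / 2) 2)).2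
    ⟨by simp; omega, fun a ha => (Multiset.eq_of_mem_replicate ha).ge⟩
  have hs : σ.support.card = n / 2 * 2 := by rw [← Perm.sum_cycleType, hσ]; simp
  refine ⟨σ, ⟨?_, fun a b ha hb => ?_⟩, ?_⟩
  · rw [← sq, Perm.pow_prime_eq_one_iff, hσ]
    exact fun c hc => Multiset.eq_of_mem_replicate hc
  · have : σ.supportᶜ.card ≤ 1 := by rw [Finset.card_compl]; omega
    exact Finset.card_le_one.1 this a (by simpa using ha) b (by simpa using hb)
  · have h1 := Perm.nat_card_centralizer σ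
    have h2 : (∏ m ∈ σ.cycleType.toFinset, (σ.cycleType.count m).factorial) = (n / 2).factorial := by
      rw [hσ]
      rcases Nat.eq_zero_or_pos (n / 2) with e | e
      · simp [e]
      · rw [Multiset.toFinset_replicate, if_neg e.ne']; simp
    have h3 : (Fintype.card Ω - σ.cycleType.sum).factorial = 1 := by
      rw [Perm.sum_cycleType, hs, Nat.factorial_eq_one]; omega
    rw [h2, h3, hσ, Multiset.prod_replicate, one_mul] at h1
    obtain ⟨m, m1, m2⟩ := fact_eq n
    have h4 := (C1[σ]).card_mul_index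
    rw [Nat.card_eq_fintype_card (α := Perm Ω), Fintype.card_perm, ← hn, m2, h1] at h4
    rw [Nat.eq_of_mul_eq_mul_left (by positivity) h4]
    exact m1.not_two_dvd_nat

theorem NearFree.conj {σ : Perm Ω} (h : NearFree σ) (g : Perm Ω) : NearFree (g * σ * g⁻¹) := by
  refine ⟨by rw [show g * σ * g⁻¹ * (g * σ * g⁻¹) = g * (σ * σ) * g⁻¹ by group, h.1]; simp,
    fun a b ha hb => g⁻¹.injective (h.2 _ _ ?_ ?_)⟩
  · exact Perm.eq_inv_iff_eq.2 ha
  · exact Perm.eq_inv_iff_eq.2 hb

theorem exists_conj_sigma {σ : Perm Ω} (h : ¬ 2 ∣ (C1[σ]).index) {P : Subgroup (Perm Ω)}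
    (hP : IsPGroup 2 P) : ∃ g : Perm Ω, P ≤ C1[g * σ * g⁻¹] := by
  have h1 : ¬ 2 ∣ Nat.card (Perm Ω ⧸ C1[σ]) := h
  obtain ⟨q, hq⟩ := hP.nonempty_fixed_point_of_prime_not_dvd_card (Perm Ω ⧸ C1[σ]) h1
  obtain ⟨g, rfl⟩ := QuotientGroup.mk_surjective q
  refine ⟨g, fun y hy => ?_⟩
  have h2 : ((y * g : Perm Ω) : Perm Ω ⧸ C1[σ]) = g := hq ⟨y, hy⟩
  rw [QuotientGroup.eq, mem_centralizer_singleton_iff] at h2
  rw [mem_centralizer_singleton_iff]
  calc y * (g * σ * g⁻¹) = y * g * (σ * ((y * g)⁻¹ * g)) * g⁻¹ * y := by group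
    _ = g * σ * g⁻¹ * y := by rw [← h2]; group

section
variable {x σ : Perm Ω}

theorem comm_apply (hc : x * σ = σ * x) (i : ℕ) (a : Ω) : (x ^ i) (σ a) = σ ((x ^ i) a) :=
  congrArg (fun f : Perm Ω => f a) (Commute.pow_left hc i).eq

theorem per_iff (x : Perm Ω) (a : Ω) (i : ℕ) : (x ^ i) a = a ↔ period x a ∣ i :=
  pow_smul_eq_iff_period_dvd (m := x)

theorem NearFree.ss (h : NearFree σ) (a : Ω) : σ (σ a) = a :=
  congrArg (fun f : Perm Ω => f a) h.1

theorem half (hx : Good x) (h : NearFree σ) (hc : x * σ = σ * x) {a : Ω} (ha : x a ≠ a) :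
    ∃ k, period x a = 2 * k ∧ σ a = (x ^ k) a := by
  have c1 := comm_apply hc
  have h1 : σ a ≠ a := fun e => ha (h.2 _ _ (by rw [← pow_one x, ← c1, e]) e)
  have h2 : period x a = period x (σ a) := Nat.dvd_antisymm
    ((per_iff ..).1 (σ.injective (by rw [← c1, per_iff]))) ((per_iff ..).1 (by
      rw [c1, (per_iff x a _).2 dvd_rfl]))
  obtain ⟨j, -, hj⟩ := (hx.2 a _ ha h2).exists_pow_eq'
  have h3 : (x ^ (j % period x a)) a = σ a := (pow_mod_period_smul (m := x) j).trans hj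
  have hp : 0 < period x a := period_pos_of_orderOf_pos (orderOf_pos x) a
  set r := j % period x a
  have h4 : r < period x a := Nat.mod_lt _ hp
  have h5 : r ≠ 0 := fun e => h1 (by rw [← h3, e]; rfl)
  have h6 : period x a ∣ r + r := (per_iff ..).1 (by
    rw [pow_add, Perm.mul_apply, h3, c1, h3, h.ss])
  obtain ⟨t, ht⟩ := h6
  refine ⟨r, ?_, h3.symm⟩
  have : t = 1 := by
    rcases t with _ | _ | t
    · omega
    · rfl
    · nlinarith
  rw [this] at ht; omega

theorem sigma_unique (hx : Good x) (h : NearFree σ) (hc : x * σ = σ * x) {g : Perm Ω}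
    (hc' : x * (g * σ * g⁻¹) = (g * σ * g⁻¹) * x) : g * σ * g⁻¹ = σ := by
  have key : ∀ σ τ : Perm Ω, NearFree σ → NearFree τ → x * τ = τ * x → ∀ a b, x a = a →
      σ a = a → τ b = b → τ a = a := by
    intro σ τ _ hτ c a b xa _ tb
    have c1 := comm_apply c 1
    simp only [pow_one] at c1
    have xb : x b = b := hτ.2 _ _ (by rw [← c1, tb]) tb
    rcases hx.1 a (τ a) b xa (by rw [c1, xa]) xb with e | e | e
    · exact e.symm
    · rw [e, tb]
    · have := hτ.ss a
      rw [e, tb] at this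
      rw [← this, tb]
  have h' := h.conj g
  set τ := g * σ * g⁻¹ with hτ
  ext a
  by_cases ha : x a = a
  · have c1 := comm_apply hc 1
    have c2 := comm_apply hc' 1
    simp only [pow_one] at c1 c2
    rcases hx.1 a (σ a) (τ a) ha (by rw [c1, ha]) (by rw [c2, ha]) with e | e | e
    · rw [← e]
      exact key σ τ h h' hc' a (g a) ha e.symm (by simp [hτ, ← e])
    · rw [← e]
      refine (key τ σ h' h hc a (g⁻¹ a) ha e.symm (g.injective ?_)).symm
      simpa [hτ] using e.symm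
    · exact e.symm
  · obtain ⟨k, k1, k2⟩ := half hx h hc ha
    obtain ⟨l, l1, l2⟩ := half hx h' hc' ha
    rw [k2, l2, show l = k by omega]

/-- the orbits of `σ` -/
def st (h : NearFree σ) : Setoid Ω where
  r a b := b = a ∨ b = σ a
  iseqv := ⟨fun _ => Or.inl rfl, by
    rintro a b (rfl | rfl)
    · exact Or.inl rfl
    · exact Or.inr (h.ss a).symm, by
    rintro a b c (rfl | rfl) (rfl | rfl)
    · exact Or.inl rfl
    · exact Or.inr rfl
    · exact Or.inr rfl
    · exact Or.inl (h.ss a)⟩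

theorem cent_apply (g : C1[σ]) (a : Ω) : g.1 (σ a) = σ (g.1 a) :=
  congrArg (fun f : Perm Ω => f a) (mem_centralizer_singleton_iff.1 g.2)

instance act (h : NearFree σ) : MulAction C1[σ] (Quotient (st h)) where
  smul g := Quotient.map g.1 (by
    rintro a b (rfl | rfl)
    · exact Or.inl rfl
    · exact Or.inr (cent_apply g a))
  one_smul := Quotient.ind fun _ => rfl
  mul_smul _ _ := Quotient.ind fun _ => rfl

theorem phi_apply (h : NearFree σ) (g : C1[σ]) (a : Ω) :
    toPermHom C1[σ] (Quotient (st h)) g (Quotient.mk _ a) = Quotient.mk _ (g.1 a) := rfl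

theorem mk_eq (h : NearFree σ) {a b : Ω} :
    Quotient.mk (st h) b = Quotient.mk (st h) a ↔ b = a ∨ b = σ a :=
  eq_comm.trans Quotient.eq

theorem pg_ker (h : NearFree σ) : IsPGroup 2 (toPermHom C1[σ] (Quotient (st h))).ker := by
  rintro ⟨g, hg⟩
  refine ⟨1, Subtype.ext (Subtype.ext (Equiv.ext fun a => ?_))⟩
  have key : ∀ a, g.1 a = a ∨ g.1 a = σ a := fun a => (mk_eq h).1 (by
    rw [← phi_apply, MonoidHom.mem_ker.1 hg]; rfl)
  show g.1 (g.1 a) = a
  rcases key a with e | e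
  · rw [e, e]
  · rw [e, cent_apply, e, h.ss]

theorem good_bar (hx : Good x) (h : NearFree σ) (hc : x ∈ C1[σ])
    [Fintype (Quotient (st h))] [DecidableEq (Quotient (st h))] :
    Good (toPermHom C1[σ] (Quotient (st h)) ⟨x, hc⟩) := by
  set y := toPermHom C1[σ] (Quotient (st h)) ⟨x, hc⟩ with hy
  have hc' : x * σ = σ * x := mem_centralizer_singleton_iff.1 hc
  have c1 := comm_apply hc'
  have yp : ∀ (i : ℕ) a, (y ^ i) (Quotient.mk _ a) = Quotient.mk _ ((x ^ i) a) := fun i a => by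
    rw [hy, ← map_pow]; rfl
  have y1 : ∀ a, y (Quotient.mk _ a) = Quotient.mk _ (x a) := fun a => rfl
  have pr : ∀ a, x a ≠ a → period x a = 2 * period y (Quotient.mk _ a) := fun a ha => by
    obtain ⟨k, k1, k2⟩ := half hx h hc' ha
    rw [k1]
    congr 1
    apply Nat.dvd_antisymm
    · refine Nat.dvd_of_mul_dvd_mul_left two_pos ?_
      rw [← k1, ← per_iff, two_mul, pow_add, Perm.mul_apply]
      have := (per_iff y (Quotient.mk _ a) _).2 dvd_rfl
      rw [yp, mk_eq] at this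
      rcases this with e | e
      · rw [e, e]
      · rw [e, c1, e, h.ss]
    · rw [← per_iff, yp, mk_eq]
      exact Or.inr k2.symm
  have sc : ∀ a b, x a ≠ a → x b ≠ b → period y (Quotient.mk _ a) = period y (Quotient.mk _ b) →
      y.SameCycle (Quotient.mk _ a) (Quotient.mk _ b) := fun a b ha hb e => by
    obtain ⟨j, -, hj⟩ := (hx.2 a b ha (by rw [pr a ha, pr b hb, e])).exists_pow_eq'
    exact ⟨j, by rw [zpow_natCast, yp, hj]⟩
  have t1 : ∀ a b, x a = a → x b = b → Quotient.mk (st h) a = Quotient.mk (st h) b := by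
    intro a b ha hb
    have c2 := c1 1
    simp only [pow_one] at c2
    rw [mk_eq]
    rcases hx.1 b (σ b) a hb (by rw [c2, hb]) ha with e | e | e
    · rcases hx.1 a (σ a) b ha (by rw [c2, ha]) hb with f | f | f
      · exact Or.inl (h.2 _ _ f.symm e.symm)
      · exact Or.inl f
      · exact Or.inr (by rw [← f, h.ss])
    · exact Or.inl e.symm
    · exact Or.inr e.symm
  have t2 : ∀ a b, x a ≠ a → x b ≠ b → y (Quotient.mk _ a) = Quotient.mk _ a →
      y (Quotient.mk _ b) = Quotient.mk _ b → Quotient.mk (st h) a = Quotient.mk (st h) b :=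
    fun a b ha hb ea eb => (sc a b ha hb (by
      rw [(period_eq_one_iff (m := y)).2 ea, (period_eq_one_iff (m := y)).2 eb])).eq_of_left ea
  refine ⟨Quotient.ind fun a => Quotient.ind fun b => Quotient.ind fun c ha hb hc => ?_,
    Quotient.ind fun a => Quotient.ind fun b ha e => ?_⟩
  · by_cases xa : x a = a <;> by_cases xb : x b = b <;> by_cases xc : x c = c
    all_goals first
      | exact Or.inl (t1 _ _ xa xb)
      | exact Or.inl (t2 _ _ xa xb ha hb)
      | exact Or.inr (Or.inl (t1 _ _ xa xc))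
      | exact Or.inr (Or.inl (t2 _ _ xa xc ha hc))
      | exact Or.inr (Or.inr (t1 _ _ xb xc))
      | exact Or.inr (Or.inr (t2 _ _ xb xc hb hc))
  · refine sc a b (fun f => ha (by rw [y1, f])) (fun f => ha ?_) e
    have : period y (Quotient.mk (st h) b) = 1 := (period_eq_one_iff (m := y)).2 ((y1 b).trans (by rw [f]))
    exact (period_eq_one_iff (m := y)).1 (e.trans this)

end

theorem main (n : ℕ) : ∀ (Ω : Type) [Fintype Ω] [DecidableEq Ω], Fintype.card Ω = n →
    ∀ x : Perm Ω, Good x → ∃ R : Subgroup (Perm Ω), IsPGroup 2 R ∧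
      ∀ P : Subgroup (Perm Ω), IsPGroup 2 P → x ∈ P → P ≤ R := by
  induction n using Nat.strong_induction_on with
  | _ n ih =>
  intro Ω _ _ hn x hx
  by_cases h1 : Fintype.card Ω ≤ 1
  · haveI := Fintype.card_le_one_iff_subsingleton.1 h1
    exact ⟨⊥, IsPGroup.of_bot, fun P _ _ g _ => by rw [mem_bot]; ext a; exact Subsingleton.elim _ _⟩
  by_cases h2 : ∃ P : Subgroup (Perm Ω), IsPGroup 2 P ∧ x ∈ P
  swap
  · exact ⟨⊥, IsPGroup.of_bot, fun P a b => (h2 ⟨P, a, b⟩).elim⟩
  obtain ⟨P0, p1, p2⟩ := h2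
  obtain ⟨σ0, s1, s2⟩ := exists_sigma0 (Ω := Ω)
  obtain ⟨g0, hg0⟩ := exists_conj_sigma s2 p1
  have h := s1.conj g0
  set σ := g0 * σ0 * g0⁻¹ with hσ
  have hc : x ∈ C1[σ] := hg0 p2
  have all : ∀ P : Subgroup (Perm Ω), IsPGroup 2 P → x ∈ P → P ≤ C1[σ] := fun P q1 q2 => by
    obtain ⟨g, hg⟩ := exists_conj_sigma s2 q1
    have e : g * σ0 * g⁻¹ = (g * g0⁻¹) * σ * (g * g0⁻¹)⁻¹ := by rw [hσ]; group
    rw [e] at hg
    rwa [sigma_unique hx h (mem_centralizer_singleton_iff.1 hc)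
      (mem_centralizer_singleton_iff.1 (hg q2))] at hg
  classical
  haveI : Fintype (Quotient (st h)) := Fintype.ofFinite _
  have lt : Fintype.card (Quotient (st h)) < n := by
    rw [← hn]
    refine Fintype.card_lt_of_surjective_not_injective (Quotient.mk (st h))
      Quotient.mk_surjective fun inj => h1 (Fintype.card_le_one_iff.2 fun a b => ?_)
    exact h.2 _ _ (inj ((mk_eq h).2 (Or.inr rfl))) (inj ((mk_eq h).2 (Or.inr rfl)))
  obtain ⟨R, r1, r2⟩ := ih _ lt _ rfl _ (good_bar hx h hc)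
  refine ⟨(R.comap (toPermHom C1[σ] (Quotient (st h)))).map (C1[σ]).subtype,
    (r1.comap_of_ker_isPGroup _ (pg_ker h)).map _, fun P q1 q2 g hg => ?_⟩
  refine ⟨⟨g, all P q1 q2 hg⟩, r2 ((P.subgroupOf C1[σ]).map _)
    ((q1.comap_of_injective _ (C1[σ]).subtype_injective).map _) ⟨_, q2, rfl⟩ ⟨_, hg, rfl⟩, rfl⟩

theorem pg_pair {G : Type*} [Group G] [Finite G] {x t : G} (hx : ∃ k : ℕ, orderOf x = 2 ^ k)
    (ht : t * t = 1) (hc : ∀ i : ℤ, Commute t (x ^ i * t * (x ^ i)⁻¹)) :
    ∃ P : Subgroup G, IsPGroup 2 P ∧ x ∈ P ∧ t ∈ P := by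
  set S : Set G := Set.range fun i : ℤ => x ^ i * t * (x ^ i)⁻¹
  have c : ∀ a ∈ S, ∀ b ∈ S, a * b = b * a := by
    rintro _ ⟨i, rfl⟩ _ ⟨j, rfl⟩
    have := ((hc (-i + j)).map (MulAut.conj (x ^ i))).eq
    simp only [MulAut.conj_apply, zpow_add, zpow_neg] at this
    convert this using 1 <;> group
  have ab := isMulCommutative_closure c
  have pE : IsPGroup 2 (closure S) := by
    rintro ⟨g, hg⟩
    refine ⟨1, Subtype.ext ?_⟩
    show g ^ 2 = 1
    induction hg using closure_induction with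
    | mem g hg =>
      obtain ⟨i, rfl⟩ := hg
      rw [conj_pow, sq, ht]; simp
    | one => simp
    | mul a b ha hb h1 h2 =>
      have : Commute a b := congrArg Subtype.val (ab.is_comm.comm ⟨a, ha⟩ ⟨b, hb⟩)
      rw [this.mul_pow, h1, h2, one_mul]
    | inv a _ h1 => rw [inv_pow, h1, inv_one]
  have n : x ∈ N[closure S] := mem_norm_of_map_le (by
    rw [MonoidHom.map_closure]
    refine closure_mono ?_
    rintro _ ⟨_, ⟨i, rfl⟩, rfl⟩
    exact ⟨1 + i, by simp [zpow_add, mul_assoc]⟩)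
  obtain ⟨k, hk⟩ := hx
  refine ⟨closure S ⊔ zpowers x, isPGroup_sup pE (IsPGroup.of_card (by rw [Nat.card_zpowers, hk]))
    (Or.inr (by rwa [zpowers_le])), mem_sup_right (mem_zpowers x),
    mem_sup_left (subset_closure ⟨0, by simp⟩)⟩

theorem pg_swap {x : Perm Ω} (hx : ∃ k : ℕ, orderOf x = 2 ^ k) {a b : Ω}
    (h1 : ∀ i : ℤ, (x ^ i) a = a ↔ (x ^ i) b = b) (h2 : ∀ i : ℤ, (x ^ i) a = b ↔ (x ^ i) b = a) :
    ∃ P : Subgroup (Perm Ω), IsPGroup 2 P ∧ x ∈ P ∧ swap a b ∈ P := by
  refine pg_pair hx (swap_mul_self a b) fun i => ?_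
  rw [← swap_apply_apply]
  by_cases e1 : (x ^ i) a = a
  · rw [e1, (h1 i).1 e1]; exact Commute.refl _
  by_cases e2 : (x ^ i) a = b
  · rw [e2, (h2 i).1 e2, swap_comm b a]; exact Commute.refl _
  have e3 : (x ^ i) b ≠ b := fun e => e1 ((h1 i).2 e)
  have e4 : (x ^ i) b ≠ a := fun e => e2 ((h2 i).2 e)
  rw [Commute, SemiconjBy, mul_swap_eq_swap_mul, swap_apply_of_ne_of_ne e1 e2,
    swap_apply_of_ne_of_ne e4 e3]

theorem good_of_unique {x : Perm Ω} (hx : ∃ k : ℕ, orderOf x = 2 ^ k) {R : Subgroup (Perm Ω)}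
    (r1 : IsPGroup 2 R) (r2 : ∀ P : Subgroup (Perm Ω), IsPGroup 2 P → x ∈ P → P ≤ R) : Good x := by
  have key : ∀ a b c, a ≠ b → a ≠ c → b ≠ c → swap a b ∈ R → swap a c ∈ R → False := by
    intro a b c ab ac bc m1 m2
    obtain ⟨k, hk⟩ := r1 ⟨_, R.mul_mem m1 m2⟩
    have h3 := orderOf_dvd_of_pow_eq_one (congrArg Subtype.val hk)
    rw [(Perm.isThreeCycle_swap_mul_swap_same ab ac bc).orderOf] at h3
    exact absurd (Nat.prime_three.dvd_of_dvd_pow h3) (by norm_num)
  have sw : ∀ a b, (∀ i : ℤ, (x ^ i) a = a ↔ (x ^ i) b = b) →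
      (∀ i : ℤ, (x ^ i) a = b ↔ (x ^ i) b = a) → swap a b ∈ R := fun a b h1 h2 => by
    obtain ⟨P, p1, p2, p3⟩ := pg_swap hx h1 h2
    exact r2 P p1 p2 p3
  refine ⟨fun a b c ha hb hc => ?_, fun a b ha e => ?_⟩
  · by_contra! h
    have f : ∀ a b, x a = a → x b = b → swap a b ∈ R := fun a b ha hb => sw a b
      (fun i => by simp [Perm.zpow_apply_eq_self_of_apply_eq_self ha,
        Perm.zpow_apply_eq_self_of_apply_eq_self hb])
      (fun i => by
        rw [Perm.zpow_apply_eq_self_of_apply_eq_self ha,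
          Perm.zpow_apply_eq_self_of_apply_eq_self hb, eq_comm])
    exact key a b c h.1 h.2.1 h.2.2 (f a b ha hb) (f a c ha hc)
  · by_contra ns
    obtain ⟨k, hk⟩ := hx
    have d := period_dvd_orderOf x a
    rw [hk, Nat.dvd_prime_pow Nat.prime_two] at d
    obtain ⟨j, -, hj⟩ := d
    rcases j with _ | j
    · exact ha ((period_eq_one_iff (m := x)).1 hj)
    have h1 : (x ^ 2 ^ j) ((x ^ 2 ^ j) a) = a := by
      rw [← Perm.mul_apply, ← pow_add, per_iff, hj, pow_succ, mul_two]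
    have h2 : a ≠ (x ^ 2 ^ j) a := fun f => by
      have := Nat.le_of_dvd (by positivity) ((per_iff ..).1 f.symm)
      rw [hj, pow_succ] at this
      have : 0 < 2 ^ j := by positivity
      omega
    have cm : ∀ (i : ℤ) c, (x ^ i) ((x ^ 2 ^ j) c) = (x ^ 2 ^ j) ((x ^ i) c) := fun i c =>
      congrArg (fun f : Perm Ω => f c) (((Commute.refl x).zpow_left i).pow_right _).eq
    refine key a b ((x ^ 2 ^ j) a) (fun f => ns (f ▸ Perm.SameCycle.rfl)) h2
      (fun f => ns ⟨(2 ^ j : ℕ), by rw [zpow_natCast, f]⟩) (sw _ _ (fun i => ?_) fun i => ?_)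
      (sw _ _ (fun i => ?_) fun i => ?_)
    · exact (zpow_smul_eq_iff_period_dvd (g := x)).trans
        (e ▸ (zpow_smul_eq_iff_period_dvd (g := x)).symm)
    · exact iff_of_false (fun f => ns ⟨i, f⟩) fun f => ns (Perm.SameCycle.symm ⟨i, f⟩)
    · rw [cm, (x ^ 2 ^ j).injective.eq_iff]
    · rw [cm, ← (x ^ 2 ^ j).injective.eq_iff, h1]

theorem period_eq_card {x : Perm Ω} {a : Ω} (ha : x a ≠ a) :
    period x a = (x.cycleOf a).support.card := by
  have m : a ∈ (x.cycleOf a).support := by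
    rw [Perm.mem_support_cycleOf_iff]; exact ⟨Perm.SameCycle.rfl, by simpa using ha⟩
  have := fun i => (x.isCycleOn_support_cycleOf a).pow_apply_eq m (n := i)
  exact Nat.dvd_antisymm ((per_iff ..).1 ((this _).2 dvd_rfl)) ((this _).1 ((per_iff ..).2 dvd_rfl))

theorem good_iff {x : Perm Ω} :
    Good x ↔ Fintype.card Ω ≤ x.support.card + 2 ∧ x.cycleType.Nodup := by
  refine and_congr ?_ ?_
  · rw [← Finset.card_add_card_compl x.support, add_le_add_iff_left, ← not_lt, Finset.two_lt_card]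
    simp only [Finset.mem_compl, Perm.notMem_support]
    constructor
    · rintro h ⟨a, ha, b, hb, c, hc, h1, h2, h3⟩
      rcases h a b c ha hb hc with e | e | e <;> contradiction
    · intro h a b c ha hb hc
      by_contra! h'
      exact h ⟨a, ha, b, hb, c, hc, h'⟩
  · rw [Perm.cycleType_def, Multiset.nodup_map_iff_inj_on x.cycleFactorsFinset.nodup]
    constructor
    · intro h c hc d hd e
      have hc : c ∈ x.cycleFactorsFinset := hc
      have hd : d ∈ x.cycleFactorsFinset := hd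
      obtain ⟨a, ha⟩ := (Perm.mem_cycleFactorsFinset_iff.1 hc).1.nonempty_support
      obtain ⟨b, hb⟩ := (Perm.mem_cycleFactorsFinset_iff.1 hd).1.nonempty_support
      have xa : x a ≠ a := Perm.mem_support.1 (Perm.mem_cycleFactorsFinset_support_le hc ha)
      have xb : x b ≠ b := Perm.mem_support.1 (Perm.mem_cycleFactorsFinset_support_le hd hb)
      have ec := Perm.cycle_is_cycleOf ha hc
      have ed := Perm.cycle_is_cycleOf hb hd
      rw [ec, ed]
      refine (h a b xa ?_).cycleOf_eq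
      rw [period_eq_card xa, period_eq_card xb, ← ec, ← ed]
      exact e
    · intro h a b ha e
      have hb : x b ≠ b := fun f => ha ((period_eq_one_iff (m := x)).1
        (e.trans ((period_eq_one_iff (m := x)).2 f)))
      rw [period_eq_card ha, period_eq_card hb] at e
      have := h _ (Perm.cycleOf_mem_cycleFactorsFinset_iff.2 (Perm.mem_support.2 ha)) _
        (Perm.cycleOf_mem_cycleFactorsFinset_iff.2 (Perm.mem_support.2 hb)) e
      have m : b ∈ (x.cycleOf a).support := by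
        rw [this, Perm.mem_support_cycleOf_iff]; exact ⟨Perm.SameCycle.rfl, by simpa using hb⟩
      exact (Perm.mem_support_cycleOf_iff.1 m).1

end CfsgUq
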