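import Cfsg.Agent.H8.Hup2
import Cfsg.Agent.H8.MinNormal
import Cfsg.Agent.S3495
import Cfsg.Agent.H9.Om
import Cfsg.Agent.H9.Gen
import Cfsg.Agent.H9.Mc1

/-! Extremely primitive groups. -/

set_option autoImplicit false
namespace CfsgH9
open Subgroup Cfsg MulAction
open scoped IsMulCommutative

section prim
variable {H : Type*} (Δ : Type*) [Group H] [MulAction H Δ] [FaithfulSMul H Δ] [IsPreprimitive H Δ]

theorem prim_free (L : Subgroup H) [L.Normal] (h0 : L ≠ ⊥) {c : H} (hc : c ∈ centralizer (L : Set H))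
    {a : Δ} (ha : c • a = a) : c = 1 :=
  eq_of_smul_eq_smul (α := Δ) fun b => (CfsgH8.smul_eq_of_commute_of_transitive L
    (CfsgH8.transitive_of_normal_of_primitive L h0) (fun m hm => (hc m hm).symm) ha b).trans
      (one_smul _ _).symm

variable [Nonempty Δ]
include Δ

theorem prim_cent_le (L : Subgroup H) [L.Normal] (h0 : L ≠ ⊥) (ab : L ≤ centralizer (L : Set H)) :
    centralizer (L : Set H) ≤ L := fun c hc => by
  obtain ⟨a⟩ := ‹Nonempty Δ›
  obtain ⟨n, e⟩ := (CfsgH8.transitive_of_normal_of_primitive (Ω := Δ) L h0).exists_smul_eq a (c • a)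
  have := prim_free Δ L h0 (mul_mem (inv_mem (ab n.2)) hc) (a := a) (by
    rw [mul_smul, inv_smul_eq_iff]; exact e.symm)
  exact inv_mul_eq_one.1 this ▸ n.2

variable [Finite H]

theorem prim_center (h : ¬ (Nat.card H).Prime) : center H = ⊥ := by
  by_contra k
  have t := prim_cent_le Δ _ k (le_centralizer_iff.1 (center_le_centralizer _))
  have ab : ∀ a b : H, a * b = b * a := fun a b =>
    mem_center_iff.1 (t fun x hx => (mem_center_iff.1 hx b).symm) a
  obtain ⟨p, hp, d⟩ := Nat.exists_prime_and_dvd (mt card_eq_one.1 k)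
  haveI := Fact.mk hp
  obtain ⟨x, -, hx⟩ := exists_orderOf_prime_of_dvd d
  haveI : (zpowers x).Normal := ⟨fun n hn g => by rwa [ab g, mul_inv_cancel_right]⟩
  have := prim_cent_le Δ (zpowers x) (by
    rw [Ne, zpowers_eq_bot, ← orderOf_eq_one_iff, hx]; exact hp.ne_one) fun a _ b _ => ab b a
  refine h ?_
  rwa [← card_top, show ⊤ = zpowers x from (eq_top_iff.2 fun a _ => this fun b _ => ab b a).symm,
    Nat.card_zpowers, hx]

theorem prim_fit (h0 : fittingSubgroup H ≠ ⊥) : IsMulCommutative (fittingSubgroup H) ∧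
    centralizer (fittingSubgroup H : Set H) ≤ fittingSubgroup H ∧
    (∃ p : ℕ, p.Prime ∧ ∀ x ∈ fittingSubgroup H, x ^ p = 1) ∧ Nat.card Δ = Nat.card (fittingSubgroup H) ∧
    ∀ x ∈ fittingSubgroup H, ∀ a : Δ, x • a = a → x = 1 := by
  haveI := fittingSubgroup_normal (G := H)
  haveI := fittingSubgroup_nilpotent (G := H)
  generalize fittingSubgroup H = F at *
  haveI : (Zc F).Normal := normal_of_top_le (le_normalizer_Zc le_normalizer_of_normal)
  have z : Zc F ≠ ⊥ := by
    haveI := (nontrivial_iff_ne_bot F).2 h0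
    rw [Zc, ← map_subtype_center, Ne, map_eq_bot_iff_of_injective _ F.subtype_injective]
    exact Group.IsNilpotent.center_ne_bot F
  have ab : F ≤ centralizer (F : Set H) := ((le_centralizer_iff.1 inf_le_right).trans
    (prim_cent_le Δ _ z (inf_le_left.trans (le_centralizer_iff.1 inf_le_right)))).trans inf_le_right
  have cm : IsMulCommutative F := ⟨⟨fun a b => Subtype.ext (ab b.2 a a.2)⟩⟩
  have fr : ∀ x ∈ F, ∀ a : Δ, x • a = a → x = 1 := fun x hx a ha => prim_free Δ F h0 (ab hx) ha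
  refine ⟨cm, prim_cent_le Δ F h0 ab, CfsgH8.elementary_of_minimal_normal_comm F h0 (fun L _ l =>
    or_iff_not_imp_left.2 fun k => le_antisymm l ((ab.trans (centralizer_le l)).trans
      (prim_cent_le Δ L k ((l.trans ab).trans (centralizer_le l))))) cm, ?_, fr⟩
  obtain ⟨a⟩ := ‹Nonempty Δ›
  refine (Nat.card_congr (Equiv.ofBijective (fun x : F => x • a) ⟨fun x y e => ?_,
    (CfsgH8.transitive_of_normal_of_primitive (Ω := Δ) F h0).exists_smul_eq a⟩)).symm
  exact (Subtype.ext (inv_mul_eq_one.1 (fr _ (y⁻¹ * x).2 a (by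
    show (y⁻¹ * x) • a = a
    rw [mul_smul, inv_smul_eq_iff]; exact e)))).symm

end prim

theorem card_dvd_of_free {K Ω : Type*} [Group K] [MulAction K Ω] [Finite Ω] (α : Ω) (h1 : ∀ k : K, k • α = α)
    (h : ∀ k : K, ∀ ω, ω ≠ α → k • ω = ω → k = 1) : Nat.card K ∣ Nat.card Ω - 1 := by
  let X : SubMulAction K Ω := ⟨{α}ᶜ, fun g v hv e => hv (by
    rwa [Set.mem_singleton_iff, ← h1 g, smul_left_cancel_iff] at e)⟩
  have e := Nat.card_congr (selfEquivOrbitsQuotientProd (G := K) (X := X) fun v => eq_bot_iff.2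
    fun g hg => h g v v.2 (congrArg Subtype.val hg))
  rw [Nat.card_prod] at e
  have : Nat.card X = Nat.card Ω - 1 := by
    rw [← Set.ncard_univ Ω, ← Set.ncard_sdiff_singleton_of_mem (Set.mem_univ α), ← Set.compl_eq_univ_diff]
    rfl
  exact this ▸ Dvd.intro_left _ e.symm

/-- conjugation action on an abelian normal subgroup, written additively -/
@[reducible] def cjAct {G : Type*} [Group G] (N : Subgroup G) [N.Normal] [IsMulCommutative N] :
    DistribMulAction G (Additive N) where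
  smul g v := Additive.ofMul (MulAut.conjNormal g v.toMul)
  one_smul v := by change Additive.ofMul _ = _; simp
  mul_smul g h v := by change Additive.ofMul _ = Additive.ofMul (MulAut.conjNormal g _); simp; rfl
  smul_zero g := map_one (MulAut.conjNormal (H := N) g)
  smul_add g := map_mul (MulAut.conjNormal (H := N) g)

theorem exists_gl_hom {G : Type*} [Group G] [Finite G] (N : Subgroup G) [N.Normal] [IsMulCommutative N]
    {p e : ℕ} [Fact p.Prime] (h : ∀ x ∈ N, x ^ p = 1) (c : Nat.card N = p ^ e) :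
    ∃ φ : G →* GL (Fin e) (ZMod p), φ.ker = centralizer (N : Set G) := by
  letI := cjAct N
  obtain ⟨ε, ψ, k⟩ := CfsgH8.Hu.coord (G := G) (V := Additive N) (q := p)
    (fun v => Subtype.ext (h _ v.toMul.2)) c
  refine ⟨ψ, Subgroup.ext fun g => ⟨fun hg x hx => ?_, fun hg => ?_⟩⟩
  · have := ε.injective ((k g (.ofMul ⟨x, hx⟩)).trans (by
      rw [MonoidHom.mem_ker.1 hg, Units.val_one, Matrix.one_mulVec]))
    exact (mul_inv_eq_iff_eq_mul.1 (congrArg Subtype.val this :)).symm
  · refine Units.ext (Matrix.ext_of_mulVec_single fun i => ?_)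
    obtain ⟨v, hv⟩ := ε.surjective (Pi.single i 1)
    rw [← hv, ← k, Units.val_one, Matrix.one_mulVec]
    exact congrArg ε (Subtype.ext (mul_inv_eq_iff_eq_mul.2 (hg _ v.toMul.2).symm))

variable {G Ω : Type*} [Group G] [Finite G] [Fintype Ω] [MulAction G Ω] [FaithfulSMul G Ω]
  (hprim : IsPreprimitive G Ω) (hH : ∀ α : Ω, stabilizer G α ≠ ⊥)
  (hep : ∀ α ω : Ω, IsPreprimitive (stabilizer G α) (orbit (stabilizer G α) ω)) {α ω : Ω}
include hprim hH hep

theorem xp_faithful (h : ω ≠ α) : FaithfulSMul (stabilizer G α) (orbit (stabilizer G α) ω) :=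
  ⟨fun {a b} e => (inv_mul_eq_one.1 (Cfsg.Agent.S3494.result hprim hH hep α ω h _ fun x hx => by
    rw [mul_smul, inv_smul_eq_iff]; exact congrArg Subtype.val (e ⟨x, hx⟩))).symm⟩

omit hprim hep [Finite G] [Fintype Ω] in
theorem xp_exists (α : Ω) : ∃ ω, ω ≠ α := by
  by_contra! k
  exact hH α (eq_bot_iff.2 fun g _ => eq_of_smul_eq_smul (α := Ω) fun x => by rw [k (g • x), k (1 • x)])

theorem xp_fit (h0 : fittingSubgroup (stabilizer G α) ≠ ⊥) (h : ω ≠ α) :
    Nat.card (orbit (stabilizer G α) ω) = Nat.card (fittingSubgroup (stabilizer G α)) ∧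
      ∀ x ∈ fittingSubgroup (stabilizer G α), (x : G) • ω = ω → x = 1 := by
  haveI := xp_faithful hprim hH hep h
  haveI := hep α ω
  haveI : Nonempty (orbit (stabilizer G α) ω) := ⟨⟨ω, mem_orbit_self ω⟩⟩
  obtain ⟨-, -, -, a, b⟩ := prim_fit (orbit (stabilizer G α) ω) h0
  exact ⟨a, fun x hx e => b x hx ⟨ω, mem_orbit_self ω⟩ (Subtype.ext e)⟩

theorem xp_dvd (h0 : fittingSubgroup (stabilizer G α) ≠ ⊥) :
    Nat.card (fittingSubgroup (stabilizer G α)) ∣ Fintype.card Ω - 1 :=
  Nat.card_eq_fintype_card (α := Ω) ▸ card_dvd_of_free α (fun k => k.1.2) fun k _ h e =>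
    Subtype.ext ((xp_fit hprim hH hep h0 h).2 k k.2 e)

end CfsgH9
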